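import Cfsg.Agent.Blk.Pair.Saturation
import Cfsg.Agent.Fus.Control

/-!
Nilpotent blocks.
-/

set_option autoImplicit false
set_option linter.style.haveILetI false
set_option linter.unusedSectionVars false

namespace CfsgLib.Blk.Pair

open Cfsg CfsgLib.Char CfsgLib.Blk MonoidAlgebra Finset

universe u

variable {G : Type u} [Group G] [Finite G] {M : Ideal AlgInt} [M.IsPrime] {p : ℕ} [Fact p.Prime]

/-- An element of order prime to `p` acting like an element of a `p`-group acts trivially. -/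
theorem mem_Cn_of_regular {S Q : Subgroup G} (hS : IsPGroup p S) {x a : G}
    (hx : x ∈ Subgroup.normalizer (Q : Set G)) (hr : IsPRegular p x) (ha : a ∈ S)
    (he : ∀ y ∈ Q, x * y * x⁻¹ = a * y * a⁻¹) : x ∈ Cn Q := by
  obtain ⟨k, hk⟩ := hS ⟨a, ha⟩
  have hak : a ^ p ^ k = 1 := by simpa using congrArg Subtype.val hk
  have hpow : ∀ (n : ℕ), ∀ y ∈ Q, x ^ n * y * (x ^ n)⁻¹ = a ^ n * y * (a ^ n)⁻¹ := by
    intro n
    induction n with
    | zero => simp
    | succ n ih =>
      intro y hy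
      have h1 := ih (x * y * x⁻¹) (Fus.conj_mem_of_normalizer hx hy)
      calc x ^ (n + 1) * y * (x ^ (n + 1))⁻¹ = x ^ n * (x * y * x⁻¹) * (x ^ n)⁻¹ := by
            simp [pow_succ, mul_assoc]
        _ = a ^ n * (a * y * a⁻¹) * (a ^ n)⁻¹ := by rw [h1, he y hy]
        _ = a ^ (n + 1) * y * (a ^ (n + 1))⁻¹ := by simp [pow_succ, mul_assoc]
  have hc : x ^ p ^ k ∈ Cn Q := fun y hy => by
    have := hpow (p ^ k) y hy
    rw [hak, one_mul, inv_one, mul_one, mul_inv_eq_iff_eq_mul] at this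
    exact this.symm
  obtain ⟨n, hn⟩ := exists_pow_eq_self_of_coprime
    (Nat.Coprime.pow_left k ((Fact.out : p.Prime).coprime_iff_not_dvd.2 hr))
  exact hn ▸ Subgroup.pow_mem _ hc n

variable {B : Set (IrrCharacter G)} {P : Subgroup G} {e : Set (IrrCharacter (Cn P))}

/-- Nilpotency can be tested below one maximal pair. -/
theorem nilpotent_iff_local (hM : IsPModular p M) (hmax : IsMaximalBrauerPair p M B P e) :
    IsNilpotentBlock p M B ↔ ∀ (Q : Subgroup G) (f : Set (IrrCharacter (Cn Q))),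
      SubpairLE p M Q f P e → ∀ x ∈ Subgroup.normalizer (Q : Set G),
        cjA x (idA M Q f) = idA M Q f → IsPRegular p x → x ∈ Cn Q := by
  constructor
  · intro h Q f hle x hx hfix hr
    refine h.2 Q f ((pairOf_congr hM hle).1 hmax.1) x hx ?_ hr
    rw [stabilizesBlock_iff hM (subpairLE_isBrauerPair hmax.1.1 hle).2]
    exact ⟨normalizer_le_normalizer_Cn Q hx, hfix⟩
  · intro h
    refine ⟨hmax.1.2.1, fun Q f hf x hx hst hr => ?_⟩
    obtain ⟨g, hg⟩ := conj_le_maximal hM hmax hf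
    have h1 := (mem_stabilizer_conjBlock hM g hf.1 (g * x * g⁻¹)).2 (by
      rw [show g⁻¹ * (g * x * g⁻¹) * g = x by group]; exact ⟨hx, hst⟩)
    have h2 := h _ _ hg (g * x * g⁻¹) h1.1
      ((stabilizesBlock_iff hM (isBrauerPair_conjBlock g hf.1).2 _).1 h1.2).2
      (show ¬ p ∣ orderOf (g * x * g⁻¹) by
        have := orderOf_injective (MulAut.conj g).toMonoidHom (MulAut.conj g).injective x
        simp only [MulEquiv.coe_toMonoidHom, MulAut.conj_apply] at this
        rw [this]; exact hr)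
    have h3 := (mem_centralizer_map_conj Q g _).1 h2
    simpa [mul_assoc] using h3

section system

variable {F : FusionSystem P} (hM : IsPModular p M) (hF : IsBlockFusionSystemOn p M B P e F)
include hM hF

theorem isPGroup_autGroup (hnil : IsNilpotentBlock p M B) {Q : Subgroup G} (hQ : Q ≤ P) :
    IsPGroup p (F.autGroup Q) := by
  have he := hF.1.1.1
  obtain ⟨f, hf, hle⟩ := exists_subpair hM P he hQ
  rintro ⟨α, hα⟩
  obtain ⟨g, hg, hgle⟩ := (isMap_block_iff hM hF hle).1 ((Fus.mem_autGroup hQ).1 hα)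
  have hgN := Fus.mem_normalizer_of_aut hg
  have hfix := (below_normalizer_iff hM he hle hgN).1 hgle
  let m := (orderOf g).factorization p
  have hreg : IsPRegular p (g ^ p ^ m) := by
    show ¬ p ∣ orderOf (g ^ p ^ m)
    rw [orderOf_pow_of_dvd (pow_ne_zero _ (Fact.out : p.Prime).ne_zero) (Nat.ordProj_dvd _ _)]
    exact Nat.not_dvd_ordCompl Fact.out (orderOf_pos g).ne'
  have hC : g ^ p ^ m ∈ Cn Q :=
    (nilpotent_iff_local hM hF.1).1 hnil Q f hle _ (Subgroup.pow_mem _ hgN _)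
      ((fixer (idA M Q f)).pow_mem hfix _) hreg
  have hpow : ∀ (n : ℕ), ∀ y ∈ Q, Fus.autFun (α ^ n) y = g ^ n * y * (g ^ n)⁻¹ := by
    intro n
    induction n with
    | zero => intro y hy; simp [Fus.autFun_one hy]
    | succ n ih =>
      intro y hy
      rw [pow_succ, Fus.autFun_mul _ _ hy, ih _ (Fus.autFun_mem α hy), hg y hy]
      simp [pow_succ, mul_assoc]
  refine ⟨m, Subtype.ext (Fus.aut_ext fun y hy => ?_)⟩
  push_cast
  rw [hpow _ y hy, Fus.autFun_one hy, ← hC y hy, mul_inv_cancel_right]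

theorem eq_inner_of_nilpotent (hnil : IsNilpotentBlock p M B) : F = innerFusionSystem P :=
  Fus.eq_inner hF.1.1.1.1 (isSaturated_block hM hF) fun _ hQ => isPGroup_autGroup hM hF hnil hQ

theorem nilpotent_of_inner (h : ∀ Q : Subgroup G, F.Hom Q = (innerFusionSystem P).Hom Q) :
    IsNilpotentBlock p M B := by
  have he := hF.1.1.1
  refine (nilpotent_iff_local hM hF.1).2 fun Q f hle x hx hfix hr => ?_
  have hmap : Fus.IsMap F Q (Fus.conjF x) :=
    (isMap_block_iff hM hF hle).2 ⟨x, fun _ _ => rfl, (below_normalizer_iff hM he hle hx).2 hfix⟩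
  obtain ⟨φ, hφ, hφe⟩ := hmap
  rw [h Q] at hφ
  obtain ⟨-, a, ha, hae⟩ := hφ
  refine mem_Cn_of_regular he.1 hx hr ha fun y hy => ?_
  exact ((hae ⟨y, hy⟩).symm.trans (hφe ⟨y, hy⟩)).symm

theorem nilpotent_iff_inner :
    IsNilpotentBlock p M B ↔ ∀ Q : Subgroup G, F.Hom Q = (innerFusionSystem P).Hom Q :=
  ⟨fun h Q => by rw [eq_inner_of_nilpotent hM hF h], nilpotent_of_inner hM hF⟩

end system

section abelian

variable (hM : IsPModular p M) (hmax : IsMaximalBrauerPair p M B P e)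
  (hab : ∀ x ∈ P, ∀ y ∈ P, x * y = y * x)
include hM hmax hab

theorem le_Cn_of_abelian {Q : Subgroup G} (hQ : Q ≤ P) : P ≤ Cn Q :=
  fun x hx y hy => hab y (hQ hy) x hx

/-- For an abelian defect group every map extends to the whole defect group. -/
theorem exists_extension_abelian {F : FusionSystem P} (hF : IsBlockFusionSystemOn p M B P e F)
    {Q : Subgroup G} {f : Set (IrrCharacter (Cn Q))} (hle : SubpairLE p M Q f P e) {φ : G → G}
    (hφ : Fus.IsMap F Q φ) :
    ∃ y ∈ Subgroup.normalizer (P : Set G), cjA y (idA M P e) = idA M P e ∧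
      ∀ z ∈ Q, φ z = y * z * y⁻¹ := by
  have he := hmax.1.1
  have hQ := subpairLE_le hle
  have hR : F.IsReceptive (Fus.img φ Q) := by
    refine receptive_of_fullyCentralized hM hF ⟨hφ.img_le, fun R hR => ?_⟩
    have h1 : FusionSystem.centralizerIn P (Fus.img φ Q) = P :=
      inf_eq_left.2 (le_Cn_of_abelian hM hmax hab hφ.img_le)
    rw [h1]
    exact Subgroup.card_le_of_le inf_le_left
  obtain ⟨φ', hφ', hφ'e⟩ := Fus.extend hR hφ rfl (N := P) fun g hg => by
    refine ⟨hg, Subgroup.centralizer_le_normalizer _ (le_Cn_of_abelian hM hmax hab hQ hg), 1,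
      P.one_mem, fun z hz => ?_⟩
    rw [one_mul, inv_one, mul_one, ← le_Cn_of_abelian hM hmax hab hQ hg z hz,
      mul_inv_cancel_right]
  rw [sup_eq_right.2 hQ] at hφ'
  obtain ⟨y, hy, hyle⟩ := (isMap_block_iff hM hF Relation.ReflTransGen.refl).1 hφ'
  have hyP : P.map (MulAut.conj y).toMonoidHom = P :=
    Subgroup.eq_of_le_of_card_ge (subpairLE_le hyle) (card_map_conj P y).ge
  have hyN : y ∈ Subgroup.normalizer (P : Set G) := by
    refine Subgroup.mem_normalizer_iff.2 fun z => ?_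
    conv_rhs => rw [← hyP, mem_map_conj]
    simp [mul_assoc]
  exact ⟨y, hyN, (below_normalizer_iff hM he Relation.ReflTransGen.refl hyN).1 hyle,
    fun z hz => (hφ'e z hz).symm.trans (hy z (hQ hz))⟩

theorem nilpotent_iff_abelian :
    IsNilpotentBlock p M B ↔ ∀ x : G, x ∈ Subgroup.normalizer (P : Set G) →
      StabilizesBlock (Cn P) e x → x ∈ Cn P := by
  have he := hmax.1.1
  have hF := isBlockFusionSystemOn_blockSystem hM hmax
  constructor
  · intro hnil x hx hst
    have hfix := ((stabilizesBlock_iff hM he.2 x).1 hst).2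
    have hmap : Fus.IsMap (blockSystem hM he) P (Fus.conjF x) :=
      (isMap_block_iff hM hF Relation.ReflTransGen.refl).2
        ⟨x, fun _ _ => rfl, (below_normalizer_iff hM he Relation.ReflTransGen.refl hx).2 hfix⟩
    rw [eq_inner_of_nilpotent hM hF hnil] at hmap
    obtain ⟨-, a, ha, hae⟩ := Fus.isMap_inner_iff.1 hmap
    intro z hz
    have h1 : x * z * x⁻¹ = z := (hae z hz).trans (by rw [hab a ha z hz, mul_inv_cancel_right])
    exact (mul_inv_eq_iff_eq_mul.1 h1).symm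
  · intro h
    refine (nilpotent_iff_local hM hmax).2 fun Q f hle x hx hfix hr => ?_
    obtain ⟨y, hy, hyfix, hye⟩ := exists_extension_abelian hM hmax hab hF hle
      ((isMap_block_iff hM hF hle).2 ⟨x, fun _ _ => rfl,
        (below_normalizer_iff hM he hle hx).2 hfix⟩)
    have hyC := h y hy ((stabilizesBlock_iff hM he.2 y).2 ⟨normalizer_le_normalizer_Cn P hy, hyfix⟩)
    intro z hz
    have h1 : x * z * x⁻¹ = z := (hye z hz).trans (by
      rw [← hyC z (subpairLE_le hle hz), mul_inv_cancel_right])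
    exact (mul_inv_eq_iff_eq_mul.1 h1).symm

/-- The inertial group of a subpair of an abelian maximal pair. -/
theorem abelian_stabilizer {Q : Subgroup G} {f : Set (IrrCharacter (Cn Q))}
    (hle : SubpairLE p M Q f P e) (TQ : Subgroup G)
    (hTQ : ∀ y : G, y ∈ TQ ↔ y ∈ Subgroup.normalizer (Q : Set G) ∧ StabilizesBlock (Cn Q) f y)
    (TP : Subgroup G)
    (hTP : ∀ y : G, y ∈ TP ↔ y ∈ Subgroup.normalizer (P : Set G) ∧ StabilizesBlock (Cn P) e y) :
    (∀ x ∈ TQ, ∃ y ∈ TP, ∃ c ∈ Cn Q, x = y * c) ∧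
      ((Cn Q).subgroupOf TQ).index =
        ((TP ⊓ Cn Q).subgroupOf (TP ⊓ Subgroup.normalizer (Q : Set G))).index := by
  have he := hmax.1.1
  have hf := (subpairLE_isBrauerPair he hle).2
  have hF := isBlockFusionSystemOn_blockSystem hM hmax
  have hQP := subpairLE_le hle
  have hTN : TQ ≤ Subgroup.normalizer (Q : Set G) := fun y hy => ((hTQ y).1 hy).1
  have h1 : ∀ x ∈ TQ, ∃ y ∈ TP, ∃ c ∈ Cn Q, x = y * c := by
    intro x hx
    obtain ⟨hxN, hst⟩ := (hTQ x).1 hx
    obtain ⟨y, hy, hyfix, hye⟩ := exists_extension_abelian hM hmax hab hF hle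
      ((isMap_block_iff hM hF hle).2 ⟨x, fun _ _ => rfl,
        (below_normalizer_iff hM he hle hxN).2 ((stabilizesBlock_iff hM hf x).1 hst).2⟩)
    refine ⟨y, (hTP y).2 ⟨hy, (stabilizesBlock_iff hM he.2 y).2
      ⟨normalizer_le_normalizer_Cn P hy, hyfix⟩⟩, y⁻¹ * x, fun z hz => ?_, by simp⟩
    have h2 : x * z * x⁻¹ = y * z * y⁻¹ := hye z hz
    calc z * (y⁻¹ * x) = y⁻¹ * (y * z * y⁻¹) * x := by simp [mul_assoc]
      _ = y⁻¹ * x * z := by rw [← h2]; simp [mul_assoc]
  refine ⟨h1, ?_⟩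
  have hle' : TP ⊓ Subgroup.normalizer (Q : Set G) ≤ TQ := by
    rintro y ⟨hy, hyQ⟩
    obtain ⟨hyP, hst⟩ := (hTP y).1 hy
    refine (hTQ y).2 ⟨hyQ, (stabilizesBlock_iff hM hf y).2
      ⟨normalizer_le_normalizer_Cn Q hyQ, (below_normalizer_iff hM he hle hyQ).1 ?_⟩⟩
    have hfQ := subpairLE_isBrauerPair he hle
    exact subpairLE_cjPair hM hfQ (isBrauerPair_conjBlock y hfQ) he (cjPair_conjBlock y Q f)
      ⟨(map_conj_eq_of_mem_normalizer hyP).symm, ((stabilizesBlock_iff hM he.2 y).1 hst).2.symm⟩ hle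
  let φ : TQ →* MulAut Q := Q.normalizerMonoidHom.comp (Subgroup.inclusion hTN)
  let φ' : (TP ⊓ Subgroup.normalizer (Q : Set G) : Subgroup G) →* MulAut Q :=
    φ.comp (Subgroup.inclusion hle')
  have hker : ∀ t : TQ, φ t = 1 ↔ (t : G) ∈ Cn Q := fun t => by
    constructor
    · intro h z hz
      have := (Fus.normalizerMonoidHom_autFun ⟨(t : G), hTN t.2⟩ hz).symm.trans
        ((congrArg (fun α => Fus.autFun α z) h).trans (Fus.autFun_one hz))
      exact (mul_inv_eq_iff_eq_mul.1 this).symm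
    · intro h
      refine Fus.aut_ext fun z hz => ?_
      refine (Fus.normalizerMonoidHom_autFun ⟨(t : G), hTN t.2⟩ hz).trans ?_
      rw [← h z hz, mul_inv_cancel_right, Fus.autFun_one hz]
  have hk1 : φ.ker = (Cn Q).subgroupOf TQ := Subgroup.ext fun t => hker t
  have hk2 : φ'.ker = (TP ⊓ Cn Q).subgroupOf (TP ⊓ Subgroup.normalizer (Q : Set G)) :=
    Subgroup.ext fun t => (hker _).trans ⟨fun h => ⟨t.2.1, h⟩, fun h => h.2⟩
  rw [← hk1, ← hk2, Subgroup.index_ker, Subgroup.index_ker]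
  refine congrArg (fun H : Subgroup (MulAut Q) => Nat.card H) (SetLike.ext fun α => ⟨?_, ?_⟩)
  · rintro ⟨⟨x, hx⟩, rfl⟩
    obtain ⟨y, hy, c, hc, rfl⟩ := h1 x hx
    have hcN := Subgroup.centralizer_le_normalizer _ hc
    have hyN : y ∈ Subgroup.normalizer (Q : Set G) := by
      have := mul_mem (hTN hx) (inv_mem hcN)
      rwa [mul_inv_cancel_right] at this
    refine ⟨⟨y, hy, hyN⟩, Fus.aut_ext fun z hz => ?_⟩
    refine (Fus.normalizerMonoidHom_autFun ⟨y, hyN⟩ hz).trans ?_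
    refine Eq.trans ?_ (Fus.normalizerMonoidHom_autFun ⟨y * c, hTN hx⟩ hz).symm
    simp only [mul_inv_rev]
    calc y * z * y⁻¹ = y * (z * c * c⁻¹) * y⁻¹ := by simp
      _ = y * c * z * (c⁻¹ * y⁻¹) := by rw [hc z hz]; simp [mul_assoc]
  · rintro ⟨t, rfl⟩
    exact ⟨_, rfl⟩

end abelian

/-- Local blocks of a nilpotent block. -/
theorem extend_pair (hM : IsPModular p M) {Q : Subgroup G} {f : Set (IrrCharacter (Cn Q))}
    (hf : IsBrauerPair p M Q f) {R : Subgroup G} (hRC : R ≤ Cn Q)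
    {h' : Set (IrrCharacter (Cn (R.subgroupOf (Cn Q))))}
    (hh' : IsBrauerPairOf p M f (R.subgroupOf (Cn Q)) h') :
    IsNormalSubpair p M Q f (Q ⊔ R)
      (mvSet (cnEquiv' hRC (mem_Cn_sup_iff Q R)).symm h') := by
  obtain ⟨η, hη⟩ := isPBlock_nonempty hh'.1.2
  have hv := ((isBrauerPairOf_iff hM).1 hh').2.2 η hη
  rw [← mvChar_symm' (cnEquiv' hRC (mem_Cn_sup_iff Q R)) η, bid_eq_resA_self Q f, val_resA'] at hv
  exact isNormalSubpair_of_mem hM hf
    ⟨isPGroup_sup hf.1 (hh'.1.1.of_equiv (Subgroup.subgroupOfEquivOfLe hRC))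
      (hRC.trans (Cn_le_normalizer Q)), isPBlock_mvSet _ hh'.1.2⟩
    le_sup_left (sup_le_normalizer (hRC.trans (Cn_le_normalizer Q)))
    (fix_sup (((isNormalSubpair_iff hM).1 (normalSubpair_self hM hf)).2.2.2.2.1)
      ((fix_Cn_inA Q (isClassCoeff_bid hM hf.2)).mono hRC))
    ((mem_mvSet _).2 hη) hv

omit [Fact p.Prime] in
theorem resA_idA' {K R S : Subgroup G} (hR : R ≤ K) (h : ∀ g, g ∈ Cn S ↔ g ∈ K ∧ g ∈ Cn R)
    (s : Set (IrrCharacter (Cn S))) :
    resA K (idA M S s) = idA M (R.subgroupOf K) (mvSet (cnEquiv' hR h) s) := by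
  refine MonoidAlgebra.coeff_injective (Finsupp.ext fun t => ?_)
  rw [coeff_resA]
  symm
  refine coeff_inA_eq _ _ (fun t : K => (idA M S s).coeff (t : G)) (fun t ht => ?_) (fun k => ?_) t
  · exact coeff_inA_of_notMem _ _ fun hg => ht ((mem_Cn_subgroupOf hR t).2 ((h _).1 hg).2)
  · obtain ⟨l, rfl⟩ := (cnEquiv' hR h).surjective k
    rw [coeff_bid_mvSet]
    exact coeff_inA _ _ l

theorem nilpotent_local (hM : IsPModular p M) (hnil : IsNilpotentBlock p M B) {Q : Subgroup G}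
    {f : Set (IrrCharacter (Cn Q))} (hQf : IsBrauerPairOf p M B Q f) :
    IsNilpotentBlock p M f := by
  refine ⟨hQf.1.2, fun R' h' hh' x hx hst hr => ?_⟩
  obtain ⟨R, hRC, rfl⟩ : ∃ R : Subgroup G, R ≤ Cn Q ∧ R.subgroupOf (Cn Q) = R' :=
    ⟨R'.map (Cn Q).subtype, Subgroup.map_subtype_le _, by
      rw [← Subgroup.comap_subtype,
        Subgroup.comap_map_eq_self_of_injective (Cn Q).subtype_injective]⟩
  have hn := extend_pair hM hQf.1 hRC hh'
  have hof := (pairOf_congr_normal hM hn).2 hQf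
  have hxR : ∀ z, z ∈ R ↔ (x : G) * z * (x : G)⁻¹ ∈ R := by
    intro z
    have h1 := Subgroup.mem_normalizer_iff.1 hx
    constructor
    · intro hz
      exact (h1 ⟨z, hRC hz⟩).1 hz
    · intro hz
      have hzC : z ∈ Cn Q := by
        simpa [mul_assoc] using mul_mem (mul_mem (inv_mem x.2) (hRC hz)) x.2
      exact (h1 ⟨z, hzC⟩).2 hz
  have hxN : (x : G) ∈ Subgroup.normalizer ((Q ⊔ R : Subgroup G) : Set G) := by
    refine mem_normalizer_subgroup_iff.2 fun z => ?_
    have hm : (Q ⊔ R).map (MulAut.conj (x : G)).toMonoidHom = Q ⊔ R := by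
      rw [Subgroup.map_sup, map_conj_eq_of_mem_normalizer (Cn_le_normalizer Q x.2),
        map_conj_eq_of_mem_normalizer (Subgroup.mem_normalizer_iff.2 hxR)]
    have h := mem_map_conj (D := Q ⊔ R) (g := z) (x := (x : G))
    rw [hm] at h
    simpa [mul_assoc] using h
  have hfix : cjA (x : G) (idA M (Q ⊔ R) (mvSet (cnEquiv' hRC (mem_Cn_sup_iff Q R)).symm h')) =
      idA M (Q ⊔ R) (mvSet (cnEquiv' hRC (mem_Cn_sup_iff Q R)).symm h') := by
    have h0 := resA_idA' (M := M) hRC (mem_Cn_sup_iff Q R)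
      (mvSet (cnEquiv' hRC (mem_Cn_sup_iff Q R)).symm h')
    rw [show mvSet (cnEquiv' hRC (mem_Cn_sup_iff Q R))
      (mvSet (cnEquiv' hRC (mem_Cn_sup_iff Q R)).symm h') = h' by
        have := mvSet_symm (cnEquiv' hRC (mem_Cn_sup_iff Q R)).symm h'
        rwa [MulEquiv.symm_symm] at this] at h0
    have h2 := ((stabilizesBlock_iff hM hh'.1.2 x).1 hst).2
    refine MonoidAlgebra.coeff_injective (Finsupp.ext fun g => ?_)
    rw [coeff_cjA]
    by_cases hg : g ∈ Cn Q
    · have h3 := congrArg (fun z : KA M (Cn Q) => z.coeff ⟨g, hg⟩) h2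
      change (cjA x (idA M _ h')).coeff _ = _ at h3
      simp only [idA] at h0
      rw [coeff_cjA] at h3
      simp only [idA, ← h0, coeff_resA] at h3
      simpa using h3
    · rw [coeff_inA_of_notMem _ _ fun h => hg ((mem_Cn_sup_iff Q R g).1 h).1,
        coeff_inA_of_notMem _ _ fun h => hg (by
          have h3 := ((mem_Cn_sup_iff Q R _).1 h).1
          simpa [mul_assoc] using mul_mem (mul_mem x.2 h3) (inv_mem x.2))]
  have hxC := hnil.2 _ _ hof (x : G) hxN
    ((stabilizesBlock_iff hM hof.1.2 _).2 ⟨normalizer_le_normalizer_Cn _ hxN, hfix⟩)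
    (show ¬ p ∣ orderOf (x : G) by rw [Subgroup.orderOf_coe]; exact hr)
  exact (mem_Cn_subgroupOf hRC x).2 ((mem_Cn_sup_iff Q R _).1 hxC).2

theorem defectGroup_of_nilpotent (hM : IsPModular p M) (hmax : IsMaximalBrauerPair p M B P e)
    (hnil : IsNilpotentBlock p M B) {Q : Subgroup G} {f : Set (IrrCharacter (Cn Q))}
    (hle : SubpairLE p M Q f P e) : IsDefectGroup p M f ((P ⊓ Cn Q).subgroupOf (Cn Q)) := by
  have hF := isBlockFusionSystemOn_blockSystem hM hmax
  refine (fullyCentralized_iff hM hF hle).1 ⟨subpairLE_le hle, fun R hR => ?_⟩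
  rw [eq_inner_of_nilpotent hM hF hnil] at hR
  obtain ⟨φ, hφ, rfl⟩ := Fus.isConj_iff.1 hR
  obtain ⟨-, a, ha, hae⟩ := Fus.isMap_inner_iff.1 hφ
  have himg : Fus.img φ Q = Q.map (MulAut.conj a).toMonoidHom := by
    rw [Fus.img_congr hae, show (fun x => a * x * a⁻¹) = Fus.conjF a from rfl, Fus.img_conjF]
  have heq : (P ⊓ Cn Q).map (MulAut.conj a).toMonoidHom =
      FusionSystem.centralizerIn P (Fus.img φ Q) := by
    rw [himg, map_conj_inf, map_conj_eq_of_mem_normalizer (Subgroup.le_normalizer ha)]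
    show P ⊓ _ = P ⊓ _
    congr 1
    ext y
    rw [mem_map_conj (D := Cn Q), mem_centralizer_map_conj]
  rw [← heq, card_map_conj]
  exact le_rfl

end CfsgLib.Blk.Pair
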