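import Cfsg.Agent.Blk.Pair.Sub

/-!
Brauer's first main theorem over a subgroup containing the normalizer.
-/

set_option autoImplicit false
set_option linter.style.haveILetI false
set_option linter.unusedSectionVars false

namespace CfsgLib.Blk.Pair

open Cfsg CfsgLib.Char CfsgLib.Blk MonoidAlgebra Finset
open scoped ComplexConjugate

universe u

variable {G : Type u} [Group G] [Finite G] {M : Ideal AlgInt} [M.IsPrime] {p : ℕ}

theorem subSet_symm {T Q : Subgroup G} (hC : Cn Q ≤ T) (hQ : Q ≤ T)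
    (f' : Set (IrrCharacter (Cn (Q.subgroupOf T)))) :
    subSet hC hQ (mvSet (cnEquiv hC hQ).symm f') = f' := by
  have h := mvSet_symm (cnEquiv hC hQ).symm f'
  rwa [MulEquiv.symm_symm] at h

theorem subgroupOf_le_normalizer {T Q R : Subgroup G} (hQ : Q ≤ T) (hR : R ≤ T) :
    R.subgroupOf T ≤ Subgroup.normalizer ((Q.subgroupOf T : Subgroup T) : Set T) ↔
      R ≤ Subgroup.normalizer (Q : Set G) := by
  constructor
  · intro h r hr
    have h1 := Subgroup.mem_normalizer_iff.1 (h (show (⟨r, hR hr⟩ : T) ∈ R.subgroupOf T from hr))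
    rw [Subgroup.mem_normalizer_iff]
    intro g
    constructor
    · intro hg
      exact (h1 ⟨g, hQ hg⟩).1 hg
    · intro hg
      have hgT : g ∈ T := by
        have := T.mul_mem (T.mul_mem (T.inv_mem (hR hr)) (hQ hg)) (hR hr)
        simpa [mul_assoc] using this
      exact (h1 ⟨g, hgT⟩).2 hg
  · intro h r hr
    rw [Subgroup.mem_normalizer_iff]
    intro g
    simp only [Subgroup.mem_subgroupOf, Subgroup.coe_mul, Subgroup.coe_inv]
    exact Subgroup.mem_normalizer_iff.1 (h hr) (g : G)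

/-- Normal subpairs can be computed in a subgroup containing the larger member and both
centralizers. -/
theorem normalSubpair_subSet_iff (hM : IsPModular p M) {T Q R : Subgroup G} (hCQ : Cn Q ≤ T)
    (hQ : Q ≤ T) (hCR : Cn R ≤ T) (hR : R ≤ T) {f : Set (IrrCharacter (Cn Q))}
    {h : Set (IrrCharacter (Cn R))} (hf : IsBrauerPair p M Q f) (hh : IsBrauerPair p M R h) :
    IsNormalSubpair p M (Q.subgroupOf T) (subSet hCQ hQ f) (R.subgroupOf T) (subSet hCR hR h) ↔
      IsNormalSubpair p M Q f R h := by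
  obtain ⟨ξ, hξ⟩ := isPBlock_nonempty hh.2
  have hfix : Fix (R.subgroupOf T) (idA M (Q.subgroupOf T) (subSet hCQ hQ f)) ↔
      Fix R (idA M Q f) := by
    rw [← resA_idA hCQ hQ f, fix_iff, fix_iff]
    constructor
    · intro hh y hy g
      by_cases hg : g ∈ T
      · simpa using hh ⟨y, hR hy⟩ hy ⟨g, hg⟩
      · have hg' : y * g * y⁻¹ ∉ T := fun h' => hg (by
          have := T.mul_mem (T.mul_mem (T.inv_mem (hR hy)) h') (hR hy)
          simpa [mul_assoc] using this)
        rw [coeff_inA_of_notMem _ _ fun h' => hg (hCQ h'),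
          coeff_inA_of_notMem _ _ fun h' => hg' (hCQ h')]
    · intro hh y hy g
      simpa using hh (y : G) hy (g : G)
  have hv : val (R.subgroupOf T)
      (mvChar (cnEquiv hCR hR) ξ : Cn (R.subgroupOf T) → ℂ)
      (idA M (Q.subgroupOf T) (subSet hCQ hQ f)) = val R (ξ : Cn R → ℂ) (idA M Q f) := by
    rw [← resA_idA hCQ hQ f, val_resA]
  constructor
  · intro hn
    obtain ⟨-, -, hQR, hRN, hF, hV⟩ := (isNormalSubpair_iff hM).1 hn
    refine isNormalSubpair_of_mem hM hf hh ?_ ((subgroupOf_le_normalizer hQ hR).1 hRN)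
      (hfix.1 hF) hξ ?_
    · intro q hq
      exact hQR (show (⟨q, hQ hq⟩ : T) ∈ Q.subgroupOf T from hq)
    · exact hv ▸ hV _ ((mem_mvSet _).2 hξ)
  · intro hn
    obtain ⟨-, -, hQR, hRN, hF, hV⟩ := (isNormalSubpair_iff hM).1 hn
    exact isNormalSubpair_of_mem hM (isBrauerPair_subSet hCQ hQ hf)
      (isBrauerPair_subSet hCR hR hh) (fun q hq => hQR hq)
      ((subgroupOf_le_normalizer hQ hR).2 hRN) (hfix.2 hF) ((mem_mvSet _).2 hξ)
      (hv.trans (hV ξ hξ))

theorem exists_maximal_of_defectGroup (hM : IsPModular p M) [Fact p.Prime]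
    {B : Set (IrrCharacter G)} (hB : IsPBlock M B) {P : Subgroup G}
    (hD : IsDefectGroup p M B P) : ∃ e, IsMaximalBrauerPair p M B P e := by
  classical
  have hP := IsDefectGroup.isPGroup hD
  have hb := isClassCoeff_bid hM hB
  obtain ⟨e, he, hv⟩ := exists_block_of_ne_zero hM (isClassCoeff_resA (Cn P) hb)
    (by rw [← resA_Cn_mul hM hP (fix_of_classCoeff P hb) (fix_of_classCoeff P hb),
      bid_mul_self hM hB]) (fun h0 => brMap_blockIdem_defectGroup_ne_zero hM hB hD
      (MonoidAlgebra.coeff_injective (Finsupp.ext fun g => by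
        rw [coeff_brMap]
        split_ifs with hg
        · rw [← bid_eq hM hB]
          have h1 := congrArg (fun z : KA M (Cn P) => z.coeff ⟨g, hg⟩) h0
          simpa using h1
        · simp)))
  exact ⟨e, maximal_of_card hM ((isBrauerPairOf_iff hM).2 ⟨⟨hP, he⟩, hB, hv⟩) hD le_rfl⟩

/-- A pair that is not maximal has a proper normal extension. -/
theorem maximal_of_no_normalSubpair (hM : IsPModular p M) [Fact p.Prime]
    {B : Set (IrrCharacter G)} {P : Subgroup G} {e : Set (IrrCharacter (Cn P))}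
    (h : IsBrauerPairOf p M B P e)
    (hno : ∀ (R : Subgroup G) (g : Set (IrrCharacter (Cn R))),
      IsNormalSubpair p M P e R g → R = P) : IsMaximalBrauerPair p M B P e := by
  refine ⟨h, fun R g hR hle => ?_⟩
  by_contra hne
  have hlt : P < R := lt_of_le_of_ne (subpairLE_le hle) (Ne.symm hne)
  haveI := hR.1.1.isNilpotent
  obtain ⟨x, hxN, hxP⟩ := SetLike.exists_of_lt
    (Group.normalizerCondition_of_isNilpotent (G := R) (P.subgroupOf R) (lt_top_iff_ne_top.2
      (by rw [Ne, Subgroup.subgroupOf_eq_top]; exact not_le_of_gt hlt)))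
  let S := (Subgroup.normalizer ((P.subgroupOf R : Subgroup R) : Set R)).map R.subtype
  have hSR : S ≤ R := Subgroup.map_subtype_le _
  have hPS : P ≤ S := fun y hy => ⟨⟨y, hlt.le hy⟩, Subgroup.le_normalizer hy, rfl⟩
  have hSN : S ≤ Subgroup.normalizer (P : Set G) := by
    rintro _ ⟨n, hn, rfl⟩
    refine Subgroup.mem_normalizer_iff.2 fun g => ⟨fun hg => ?_, fun hg => ?_⟩
    · exact (Subgroup.mem_normalizer_iff.1 hn ⟨g, hlt.le hg⟩).1 hg
    · have hgR : g ∈ R := by
        simpa [mul_assoc] using R.mul_mem (R.mul_mem (R.inv_mem n.2) (hlt.le hg)) n.2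
      exact (Subgroup.mem_normalizer_iff.1 hn ⟨g, hgR⟩).2 hg
  obtain ⟨k, hk, hkle⟩ := exists_subpair hM R hR.1 hSR
  have h1 := normalSubpair_of_le hM hk (subpair_between hM hk hPS hle hkle) hSN
  exact hxP (show (x : G) ∈ P from (hno S k h1).le ⟨x, hxN, rfl⟩)

/-- Maximality can be tested in a subgroup containing the normalizer. -/
theorem maximal_subSet_iff (hM : IsPModular p M) [Fact p.Prime] {H P : Subgroup G}
    (hH : Subgroup.normalizer (P : Set G) ≤ H) {e : Set (IrrCharacter (Cn P))}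
    {B : Set (IrrCharacter G)} (hB : IsBrauerPairOf p M B P e) {c : Set (IrrCharacter H)}
    (hc : IsBrauerPairOf p M c (P.subgroupOf H)
      (subSet ((Cn_le_normalizer P).trans hH) (Subgroup.le_normalizer.trans hH) e)) :
    IsMaximalBrauerPair p M c (P.subgroupOf H)
        (subSet ((Cn_le_normalizer P).trans hH) (Subgroup.le_normalizer.trans hH) e) ↔
      IsMaximalBrauerPair p M B P e := by
  have hP : P ≤ H := Subgroup.le_normalizer.trans hH
  have hC : Cn P ≤ H := (Cn_le_normalizer P).trans hH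
  constructor
  · intro hmax
    refine maximal_of_no_normalSubpair hM hB fun R g hn => ?_
    have hRH : R ≤ H := hn.2.2.2.1.trans hH
    have hCR : Cn R ≤ H := (Cn_antitone hn.2.2.1).trans hC
    have h1 := (normalSubpair_subSet_iff hM hC hP hCR hRH hB.1 hn.2.1).2 hn
    have h2 := hmax.2 _ _ ((pairOf_congr_normal hM h1).2 hc) (Relation.ReflTransGen.single h1)
    have h3 := congrArg (Subgroup.map H.subtype) h2
    rwa [Subgroup.map_subgroupOf_eq_of_le hRH, Subgroup.map_subgroupOf_eq_of_le hP] at h3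
  · intro hmax
    refine maximal_of_no_normalSubpair hM hc fun R' g' hn => ?_
    obtain ⟨R, hRH, rfl⟩ : ∃ R : Subgroup G, R ≤ H ∧ R.subgroupOf H = R' :=
      ⟨R'.map H.subtype, Subgroup.map_subtype_le _, by
        rw [← Subgroup.comap_subtype, Subgroup.comap_map_eq_self_of_injective H.subtype_injective]⟩
    have hPR : P ≤ R := fun q hq => hn.2.2.1 (show (⟨q, hP hq⟩ : H) ∈ P.subgroupOf H from hq)
    have hCR : Cn R ≤ H := (Cn_antitone hPR).trans hC
    rw [← subSet_symm hCR hRH g'] at hn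
    have hg : IsBrauerPair p M R (mvSet (cnEquiv hCR hRH).symm g') :=
      ⟨hn.2.1.1.of_equiv (Subgroup.subgroupOfEquivOfLe hRH), isPBlock_mvSet _ (by
        rw [← subSet_symm hCR hRH g']; exact hn.2.1.2)⟩
    have h1 := (normalSubpair_subSet_iff hM hC hP hCR hRH hB.1 hg).1 hn
    rw [hmax.2 _ _ ((pairOf_congr_normal hM h1).2 hB) (Relation.ReflTransGen.single h1)]

theorem resA_orbitSum_subgroupOf {H P : Subgroup G}
    (hH : Subgroup.normalizer (P : Set G) ≤ H) {e : Set (IrrCharacter (Cn P))} :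
    resA H (orbitSum M P e) = orbitSum M (P.subgroupOf H)
      (subSet ((Cn_le_normalizer P).trans hH) (Subgroup.le_normalizer.trans hH) e) := by
  classical
  have hP : P ≤ H := Subgroup.le_normalizer.trans hH
  have hC : Cn P ≤ H := (Cn_le_normalizer P).trans hH
  have hsupp : ∀ a ∈ orbitSet M P e, ∀ g, g ∉ H → a.coeff g = 0 := by
    intro a ha g hg
    obtain ⟨n, rfl⟩ := mem_orbitSet.1 ha
    rw [coeff_cjA]
    refine coeff_inA_of_notMem _ _ fun h => hg ?_
    simpa [mul_assoc] using H.mul_mem (H.mul_mem (hH n.2) (hC h)) (H.inv_mem (hH n.2))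
  have hinj : Set.InjOn (resA (R := Res M) H) (orbitSet M P e : Set (KA M G)) := by
    intro a ha b hb hab
    rw [← mapDomain_resA H (hsupp a ha), hab, mapDomain_resA H (hsupp b hb)]
  have hsum : resA H (orbitSum M P e) = ∑ a ∈ orbitSet M P e, resA H a := by
    refine MonoidAlgebra.coeff_injective (Finsupp.ext fun x => ?_)
    simp [orbitSum, MonoidAlgebra.coeff_sum, Finset.sum_apply']
  have hcj : ∀ (n : G) (hn : n ∈ H), resA H (cjA n (idA M P e)) =
      cjA ⟨n, hn⟩ (idA M (P.subgroupOf H) (subSet hC hP e)) := by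
    intro n hn
    rw [← resA_idA hC hP e]
    refine MonoidAlgebra.coeff_injective (Finsupp.ext fun x => ?_)
    rw [coeff_resA, coeff_cjA, coeff_cjA, coeff_resA]
    rfl
  have hN : ∀ n : H, n ∈ Subgroup.normalizer ((P.subgroupOf H : Subgroup H) : Set H) ↔
      (n : G) ∈ Subgroup.normalizer (P : Set G) := by
    intro n
    simp only [Subgroup.mem_normalizer_iff, Subgroup.mem_subgroupOf, Subgroup.coe_mul,
      Subgroup.coe_inv]
    refine ⟨fun h g => ⟨fun hg => (h ⟨g, hP hg⟩).1 hg, fun hg => ?_⟩, fun h g => h g⟩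
    have hgH : g ∈ H := by
      simpa [mul_assoc] using H.mul_mem (H.mul_mem (H.inv_mem n.2) (hP hg)) n.2
    exact (h ⟨g, hgH⟩).2 hg
  rw [hsum, ← Finset.sum_image (f := fun a => a) hinj]
  refine Finset.sum_congr ?_ fun _ _ => rfl
  ext a
  simp only [Finset.mem_image, mem_orbitSet]
  constructor
  · rintro ⟨_, ⟨n, rfl⟩, rfl⟩
    exact ⟨⟨⟨n, hH n.2⟩, (hN _).2 n.2⟩, (hcj n (hH n.2)).symm⟩
  · rintro ⟨n, rfl⟩
    exact ⟨_, ⟨⟨((n : H) : G), (hN _).1 n.2⟩, rfl⟩, hcj _ (n : H).2⟩

theorem resA_bid_eq_orbitSum (hM : IsPModular p M) [Fact p.Prime] {B : Set (IrrCharacter G)}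
    {P : Subgroup G} {e : Set (IrrCharacter (Cn P))} (hmax : IsMaximalBrauerPair p M B P e) :
    resA (Cn P) (bid M B) = resA (Cn P) (orbitSum M P e) := by
  classical
  obtain ⟨he, hB, -⟩ := (isBrauerPairOf_iff hM).1 hmax.1
  have hb := isClassCoeff_bid hM hB
  have hE := adm_orbitSum (M := M) (e := e) (Subgroup.le_normalizer (H := P)) le_rfl
  refine eq_of_idem_lam hM (isClassCoeff_resA _ hb) hE.classCoeff
    (by rw [← resA_Cn_mul hM he.1 (fix_of_classCoeff P hb) (fix_of_classCoeff P hb),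
      bid_mul_self hM hB])
    (by rw [← resA_Cn_mul hM he.1 hE.1 hE.1, orbitSum_idem hM he]) fun ξ => ?_
  change val P (ξ : Cn P → ℂ) (bid M B) = val P (ξ : Cn P → ℂ) (orbitSum M P e)
  have hξ : ξ ∈ blockOf M (ξ : Cn P → ℂ) := sameBlock_refl _
  have hp : IsBrauerPair p M P (blockOf M (ξ : Cn P → ℂ)) := ⟨he.1, blockOf_isPBlock ξ⟩
  rcases val_idem (ξ := ξ) hM he.1 hE (orbitSum_idem hM he) with h0 | h1
  · rw [h0]
    refine (val_idem hM he.1 (adm_of_classCoeff hb) (bid_mul_self hM hB)).resolve_right fun h1 => ?_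
    obtain ⟨n, hn, hcj⟩ := maximal_orbit hM hmax (isBrauerPairOf_of_mem hM hB hp hξ h1)
    obtain ⟨-, -, -, -, hfix, hv⟩ := (isNormalSubpair_iff hM).1 (normalSubpair_self hM hp)
    have h3 : idA M P (blockOf M (ξ : Cn P → ℂ)) * orbitSum M P e =
        idA M P (blockOf M (ξ : Cn P → ℂ)) := by
      rw [hcj.2, ← fix_orbitSum (M := M) (e := e) n hn, ← map_mul]
      congr 1
      simp only [orbitSum, Finset.mul_sum]
      rw [Finset.sum_eq_single (idA M P e)]
      · rw [idA, ← map_mul, bid_mul_self hM he.2]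
      · intro b hb hne
        obtain ⟨m, rfl⟩ := mem_orbitSet.1 hb
        obtain ⟨e₂, he₂, h2⟩ := conj_normalizer_block he m.2
        rw [← h2, idA, idA, ← map_mul, bid_mul_ne hM he.2 he₂.2, map_zero]
        rintro rfl
        exact hne h2.symm
      · exact fun h => absurd (mem_orbitSet.2 ⟨1, cjA_one _⟩) h
    have h4 := val_mul (ξ := ξ) hM he.1 (adm_inA le_rfl (isClassCoeff_bid hM hp.2) hfix) hE
    rw [h3, hv ξ hξ, one_mul, h0] at h4
    exact one_ne_zero h4
  · rw [h1]
    obtain ⟨n, -, hcj⟩ := exists_conj_of_val_orbitSum hM he hp hξ h1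
    exact ((isBrauerPairOf_iff hM).1 (pairOf_cjPair hM hp hcj hmax.1)).2.2 ξ hξ

theorem agree_iff (hM : IsPModular p M) {H P : Subgroup G} (hC : Cn P ≤ H)
    {B : Set (IrrCharacter G)} {c : Set (IrrCharacter H)} (hB : IsPBlock M B)
    (hc : IsPBlock M c) :
    (∀ x : G, x ∈ Cn P → MemLocalIdeal M (blockCoeff B x - subgroupBlockCoeff H c x)) ↔
      resA (Cn P) (bid M B) = resA (Cn P) (inA H (bid M c)) := by
  have key : ∀ x : Cn P, MemLocalIdeal M (blockCoeff B x - subgroupBlockCoeff H c x) ↔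
      (resA (Cn P) (bid M B)).coeff x = (resA (Cn P) (inA H (bid M c))).coeff x := by
    intro x
    have h1 : subgroupBlockCoeff H c (x : G) ∈ locRing M := by
      rw [subgroupBlockCoeff, dif_pos (hC x.2)]
      exact blockCoeff_mem hM hc _
    rw [coeff_resA, coeff_resA, coeff_bid, ← red_subgroupBlockCoeff,
      ← red_eq_zero_iff (sub_mem (blockCoeff_mem hM hB _) h1),
      red_sub (blockCoeff_mem hM hB _) h1, sub_eq_zero]
  constructor
  · intro h
    exact MonoidAlgebra.coeff_injective (Finsupp.ext fun x => (key x).1 (h x x.2))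
  · intro h x hx
    exact (key ⟨x, hx⟩).2 (congrArg (fun z : KA M (Cn P) => z.coeff ⟨x, hx⟩) h)

theorem resA_inA_orbit {H P : Subgroup G} (hH : Subgroup.normalizer (P : Set G) ≤ H)
    {c : Set (IrrCharacter H)} {e : Set (IrrCharacter (Cn P))}
    (h : resA (Cn (P.subgroupOf H)) (bid M c) = resA (Cn (P.subgroupOf H))
      (orbitSum M (P.subgroupOf H)
        (subSet ((Cn_le_normalizer P).trans hH) (Subgroup.le_normalizer.trans hH) e))) :
    resA (Cn P) (inA H (bid M c)) = resA (Cn P) (orbitSum M P e) := by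
  refine MonoidAlgebra.coeff_injective (Finsupp.ext fun x => ?_)
  have h1 := congrArg (fun z : KA M (Cn (P.subgroupOf H)) =>
    z.coeff (cnEquiv ((Cn_le_normalizer P).trans hH) (Subgroup.le_normalizer.trans hH) x)) h
  rw [← resA_orbitSum_subgroupOf hH] at h1
  simp only [coeff_resA, coe_cnEquiv] at h1
  rw [coeff_resA, coeff_resA, ← h1]
  exact coeff_inA H _ ⟨x, ((Cn_le_normalizer P).trans hH) x.2⟩

/-- Brauer's first main theorem. -/
theorem brauerCorrespondence (hM : IsPModular p M) [Fact p.Prime] {P H : Subgroup G}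
    (hH : Subgroup.normalizer (P : Set G) ≤ H) :
    (∀ B : Set (IrrCharacter G), IsPBlock M B → IsDefectGroup p M B P →
      ∃! c : Set (IrrCharacter H), IsPBlock M c ∧ IsDefectGroup p M c (P.subgroupOf H) ∧
        ∀ x : G, x ∈ Cn P → MemLocalIdeal M (blockCoeff B x - subgroupBlockCoeff H c x)) ∧
    (∀ c : Set (IrrCharacter H), IsPBlock M c → IsDefectGroup p M c (P.subgroupOf H) →
      ∃! B : Set (IrrCharacter G), IsPBlock M B ∧ IsDefectGroup p M B P ∧
        ∀ x : G, x ∈ Cn P → MemLocalIdeal M (blockCoeff B x - subgroupBlockCoeff H c x)) := by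
  have hP : P ≤ H := Subgroup.le_normalizer.trans hH
  have hC : Cn P ≤ H := (Cn_le_normalizer P).trans hH
  have key : ∀ {B : Set (IrrCharacter G)} {c : Set (IrrCharacter H)}
      {e : Set (IrrCharacter (Cn P))}, IsMaximalBrauerPair p M B P e →
      IsMaximalBrauerPair p M c (P.subgroupOf H) (subSet hC hP e) →
      ∀ x : G, x ∈ Cn P → MemLocalIdeal M (blockCoeff B x - subgroupBlockCoeff H c x) := by
    intro B c e h1 h2
    rw [agree_iff hM hC h1.1.2.1 h2.1.2.1, resA_bid_eq_orbitSum hM h1,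
      resA_inA_orbit hH (resA_bid_eq_orbitSum hM h2)]
  have hval : ∀ {B : Set (IrrCharacter G)} {c : Set (IrrCharacter H)} (ξ : IrrCharacter (Cn P)),
      IsPBlock M B → IsPBlock M c →
      (∀ x : G, x ∈ Cn P → MemLocalIdeal M (blockCoeff B x - subgroupBlockCoeff H c x)) →
      val (P.subgroupOf H) (mvChar (cnEquiv hC hP) ξ : Cn (P.subgroupOf H) → ℂ) (bid M c) =
        val P (ξ : Cn P → ℂ) (bid M B) := by
    intro B c ξ hB hc h
    conv_lhs => rw [← resA_inA H (bid M c), val_resA hC hP ξ]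
    rw [val, val, (agree_iff hM hC hB hc).1 h]
  constructor
  · intro B hB hD
    obtain ⟨e, he⟩ := exists_maximal_of_defectGroup hM hB hD
    obtain ⟨c, hc, huc⟩ := existsUnique_block hM (isBrauerPair_subSet hC hP he.1.1)
    have hcmax := (maximal_subSet_iff hM hH he.1 hc).2 he
    refine ⟨c, ⟨hc.2.1, isDefectGroup_of_maximal hM hcmax, key he hcmax⟩, ?_⟩
    rintro c' ⟨hc', -, hag⟩
    obtain ⟨hep, -, hv⟩ := (isBrauerPairOf_iff hM).1 he.1
    obtain ⟨ξ, hξ⟩ := isPBlock_nonempty hep.2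
    refine huc c' (isBrauerPairOf_of_mem hM hc' (isBrauerPair_subSet hC hP hep)
      ((mem_mvSet _).2 hξ) ?_)
    rw [hval ξ hB hc' hag, hv ξ hξ]
  · intro c hc hD
    obtain ⟨e', he'⟩ := exists_maximal_of_defectGroup hM hc hD
    rw [← subSet_symm hC hP e'] at he'
    set e := mvSet (cnEquiv hC hP).symm e'
    have hep : IsBrauerPair p M P e :=
      ⟨he'.1.1.1.of_equiv (Subgroup.subgroupOfEquivOfLe hP), isPBlock_mvSet _ (by
        rw [← subSet_symm hC hP e']; exact he'.1.1.2)⟩
    obtain ⟨B, hB, huB⟩ := existsUnique_block hM hep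
    have hBmax := (maximal_subSet_iff hM hH hB he'.1).1 he'
    refine ⟨B, ⟨hB.2.1, isDefectGroup_of_maximal hM hBmax, key hBmax he'⟩, ?_⟩
    rintro B' ⟨hB', -, hag⟩
    obtain ⟨ξ, hξ⟩ := isPBlock_nonempty hep.2
    refine huB B' (isBrauerPairOf_of_mem hM hB' hep hξ ?_)
    rw [← hval ξ hB' hc hag]
    exact ((isBrauerPairOf_iff hM).1 he'.1).2.2 _ ((mem_mvSet _).2 hξ)

end CfsgLib.Blk.Pair
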