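import Cfsg.Agent.Blk.Pair.Conj
import Cfsg.Agent.Blk.Principal

/-!
Maximal Brauer pairs: their subgroups are the defect groups and they are all conjugate.
-/

set_option autoImplicit false
set_option linter.style.haveILetI false
set_option linter.unusedSectionVars false

namespace CfsgLib.Blk.Pair

open Cfsg CfsgLib.Char CfsgLib.Blk MonoidAlgebra Finset
open scoped ComplexConjugate

universe u

variable {G : Type u} [Group G] [Finite G] {M : Ideal AlgInt} [M.IsPrime] {p : ℕ}

/-- The reduced central character of a Brauer pair of `B` is that of `B`. -/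
theorem val_eq_lam (hM : IsPModular p M) {B : Set (IrrCharacter G)} {P : Subgroup G}
    {e : Set (IrrCharacter (Cn P))} (h : IsBrauerPairOf p M B P e) {ξ : IrrCharacter (Cn P)}
    (hξ : ξ ∈ e) {χ : IrrCharacter G} (hχ : χ ∈ B) {a : KA M G} (ha : IsClassCoeff a) :
    val P (ξ : Cn P → ℂ) a = lam (χ : G → ℂ) a := by
  classical
  obtain ⟨he, hB, hv⟩ := (isBrauerPairOf_iff hM).1 h
  have hb := isClassCoeff_bid hM hB
  set c := lam (χ : G → ℂ) a with hc
  set x := bid M B * a - c • bid M B with hx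
  have hxc : IsClassCoeff x := (hb.mul ha).sub (hb.smul c)
  obtain ⟨n, hn⟩ : IsNilpotent x := by
    refine isNilpotent_of_lam hM hxc fun ψ => ?_
    rw [lam_sub ψ.2 (hb.mul ha) (hb.smul c), lam_mul ψ.2 hb ha, lam_smul ψ.2 c hb, lam_bid hM hB]
    split_ifs with hψ
    · rw [one_mul, mul_one, hc, lam_congr ψ.2 χ.2 (sameBlock_of_mem hB hψ hχ) ha, sub_self]
    · simp
  have hpow : ∀ k : ℕ, val P (ξ : Cn P → ℂ) (x ^ k) = val P (ξ : Cn P → ℂ) x ^ k := by
    intro k
    induction k with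
    | zero => simp [val_one]
    | succ k ih =>
      rw [pow_succ, pow_succ, val_mul hM he.1 (adm_of_classCoeff (hxc.pow k))
        (adm_of_classCoeff hxc), ih]
  have h0 : val P (ξ : Cn P → ℂ) x = 0 :=
    IsReduced.eq_zero _ ⟨n, by rw [← hpow, hn, val_zero]⟩
  have hsub : val P (ξ : Cn P → ℂ) x =
      val P (ξ : Cn P → ℂ) (bid M B * a) - val P (ξ : Cn P → ℂ) (c • bid M B) := by
    rw [val, hx, resA_sub, lam_sub ξ.2 (isClassCoeff_resA _ (hb.mul ha))
      (isClassCoeff_resA _ (hb.smul c))]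
    rfl
  rwa [hsub, val_mul hM he.1 (adm_of_classCoeff hb) (adm_of_classCoeff ha),
    val_smul c (adm_of_classCoeff hb), hv ξ hξ, one_mul, mul_one, sub_eq_zero] at h0

theorem exists_conj_le_defectGroup (hM : IsPModular p M) [Fact p.Prime]
    {B : Set (IrrCharacter G)} {Q : Subgroup G} {f : Set (IrrCharacter (Cn Q))}
    (h : IsBrauerPairOf p M B Q f) {D : Subgroup G} (hD : IsDefectGroup p M B D) :
    ∃ x : G, Q.map (MulAut.conj x).toMonoidHom ≤ D := by
  classical
  obtain ⟨hf, hB, hv⟩ := (isBrauerPairOf_iff hM).1 h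
  obtain ⟨ξ, hξ⟩ := isPBlock_nonempty hf.2
  refine (brMap_blockIdem_ne_zero_iff hM hB hD Q hf.1).1 fun h0 => ?_
  have h1 : resA (Cn Q) (bid M B) = 0 := by
    refine MonoidAlgebra.coeff_injective (Finsupp.ext fun x => ?_)
    have h2 := congrArg (fun z : KA M G => z.coeff (x : G)) h0
    simp only [coeff_brMap, if_pos x.2, MonoidAlgebra.coeff_zero, Finsupp.zero_apply] at h2
    simp [bid_eq hM hB, h2]
  have h3 := hv ξ hξ
  rw [val, h1, lam_zero ξ.2] at h3
  exact zero_ne_one h3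

/-- The conjugates under the normalizer of the idempotent of a pair. -/
noncomputable def orbitSet (M : Ideal AlgInt) [M.IsPrime] (P : Subgroup G)
    (e : Set (IrrCharacter (Cn P))) : Finset (KA M G) :=
  (Set.finite_range fun n : Subgroup.normalizer (P : Set G) => cjA (n : G) (idA M P e)).toFinset

theorem mem_orbitSet {P : Subgroup G} {e : Set (IrrCharacter (Cn P))} {a : KA M G} :
    a ∈ orbitSet M P e ↔
      ∃ n : Subgroup.normalizer (P : Set G), cjA (n : G) (idA M P e) = a :=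
  (Set.Finite.mem_toFinset _).trans Set.mem_range

/-- The sum of the conjugates under the normalizer of the idempotent of a pair. -/
noncomputable def orbitSum (M : Ideal AlgInt) [M.IsPrime] (P : Subgroup G)
    (e : Set (IrrCharacter (Cn P))) : KA M G :=
  ∑ a ∈ orbitSet M P e, a

theorem map_conj_eq_of_mem_normalizer {P : Subgroup G} {n : G}
    (hn : n ∈ Subgroup.normalizer (P : Set G)) : P.map (MulAut.conj n).toMonoidHom = P := by
  ext x
  rw [mem_map_conj]
  exact ((mem_normalizer_subgroup_iff.1 hn) x).symm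

theorem conj_normalizer_block {P : Subgroup G} {e : Set (IrrCharacter (Cn P))}
    (he : IsBrauerPair p M P e) {n : G} (hn : n ∈ Subgroup.normalizer (P : Set G)) :
    ∃ e', IsBrauerPair p M P e' ∧ idA M P e' = cjA n (idA M P e) :=
  ⟨_, ⟨he.1, isPBlock_mvSet (cjIso n (mem_Cn_conj_iff hn)) he.2⟩, inA_bid_mvSet n _ e⟩

section orbit

variable (hM : IsPModular p M) {P : Subgroup G} {e : Set (IrrCharacter (Cn P))}
  (he : IsBrauerPair p M P e)

theorem fix_orbitSum : Fix (Subgroup.normalizer (P : Set G)) (orbitSum M P e) := by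
  classical
  intro y hy
  have hinj : Function.Injective (cjA (M := M) (G := G) y) := fun a b h => by
    have := congrArg (cjA y⁻¹) h
    simpa [cjA_mul_apply, cjA_one] using this
  simp only [orbitSum, map_sum]
  rw [← Finset.sum_image (f := fun a => a) hinj.injOn]
  refine Finset.sum_congr ?_ fun _ _ => rfl
  ext a
  simp only [Finset.mem_image, mem_orbitSet]
  constructor
  · rintro ⟨_, ⟨n, rfl⟩, rfl⟩
    refine ⟨(⟨y, hy⟩ : Subgroup.normalizer (P : Set G)) * n, ?_⟩
    rw [cjA_mul_apply, Subgroup.coe_mul]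
  · rintro ⟨n, rfl⟩
    refine ⟨_, ⟨(⟨y, hy⟩ : Subgroup.normalizer (P : Set G))⁻¹ * n, rfl⟩, ?_⟩
    rw [cjA_mul_apply, Subgroup.coe_mul, Subgroup.coe_inv, mul_inv_cancel_left]

theorem coeff_orbitSum_of_notMem {g : G} (hg : g ∉ Cn P) : (orbitSum M P e).coeff g = 0 := by
  classical
  simp only [orbitSum, MonoidAlgebra.coeff_sum, Finset.sum_apply']
  refine Finset.sum_eq_zero fun a ha => ?_
  obtain ⟨n, rfl⟩ := mem_orbitSet.1 ha
  rw [coeff_cjA]
  exact coeff_inA_of_notMem _ _ fun h => hg ((mem_Cn_conj_iff n.2 g).2 h)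

theorem Cn_le_normalizer (P : Subgroup G) : Cn P ≤ Subgroup.normalizer (P : Set G) := by
  intro c hc
  refine mem_normalizer_subgroup_iff.2 fun g => ?_
  constructor
  · intro hg
    rwa [mul_assoc, hc g hg, inv_mul_cancel_left]
  · intro hg
    have h1 := hc _ hg
    have : g = c⁻¹ * g * c := by
      calc g = c * (c⁻¹ * g * c) * c⁻¹ := by group
        _ = _ := by rw [← h1]; group
    rwa [this]

theorem adm_orbitSum {R : Subgroup G} (hR : R ≤ Subgroup.normalizer (P : Set G))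
    (hPR : P ≤ R) : Adm R (orbitSum M P e) :=
  ⟨fix_orbitSum.mono hR, fix_orbitSum.mono ((Cn_antitone hPR).trans (Cn_le_normalizer P))⟩

include hM he

theorem orbitSum_idem : orbitSum M P e * orbitSum M P e = orbitSum M P e := by
  classical
  simp only [orbitSum, Finset.sum_mul, Finset.mul_sum]
  refine Finset.sum_congr rfl fun a ha => ?_
  obtain ⟨n, rfl⟩ := mem_orbitSet.1 ha
  obtain ⟨e₁, he₁, h1⟩ := conj_normalizer_block he n.2
  rw [Finset.sum_eq_single (cjA (n : G) (idA M P e))]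
  · rw [← h1, idA, ← map_mul, bid_mul_self hM he₁.2]
  · intro b hb hne
    obtain ⟨m, rfl⟩ := mem_orbitSet.1 hb
    obtain ⟨e₂, he₂, h2⟩ := conj_normalizer_block he m.2
    rw [← h1, ← h2, idA, idA, ← map_mul, bid_mul_ne hM he₂.2 he₁.2, map_zero]
    rintro rfl
    exact hne (h2 ▸ h1)
  · exact fun h => absurd ha h

theorem val_orbitSum {ξ : IrrCharacter (Cn P)} (hξ : ξ ∈ e) :
    val P (ξ : Cn P → ℂ) (orbitSum M P e) = 1 := by
  classical
  have hP := Subgroup.le_normalizer (H := P)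
  have hA : idA M P e * orbitSum M P e = idA M P e := by
    simp only [orbitSum, Finset.mul_sum]
    rw [Finset.sum_eq_single (idA M P e)]
    · rw [idA, ← map_mul, bid_mul_self hM he.2]
    · intro b hb hne
      obtain ⟨m, rfl⟩ := mem_orbitSet.1 hb
      obtain ⟨e₂, he₂, h2⟩ := conj_normalizer_block he m.2
      rw [← h2, idA, idA, ← map_mul, bid_mul_ne hM he.2 he₂.2, map_zero]
      rintro rfl
      exact hne h2.symm
    · exact fun h => absurd (mem_orbitSet.2 ⟨1, cjA_one _⟩) h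
  obtain ⟨-, -, -, -, hfix, hv⟩ := (isNormalSubpair_iff hM).1 (normalSubpair_self hM he)
  have h1 := val_mul (ξ := ξ) hM he.1 (adm_inA le_rfl (isClassCoeff_bid hM he.2) hfix)
    (adm_orbitSum hP le_rfl) (b := orbitSum M P e)
  rw [hA, hv ξ hξ, one_mul] at h1
  exact h1.symm

theorem exists_conj_of_val_orbitSum {e' : Set (IrrCharacter (Cn P))}
    (he' : IsBrauerPair p M P e') {ξ : IrrCharacter (Cn P)} (hξ : ξ ∈ e')
    (h : val P (ξ : Cn P → ℂ) (orbitSum M P e) = 1) :
    ∃ n ∈ Subgroup.normalizer (P : Set G), CjPair M n P e P e' := by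
  classical
  obtain ⟨-, -, -, -, hfix, hv⟩ := (isNormalSubpair_iff hM).1 (normalSubpair_self hM he')
  have hne : idA M P e' * orbitSum M P e ≠ 0 := by
    intro h0
    have h1 := val_mul (ξ := ξ) hM he.1 (adm_inA le_rfl (isClassCoeff_bid hM he'.2) hfix)
      (adm_orbitSum (Subgroup.le_normalizer (H := P)) le_rfl) (b := orbitSum M P e)
    rw [h0, val_zero, hv ξ hξ, h, one_mul] at h1
    exact zero_ne_one h1
  simp only [orbitSum, Finset.mul_sum] at hne
  obtain ⟨a, ha, hne⟩ := Finset.exists_ne_zero_of_sum_ne_zero hne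
  obtain ⟨n, rfl⟩ := mem_orbitSet.1 ha
  obtain ⟨e₁, he₁, h1⟩ := conj_normalizer_block he n.2
  rw [← h1, idA, idA, ← map_mul] at hne
  have : e' = e₁ := by
    by_contra hne'
    exact hne (by rw [bid_mul_ne hM he'.2 he₁.2 hne', map_zero])
  exact ⟨n, n.2, (map_conj_eq_of_mem_normalizer n.2).symm, this ▸ h1⟩

end orbit

section maximal

variable (hM : IsPModular p M) {B : Set (IrrCharacter G)} {P : Subgroup G}
  {e : Set (IrrCharacter (Cn P))} (hmax : IsMaximalBrauerPair p M B P e)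
include hM hmax

theorem resA_orbitSum_eq_zero {R : Subgroup G} (hR : IsPGroup p R) (hPR : P < R)
    (hRN : R ≤ Subgroup.normalizer (P : Set G)) : resA (Cn R) (orbitSum M P e) = 0 := by
  classical
  have he := hmax.1.1
  have hA := adm_orbitSum (M := M) (e := e) hRN hPR.le
  have hi : resA (Cn R) (orbitSum M P e) * resA (Cn R) (orbitSum M P e) =
      resA (Cn R) (orbitSum M P e) := by
    rw [← resA_Cn_mul hM hR hA.1 hA.1, orbitSum_idem hM he]
  by_contra hne
  obtain ⟨h, hh, hv⟩ := exists_block_of_ne_zero hM hA.classCoeff hi hne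
  obtain ⟨η, hη⟩ := isPBlock_nonempty hh
  obtain ⟨f, hf⟩ := exists_normalSubpair hM (⟨hR, hh⟩ : IsBrauerPair p M R h) hPR.le hRN
  obtain ⟨hfp, -, -, -, hfix, hvf⟩ := (isNormalSubpair_iff hM).1 hf
  have hne2 : idA M P f * orbitSum M P e ≠ 0 := by
    intro h0
    have h1 := val_mul (ξ := η) hM hR (adm_inA hPR.le (isClassCoeff_bid hM hfp.2) hfix) hA
    rw [h0, val_zero, hvf η hη, one_mul] at h1
    exact zero_ne_one (h1.trans (hv η hη))
  simp only [orbitSum, Finset.mul_sum] at hne2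
  obtain ⟨a, ha, hne2⟩ := Finset.exists_ne_zero_of_sum_ne_zero hne2
  obtain ⟨n, rfl⟩ := mem_orbitSet.1 ha
  obtain ⟨e₁, he₁, h1⟩ := conj_normalizer_block he n.2
  rw [← h1, idA, idA, ← map_mul] at hne2
  obtain rfl : f = e₁ := by
    by_contra hne'
    exact hne2 (by rw [bid_mul_ne hM hfp.2 he₁.2 hne', map_zero])
  -- conjugate back
  have hcj : CjPair M (n : G) P e P f := ⟨(map_conj_eq_of_mem_normalizer n.2).symm, h1⟩
  have hR' := isBrauerPair_conjBlock (n : G)⁻¹ (⟨hR, hh⟩ : IsBrauerPair p M R h)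
  have hle := subpairLE_cjPair hM hfp he hR' hcj.symm (cjPair_conjBlock _ R h)
    (Relation.ReflTransGen.single hf)
  have heq := hmax.2 _ _ ((pairOf_congr hM hle).2 hmax.1) hle
  refine hPR.ne ?_
  have h2 := congrArg (Subgroup.map (MulAut.conj (n : G)).toMonoidHom) heq
  rw [map_conj_mul, mul_inv_cancel, map_conj_eq_of_mem_normalizer n.2] at h2
  rw [← h2]
  ext g
  simp [mem_map_conj]

theorem isSylowIn_of_coeff_orbitSum [Fact p.Prime] {c : G}
    (hc : (orbitSum M P e).coeff c ≠ 0) :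
    c ∈ Cn P ∧ IsSylowIn p P (Subgroup.centralizer ({c} : Set G)) := by
  have hcP : c ∈ Cn P := by
    by_contra h
    exact hc (coeff_orbitSum_of_notMem h)
  refine ⟨hcP, isSylowIn_of_inf_normalizer ?_⟩
  have hle : P ≤ Subgroup.centralizer ({c} : Set G) ⊓ Subgroup.normalizer (P : Set G) :=
    le_inf (fun y hy => Subgroup.mem_centralizer_singleton_iff.2 (hcP y hy))
      Subgroup.le_normalizer
  obtain ⟨R, hR, hPR⟩ := exists_isSylowIn_ge hmax.1.1.1 hle
  rcases eq_or_lt_of_le hPR with heq | hlt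
  · exact heq ▸ hR
  exfalso
  have h0 := resA_orbitSum_eq_zero hM hmax hR.isPGroup hlt (hR.le.trans inf_le_right)
  have hcR : c ∈ Cn R := fun y hy =>
    Subgroup.mem_centralizer_singleton_iff.1 (Subgroup.mem_inf.1 (hR.le hy)).1
  have h1 := congrArg (fun z : KA M (Cn R) => z.coeff ⟨c, hcR⟩) h0
  simp only [coeff_resA, MonoidAlgebra.coeff_zero, Finsupp.zero_apply] at h1
  exact hc h1

theorem coeff_orbitSum_conj [Fact p.Prime] {c y : G} (hc : (orbitSum M P e).coeff c ≠ 0)
    (hcy : IsConj c y) (hy : y ∈ Cn P) :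
    (orbitSum M P e).coeff y = (orbitSum M P e).coeff c := by
  obtain ⟨-, hs⟩ := isSylowIn_of_coeff_orbitSum hM hmax hc
  obtain ⟨t, rfl⟩ := isConj_iff.1 hcy
  obtain ⟨d, hd, hdle⟩ := (hs.centralizer_conj t).exists_conj_le hmax.1.1.1
    fun q hq => Subgroup.mem_centralizer_singleton_iff.2 (hy q hq)
  have heq : P.map (MulAut.conj d).toMonoidHom = P.map (MulAut.conj t).toMonoidHom :=
    Subgroup.eq_of_le_of_card_ge hdle (by rw [card_map_conj, card_map_conj])
  have h2 : P.map (MulAut.conj (t⁻¹ * d)).toMonoidHom = P := by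
    rw [← map_conj_mul, heq, map_conj_mul, inv_mul_cancel]
    ext g
    simp [mem_map_conj]
  have hN : t⁻¹ * d ∈ Subgroup.normalizer (P : Set G) := by
    refine mem_normalizer_subgroup_iff.2 fun g => ?_
    conv_lhs => rw [← h2, mem_map_conj]
  have h3 := fix_iff.1 (fix_orbitSum (M := M) (e := e)) _ (inv_mem hN) c
  rw [← h3]
  congr 1
  have h4 := Subgroup.mem_centralizer_singleton_iff.1 hd
  calc t * c * t⁻¹ = d⁻¹ * (d * (t * c * t⁻¹)) := by group
    _ = d⁻¹ * (t * c * t⁻¹ * d) := by rw [h4]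
    _ = (t⁻¹ * d)⁻¹ * c * (t⁻¹ * d)⁻¹⁻¹ := by group

/-- A central element of `G` with the same Brauer image as the orbit sum. -/
theorem exists_classCoeff_orbitSum [Fact p.Prime] :
    ∃ a : KA M G, IsClassCoeff a ∧ resA (Cn P) a = resA (Cn P) (orbitSum M P e) ∧
      ∀ g, a.coeff g ≠ 0 → ∃ c, (orbitSum M P e).coeff c ≠ 0 ∧ IsConj c g := by
  classical
  let E := orbitSum M P e
  let Φ : G → Res M := fun x =>
    if h : ∃ c, E.coeff c ≠ 0 ∧ IsConj c x then E.coeff (Classical.choose h) else 0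
  have hΦ : ∀ c x, E.coeff c ≠ 0 → IsConj c x → Φ x = E.coeff c := by
    intro c x hc hx
    have hex : ∃ c, E.coeff c ≠ 0 ∧ IsConj c x := ⟨c, hc, hx⟩
    simp only [Φ, dif_pos hex]
    obtain ⟨h1, h2⟩ := Classical.choose_spec hex
    exact coeff_orbitSum_conj hM hmax hc (hx.trans h2.symm)
      (isSylowIn_of_coeff_orbitSum hM hmax h1).1
  refine ⟨MonoidAlgebra.ofCoeff (Finsupp.ofSupportFinite Φ (Set.toFinite _)), fun g t => ?_,
    MonoidAlgebra.coeff_injective (Finsupp.ext fun x => ?_), fun g hg => ?_⟩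
  · change Φ (t * g * t⁻¹) = Φ g
    have hgt : IsConj g (t * g * t⁻¹) := isConj_iff.2 ⟨t, rfl⟩
    by_cases h : ∃ c, E.coeff c ≠ 0 ∧ IsConj c g
    · obtain ⟨c, hc, hcg⟩ := h
      rw [hΦ c g hc hcg, hΦ c _ hc (hcg.trans hgt)]
    · simp only [Φ, dif_neg h]
      rw [dif_neg]
      rintro ⟨c, hc, hcg⟩
      exact h ⟨c, hc, hcg.trans hgt.symm⟩
  · rw [coeff_resA, coeff_resA]
    change Φ x = E.coeff x
    by_cases h : ∃ c, E.coeff c ≠ 0 ∧ IsConj c (x : G)
    · obtain ⟨c, hc, hcx⟩ := h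
      rw [hΦ c _ hc hcx]
      exact (coeff_orbitSum_conj hM hmax hc hcx x.2).symm
    · simp only [Φ, dif_neg h]
      by_contra hne
      exact h ⟨x, Ne.symm hne, IsConj.refl _⟩
  · change Φ g ≠ 0 at hg
    by_contra h
    exact hg (dif_neg h)

/-- The subgroup of a maximal pair is a defect group. -/
theorem isDefectGroup_of_maximal [Fact p.Prime] : IsDefectGroup p M B P := by
  classical
  haveI : Fintype (ConjClasses G) := Fintype.ofFinite _
  obtain ⟨he, hB, hv⟩ := (isBrauerPairOf_iff hM).1 hmax.1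
  obtain ⟨ξ, hξ⟩ := isPBlock_nonempty he.2
  obtain ⟨χ, hχ⟩ := isPBlock_nonempty hB
  obtain ⟨a, ha, hres, hsupp⟩ := exists_classCoeff_orbitSum hM hmax
  have h1 : lam (χ : G → ℂ) a = 1 := by
    rw [← val_eq_lam hM hmax.1 hξ hχ ha, val, hres]
    exact val_orbitSum hM he hξ
  rw [lam_eq_sum χ.2 ha] at h1
  obtain ⟨C, -, hC⟩ := Finset.exists_ne_zero_of_sum_ne_zero (h1 ▸ one_ne_zero)
  obtain ⟨hC1, hC2⟩ := mul_ne_zero_iff.1 hC
  obtain ⟨c, hc, hcC⟩ := hsupp _ hC1
  obtain ⟨-, hs⟩ := isSylowIn_of_coeff_orbitSum hM hmax hc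
  obtain ⟨t, ht⟩ := isConj_iff.1 hcC
  have hs' := hs.centralizer_conj t
  rw [ht] at hs'
  obtain ⟨D, hD⟩ := exists_isDefectGroup hM hB
  obtain ⟨x, hx⟩ := minmax_ge hM hB hD hχ C.out ((red_centralChar_ne_zero_iff χ.2 _).1 hC2) hs'
  obtain ⟨y, hy⟩ := exists_conj_le_defectGroup hM hmax.1 hD
  have hcard : Nat.card D ≤ Nat.card P := by
    have := Subgroup.card_le_of_le hx
    rwa [card_map_conj, card_map_conj] at this
  have heq : P.map (MulAut.conj y).toMonoidHom = D :=
    Subgroup.eq_of_le_of_card_ge hy (by rw [card_map_conj]; exact hcard)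
  have := IsDefectGroup.conj hD y⁻¹
  rw [← heq, map_conj_mul, inv_mul_cancel] at this
  convert this using 1
  ext g
  simp [mem_map_conj]

theorem maximal_orbit [Fact p.Prime] {e' : Set (IrrCharacter (Cn P))}
    (he' : IsBrauerPairOf p M B P e') :
    ∃ n ∈ Subgroup.normalizer (P : Set G), CjPair M n P e P e' := by
  obtain ⟨he, hB, hv⟩ := (isBrauerPairOf_iff hM).1 hmax.1
  obtain ⟨ξ, hξ⟩ := isPBlock_nonempty he.2
  obtain ⟨χ, hχ⟩ := isPBlock_nonempty hB
  obtain ⟨η, hη⟩ := isPBlock_nonempty he'.1.2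
  obtain ⟨a, ha, hres, -⟩ := exists_classCoeff_orbitSum hM hmax
  refine exists_conj_of_val_orbitSum hM he he'.1 hη ?_
  rw [val, ← hres]
  change val P (η : Cn P → ℂ) a = 1
  rw [val_eq_lam hM he' hη hχ ha, ← val_eq_lam hM hmax.1 hξ hχ ha, val, hres]
  exact val_orbitSum hM he hξ

end maximal

theorem maximal_of_card (hM : IsPModular p M) [Fact p.Prime] {B : Set (IrrCharacter G)}
    {P : Subgroup G} {e : Set (IrrCharacter (Cn P))} (h : IsBrauerPairOf p M B P e)
    {D : Subgroup G} (hD : IsDefectGroup p M B D) (hc : Nat.card D ≤ Nat.card P) :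
    IsMaximalBrauerPair p M B P e := by
  refine ⟨h, fun R g hR hle => (Subgroup.eq_of_le_of_card_ge (subpairLE_le hle) ?_).symm⟩
  obtain ⟨x, hx⟩ := exists_conj_le_defectGroup hM hR hD
  have := Subgroup.card_le_of_le hx
  rw [card_map_conj] at this
  exact this.trans hc

/-- Every Brauer pair lies below a maximal one. -/
theorem exists_maximal_ge (hM : IsPModular p M) {B : Set (IrrCharacter G)} (Q : Subgroup G) :
    ∀ {f : Set (IrrCharacter (Cn Q))}, IsBrauerPairOf p M B Q f →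
      ∃ (P : Subgroup G) (e : Set (IrrCharacter (Cn P))),
        IsMaximalBrauerPair p M B P e ∧ SubpairLE p M Q f P e := by
  induction Q using WellFoundedGT.induction with
  | _ Q ih =>
    intro f hf
    by_cases h : IsMaximalBrauerPair p M B Q f
    · exact ⟨Q, f, h, Relation.ReflTransGen.refl⟩
    · simp only [IsMaximalBrauerPair, hf, true_and, not_forall] at h
      obtain ⟨R, g, hR, hle, hne⟩ := h
      obtain ⟨P, e, hP, hle'⟩ := ih R (lt_of_le_of_ne (subpairLE_le hle) (Ne.symm hne)) hR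
      exact ⟨P, e, hP, hle.trans hle'⟩

/-- Maximal pairs of a block are conjugate. -/
theorem maximal_conj (hM : IsPModular p M) [Fact p.Prime] {B : Set (IrrCharacter G)}
    {P P' : Subgroup G} {e : Set (IrrCharacter (Cn P))} {e' : Set (IrrCharacter (Cn P'))}
    (h : IsMaximalBrauerPair p M B P e) (h' : IsMaximalBrauerPair p M B P' e') :
    ∃ x : G, CjPair M x P' e' P e := by
  obtain ⟨x, hx⟩ := isDefectGroup_conj_eq hM h.1.2.1 (isDefectGroup_of_maximal hM h)
    (isDefectGroup_of_maximal hM h')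
  subst hx
  have hc := cjPair_conjBlock (M := M) x P' e'
  have hof := pairOf_cjPair hM (isBrauerPair_conjBlock x h'.1.1) hc h'.1
  obtain ⟨n, -, hn⟩ := maximal_orbit hM h hof
  exact ⟨n⁻¹ * x, hc.trans hn.symm⟩

/-- Every Brauer pair is conjugate to one below a given maximal pair. -/
theorem conj_le_maximal (hM : IsPModular p M) [Fact p.Prime] {B : Set (IrrCharacter G)}
    {P Q : Subgroup G} {e : Set (IrrCharacter (Cn P))} {f : Set (IrrCharacter (Cn Q))}
    (h : IsMaximalBrauerPair p M B P e) (hf : IsBrauerPairOf p M B Q f) :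
    ∃ x : G, SubpairLE p M (Q.map (MulAut.conj x).toMonoidHom) (conjBlock Q x f) P e := by
  obtain ⟨R, g, hR, hle⟩ := exists_maximal_ge hM Q hf
  obtain ⟨x, hx⟩ := maximal_conj hM h hR
  exact ⟨x, subpairLE_cjPair hM hf.1 (isBrauerPair_conjBlock x hf.1) h.1.1
    (cjPair_conjBlock x Q f) hx hle⟩

end CfsgLib.Blk.Pair
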