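import Cfsg.Agent.Blk.Pair.Maximal

/-!
Blocks of a group with a normal `p`-subgroup: the idempotent lives on the centralizer and is the
sum of the conjugates of the idempotent of a block of the centralizer.
-/

set_option autoImplicit false
set_option linter.style.haveILetI false
set_option linter.unusedSectionVars false

namespace CfsgLib.Blk.Pair

open Cfsg CfsgLib.Char CfsgLib.Blk MonoidAlgebra Finset
open scoped ComplexConjugate

universe u

variable {G : Type u} [Group G] [Finite G] {M : Ideal AlgInt} [M.IsPrime] {p : ℕ}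

/-- Central idempotents with the same reduction are equal. -/
theorem eq_of_redA_idem {a b : MonoidAlgebra (locRing M) G} (ha : IsClassCoeff a)
    (hb : IsClassCoeff b) (hia : a * a = a) (hib : b * b = b) (h : redA a = redA b) : a = b := by
  refine eq_of_omega_eq ha hb fun χ => ?_
  have h01 : ∀ c : MonoidAlgebra (locRing M) G, IsClassCoeff c → c * c = c →
      omega (χ : G → ℂ) c = 0 ∨ omega (χ : G → ℂ) c = 1 := fun c hc hi =>
    IsIdempotentElem.iff_eq_zero_or_one.1 (by rw [IsIdempotentElem, ← omega_mul χ.2 hc, hi])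
  have h1 : omegaBar (χ : G → ℂ) a = omegaBar (χ : G → ℂ) b := omegaBar_of_redA_eq χ.2 ha hb h
  rw [omegaBar, omegaBar] at h1
  rcases h01 a ha hia with e1 | e1 <;> rcases h01 b hb hib with e2 | e2 <;>
    simp_all [red_zero, red_one]

theorem Cn_normal_conj {P : Subgroup G} (hP : P.Normal) (x g : G) :
    g ∈ Cn P ↔ x⁻¹ * g * x ∈ Cn P :=
  mem_Cn_conj_iff (by rw [Subgroup.normalizer_eq_top_iff.2 hP]; exact Subgroup.mem_top x) g

theorem subgroupBlockCoeff_mvSet (y : G) {K K' : Subgroup G}
    (hK : ∀ g, g ∈ K' ↔ y⁻¹ * g * y ∈ K) (b : Set (IrrCharacter K)) (g : G) :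
    subgroupBlockCoeff K' (mvSet (cjIso y hK) b) g = subgroupBlockCoeff K b (y⁻¹ * g * y) := by
  by_cases hg : g ∈ K'
  · obtain ⟨k, hk⟩ := (cjIso y hK).surjective ⟨g, hg⟩
    have hk' : g = y * k * y⁻¹ := congrArg Subtype.val hk.symm
    have h1 := subgroupBlockCoeff_of_mem (mvSet (cjIso y hK) b) (cjIso y hK k)
    rw [coe_cjIso, ← hk', blockCoeff_mvSet] at h1
    rw [h1, hk', show y⁻¹ * (y * (k : G) * y⁻¹) * y = k by group, subgroupBlockCoeff_of_mem]
  · rw [subgroupBlockCoeff_of_notMem _ hg,
      subgroupBlockCoeff_of_notMem _ fun h => hg ((hK g).2 h)]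

/-- The reduced idempotent of a block is supported on the centralizer of a normal `p`-subgroup. -/
theorem inA_resA_bid (hM : IsPModular p M) {P : Subgroup G} [hPn : P.Normal] (hP : IsPGroup p P)
    {B : Set (IrrCharacter G)} (hB : IsPBlock M B) :
    inA (Cn P) (resA (Cn P) (bid M B)) = bid M B := by
  classical
  haveI := Fact.mk hM.1
  haveI : CharP (Res M) p := charP_res hM
  have hb := isClassCoeff_bid hM hB
  set a := inA (Cn P) (resA (Cn P) (bid M B)) with hadef
  have hfix : Fix (⊤ : Subgroup G) a :=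
    fix_inA_resA (Q := P) (by rw [Subgroup.normalizer_eq_top_iff.2 hPn]) (fix_of_classCoeff _ hb)
  have ha : IsClassCoeff a := fun g h => fix_iff.1 hfix h (Subgroup.mem_top h) g
  refine eq_of_idem_lam hM ha hb ?_ (bid_mul_self hM hB) fun χ => ?_
  · rw [hadef, ← map_mul, ← resA_Cn_mul hM hP (fix_of_classCoeff P hb) (fix_of_classCoeff P hb),
      bid_mul_self hM hB]
  · rw [← sub_eq_zero, ← lam_sub χ.2 ha hb]
    refine lam_eq_zero_of_isNilpotent χ.2 (ha.sub hb)
      (isNilpotent_of_brMap_eq_zero P hP (fun y _ g => (ha.sub hb) g y) ?_)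
    refine MonoidAlgebra.coeff_injective (Finsupp.ext fun g => ?_)
    rw [coeff_brMap]
    split_ifs with hg
    · have h1 := coeff_inA (Cn P) (resA (Cn P) (bid M B)) ⟨g, hg⟩
      simp only [coeff_resA] at h1
      rw [MonoidAlgebra.coeff_sub, Finsupp.sub_apply, hadef, h1, sub_self,
        MonoidAlgebra.coeff_zero, Finsupp.zero_apply]
    · rw [MonoidAlgebra.coeff_zero, Finsupp.zero_apply]

theorem exists_pairOf_of_normal (hM : IsPModular p M) {P : Subgroup G} [P.Normal]
    (hP : IsPGroup p P) {B : Set (IrrCharacter G)} (hB : IsPBlock M B) :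
    ∃ e, IsBrauerPairOf p M B P e := by
  classical
  have hb := isClassCoeff_bid hM hB
  obtain ⟨e, he, hv⟩ := exists_block_of_ne_zero hM (isClassCoeff_resA (Cn P) hb)
    (by rw [← resA_Cn_mul hM hP (fix_of_classCoeff P hb) (fix_of_classCoeff P hb),
      bid_mul_self hM hB]) fun h0 => bid_ne_zero hM hB (by
        rw [← inA_resA_bid hM hP hB, h0, map_zero])
  exact ⟨e, (isBrauerPairOf_iff hM).2 ⟨⟨hP, he⟩, hB, hv⟩⟩

/-- The idempotent of a block over a normal `p`-subgroup is the sum of the conjugates of that of a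
block of the centralizer. -/
theorem blockCoeff_eq_trace (hM : IsPModular p M) [Fintype G] {P : Subgroup G} [hPn : P.Normal]
    {B : Set (IrrCharacter G)} {e : Set (IrrCharacter (Cn P))}
    (hBe : IsBrauerPairOf p M B P e) (T : Subgroup G)
    (hT : ∀ x : G, x ∈ T ↔ cjA x (idA M P e) = idA M P e) (g : G) :
    blockCoeff B g =
      (Nat.card T : ℂ)⁻¹ * ∑ x : G, subgroupBlockCoeff (Cn P) e (x⁻¹ * g * x) := by
  classical
  obtain ⟨he, hB, hv⟩ := (isBrauerPairOf_iff hM).1 hBe
  let cb : G → Set (IrrCharacter (Cn P)) := fun x => mvSet (cjIso x (Cn_normal_conj hPn x)) e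
  have hcb : ∀ x, idA M P (cb x) = cjA x (idA M P e) := fun x => inA_bid_mvSet x _ e
  have hcbB : ∀ x, IsPBlock M (cb x) := fun x => isPBlock_mvSet _ he.2
  have hfib : ∀ x y, cb x = cb y ↔ x⁻¹ * y ∈ T := by
    intro x y
    rw [hT]
    constructor
    · intro h
      have h1 := congrArg (cjA x⁻¹) ((hcb x).symm.trans ((congrArg (idA M P) h).trans (hcb y)))
      rw [cjA_mul_apply, cjA_mul_apply, inv_mul_cancel, cjA_one] at h1
      exact h1.symm
    · intro h
      refine bid_inj hM (hcbB x) (hcbB y) (inA_injective _ ?_)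
      change idA M P (cb x) = idA M P (cb y)
      rw [hcb, hcb]
      conv_lhs => rw [← h, cjA_mul_apply, mul_inv_cancel_left]
  let S : Finset (Set (IrrCharacter (Cn P))) := Finset.univ.image cb
  let F : G → ℂ := fun g => ∑ f ∈ S, subgroupBlockCoeff (Cn P) f g
  have hsum : ∀ g, ∑ x : G, subgroupBlockCoeff (Cn P) e (x⁻¹ * g * x) = (Nat.card T : ℂ) * F g := by
    intro g
    simp only [F, Finset.mul_sum]
    rw [← Finset.sum_fiberwise_of_maps_to (t := S) (g := cb)
      (fun x _ => Finset.mem_image_of_mem cb (Finset.mem_univ x))]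
    refine Finset.sum_congr rfl fun f hf => ?_
    obtain ⟨y, -, rfl⟩ := Finset.mem_image.1 hf
    rw [Finset.sum_congr rfl (g := fun _ => subgroupBlockCoeff (Cn P) (cb y) g), Finset.sum_const,
      nsmul_eq_mul]
    · congr 2
      rw [← Fintype.card_subtype, ← Nat.card_eq_fintype_card]
      refine Nat.card_congr
        { toFun := fun x => ⟨y⁻¹ * x.1, (hfib y x.1).1 x.2.symm⟩
          invFun := fun t => ⟨y * t, ((hfib y (y * t)).2 (by simp)).symm⟩
          left_inv := fun x => by simp
          right_inv := fun t => by simp }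
    · intro x hx
      rw [← (Finset.mem_filter.1 hx).2, subgroupBlockCoeff_mvSet]
  have hTc : (Nat.card T : ℂ) ≠ 0 := natCard_ne_zero T
  rw [hsum, ← mul_assoc, inv_mul_cancel₀ hTc, one_mul]
  have hF : ∀ g h : G, F (h * g * h⁻¹) = F g := by
    intro g h
    refine mul_left_cancel₀ hTc ?_
    rw [← hsum, ← hsum]
    refine Fintype.sum_equiv (Equiv.mulLeft h⁻¹) _ _ fun x => ?_
    simp [mul_assoc]
  -- the exact idempotent
  let ι : MonoidAlgebra (locRing M) (Cn P) →+* MonoidAlgebra (locRing M) G :=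
    MonoidAlgebra.mapDomainRingHom (locRing M) (Cn P).subtype
  have hιc : ∀ (a : MonoidAlgebra (locRing M) (Cn P)) (k : Cn P),
      (ι a).coeff (k : G) = a.coeff k := fun a k => by
    change (MonoidAlgebra.mapDomain ((↑) : Cn P → G) a).coeff (k : G) = _
    rw [MonoidAlgebra.coeff_mapDomain]
    exact Finsupp.mapDomain_apply Subtype.val_injective _ _
  have hι0 : ∀ (a : MonoidAlgebra (locRing M) (Cn P)) (g : G), g ∉ Cn P → (ι a).coeff g = 0 :=
    fun a g hg => by
      change (MonoidAlgebra.mapDomain ((↑) : Cn P → G) a).coeff g = _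
      rw [MonoidAlgebra.coeff_mapDomain]
      exact Finsupp.mapDomain_of_notMem_range _ _ (by rintro ⟨x, rfl⟩; exact hg x.2)
  have hS : ∀ f : S, IsPBlock M f.1 := fun f => by
    obtain ⟨y, -, hy⟩ := Finset.mem_image.1 f.2
    exact hy ▸ hcbB y
  let e0 : MonoidAlgebra (locRing M) (Cn P) := ∑ f : S, blockIdem hM (hS f)
  have he0 : e0 * e0 = e0 := by
    simp only [e0, Finset.sum_mul, Finset.mul_sum]
    refine Finset.sum_congr rfl fun f _ => ?_
    rw [Finset.sum_eq_single f]
    · exact blockIdem_mul_self hM _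
    · intro f' _ hne
      exact blockIdem_mul_ne hM _ _ fun h => hne (Subtype.ext h)
    · exact fun h => absurd (Finset.mem_univ _) h
  have hEc : ∀ x : G, (((ι e0).coeff x : locRing M) : ℂ) = F x := by
    intro x
    by_cases hx : x ∈ Cn P
    · have h1 := hιc e0 ⟨x, hx⟩
      dsimp only at h1
      rw [h1]
      simp only [e0, F, MonoidAlgebra.coeff_sum, Finset.sum_apply',
        AddSubmonoidClass.coe_finsetSum, coeff_blockIdem]
      rw [← Finset.sum_coe_sort S]
      exact Finset.sum_congr rfl fun f _ => (subgroupBlockCoeff_of_mem f.1 ⟨x, hx⟩).symm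
    · rw [hι0 _ _ hx]
      simp only [F, ZeroMemClass.coe_zero]
      exact (Finset.sum_eq_zero fun f _ => subgroupBlockCoeff_of_notMem f hx).symm
  have hEcl : IsClassCoeff (ι e0) := fun x h => Subtype.ext (by rw [hEc, hEc, hF])
  have hEi : ι e0 * ι e0 = ι e0 := by rw [← map_mul, he0]
  suffices hkey : blockIdem hM hB = ι e0 by
    rw [← coeff_blockIdem hM hB, hkey, hEc]
  refine eq_of_redA_idem (isClassCoeff_blockIdem hM hB) hEcl (blockIdem_mul_self hM hB) hEi ?_
  rw [← bid_eq hM hB]
  -- compare the reductions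
  have hred : redA (ι e0) = ∑ f : S, idA M P f.1 := by
    refine MonoidAlgebra.coeff_injective (Finsupp.ext fun x => ?_)
    rw [coeff_redA, ← red_coe, hEc, MonoidAlgebra.coeff_sum, Finset.sum_apply']
    simp only [F, idA, ← red_subgroupBlockCoeff]
    rw [← Finset.sum_coe_sort S]
    refine red_sum _ _ fun f _ => ?_
    by_cases hx : x ∈ Cn P
    · rw [subgroupBlockCoeff_of_mem f.1 ⟨x, hx⟩]
      exact blockCoeff_mem hM (hS f) _
    · rw [subgroupBlockCoeff_of_notMem f.1 hx]; exact zero_mem _
  obtain ⟨ξ, hξ⟩ := isPBlock_nonempty he.2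
  obtain ⟨χ, hχ⟩ := isPBlock_nonempty hB
  have hb := isClassCoeff_bid hM hB
  have hA : idA M P e * bid M B = idA M P e := by
    conv_lhs => rw [← inA_resA_bid hM he.1 hB]
    rw [idA, ← map_mul, bid_mul_idem hM he.2 (isClassCoeff_resA _ hb)
      (by rw [← resA_Cn_mul hM he.1 (fix_of_classCoeff P hb) (fix_of_classCoeff P hb),
        bid_mul_self hM hB]) hξ]
    change inA _ (val P (ξ : Cn P → ℂ) (bid M B) • _) = _
    rw [hv ξ hξ, one_smul]
  have hEB : bid M B * redA (ι e0) = redA (ι e0) := by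
    rw [(hb.commute _).eq, hred, Finset.sum_mul]
    refine Finset.sum_congr rfl fun f _ => ?_
    obtain ⟨y, -, hy⟩ := Finset.mem_image.1 f.2
    rw [← hy, hcb]
    conv_rhs => rw [← hA, map_mul, cjA_eq_of_isClassCoeff hb]
  have hne : redA (ι e0) ≠ 0 := by
    intro h0
    have he1 : cb 1 = e := by
      refine bid_inj hM (hcbB 1) he.2 (inA_injective _ ?_)
      change idA M P (cb 1) = idA M P e
      rw [hcb, cjA_one]
    have hmem : e ∈ S := Finset.mem_image.2 ⟨1, Finset.mem_univ _, he1⟩
    have h1 : idA M P e * redA (ι e0) = idA M P e := by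
      rw [hred, Finset.mul_sum, Finset.sum_eq_single (⟨e, hmem⟩ : S)]
      · rw [idA, ← map_mul, bid_mul_self hM he.2]
      · intro f _ hne
        rw [idA, idA, ← map_mul, bid_mul_ne hM he.2 (hS f) (fun h => hne (Subtype.ext h.symm)),
          map_zero]
      · exact fun h => absurd (Finset.mem_univ _) h
    rw [h0, mul_zero] at h1
    exact bid_ne_zero hM he.2 (inA_injective _ (h1.symm.trans (map_zero _).symm))
  have h2 := bid_mul_idem hM hB hEcl.redA (by rw [← map_mul, hEi]) hχ
  rw [hEB] at h2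
  rcases lam_idem χ.2 hEcl.redA (by rw [← map_mul, hEi]) with h3 | h3
  · rw [h3, zero_smul] at h2
    exact absurd h2 hne
  · rw [h3, one_smul] at h2
    exact h2.symm

theorem blockCoeff_eq_zero_of_notMem (hM : IsPModular p M) {P : Subgroup G} [hPn : P.Normal]
    (hP : IsPGroup p P) {B : Set (IrrCharacter G)} (hB : IsPBlock M B) {g : G}
    (hg : g ∉ Cn P) : blockCoeff B g = 0 := by
  haveI := Fintype.ofFinite G
  obtain ⟨e, he⟩ := exists_pairOf_of_normal hM hP hB
  let T : Subgroup G :=
    { carrier := {x | cjA x (idA M P e) = idA M P e}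
      one_mem' := cjA_one _
      mul_mem' := fun {x y} (hx : cjA x _ = _) (hy : cjA y _ = _) => by
        change cjA (x * y) _ = _
        rw [← cjA_mul_apply, hy, hx]
      inv_mem' := fun {x} (hx : cjA x _ = _) => by
        change cjA x⁻¹ _ = _
        conv_lhs => rw [← hx, cjA_mul_apply, inv_mul_cancel, cjA_one] }
  rw [blockCoeff_eq_trace hM he T (fun x => Iff.rfl) g, Finset.sum_eq_zero, mul_zero]
  intro x _
  exact subgroupBlockCoeff_of_notMem e fun h => hg ((Cn_normal_conj hPn x g).2 h)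

end CfsgLib.Blk.Pair
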