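import Cfsg.Agent.Blk.Pair.Maximal

/-!
Brauer pairs of the principal block.
-/

set_option autoImplicit false
set_option linter.style.haveILetI false
set_option linter.unusedSectionVars false

namespace CfsgLib.Blk.Pair

open Cfsg CfsgLib.Char CfsgLib.Blk MonoidAlgebra Finset
open scoped ComplexConjugate

universe u

variable {G : Type u} [Group G] [Finite G] {M : Ideal AlgInt} [M.IsPrime] {p : ℕ}

/-- The principal character of a centralizer. -/
noncomputable abbrev triv (K : Subgroup G) : IrrCharacter K := ⟨fun _ => (1 : ℂ), isIrr_one⟩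

theorem triv_mem_principal (K : Subgroup G) : triv K ∈ principalBlock M K := sameBlock_refl _

theorem isPBlock_principal (K : Subgroup G) : IsPBlock M (principalBlock M K) := ⟨triv K, rfl⟩

theorem isBrauerPair_principal {Q : Subgroup G} (hQ : IsPGroup p Q) :
    IsBrauerPair p M Q (principalBlock M (Cn Q)) := ⟨hQ, isPBlock_principal _⟩

/-- Truncation to the centralizer of a `p`-group preserves the augmentation. -/
theorem val_triv (hM : IsPModular p M) [Fintype G] {Q : Subgroup G} (hQ : IsPGroup p Q)
    {a : KA M G} (ha : Fix Q a) :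
    val Q (triv (Cn Q) : Cn Q → ℂ) a = ∑ g : G, a.coeff g := by
  classical
  haveI := Fact.mk hM.1
  haveI : CharP (Res M) p := charP_res hM
  haveI := Fintype.ofFinite (Cn Q)
  letI : MulAction Q G :=
    { smul := fun q x => (q : G) * x * (q : G)⁻¹
      one_smul := fun x => by change (1 : G) * x * (1 : G)⁻¹ = x; group
      mul_smul := fun q r x => by
        change ((q * r : Q) : G) * x * ((q * r : Q) : G)⁻¹ = q * (r * x * (r : G)⁻¹) * (q : G)⁻¹
        rw [Subgroup.coe_mul]; group }
  rw [sum_eq_sum_fixedPoints (p := p) hQ (fun g => a.coeff g) fun q x => fix_iff.1 ha q q.2 x,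
    Finset.sum_subtype (p := fun x => x ∈ Cn Q) _ (fun x => ?_), val, lam_trivial]
  · exact Finset.sum_congr rfl fun x _ => coeff_resA _ _ _
  · rw [Finset.mem_filter, MulAction.mem_fixedPoints, Subgroup.mem_centralizer_iff]
    simp only [Finset.mem_univ, true_and, SetLike.mem_coe]
    constructor
    · intro h q hq
      exact mul_inv_eq_iff_eq_mul.1 (h ⟨q, hq⟩)
    · intro h q
      change (q : G) * x * (q : G)⁻¹ = x
      rw [h q q.2, mul_inv_cancel_right]

theorem principal_pairOf (hM : IsPModular p M) {Q : Subgroup G} (hQ : IsPGroup p Q) :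
    IsBrauerPairOf p M (principalBlock M G) Q (principalBlock M (Cn Q)) := by
  classical
  haveI := Fintype.ofFinite G
  have hB : IsPBlock M (principalBlock M G) := ⟨⟨_, isIrr_one⟩, rfl⟩
  refine isBrauerPairOf_of_mem hM hB (isBrauerPair_principal hQ) (triv_mem_principal _) ?_
  rw [val_triv hM hQ (fix_of_classCoeff Q (isClassCoeff_bid hM hB)), ← lam_trivial,
    lam_bid hM hB ⟨_, isIrr_one⟩, if_pos (show (⟨_, isIrr_one⟩ : IrrCharacter G) ∈ principalBlock M G
      from sameBlock_refl _)]

theorem conjBlock_principal (Q : Subgroup G) (x : G) :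
    conjBlock Q x (principalBlock M (Cn Q)) =
      principalBlock M (Cn (Q.map (MulAut.conj x).toMonoidHom)) := by
  rw [conjBlock_eq_mvSet, mvSet_principal]

theorem fix_idA_principal {Q : Subgroup G} {S : Subgroup G}
    (hS : S ≤ Subgroup.normalizer (Q : Set G)) :
    Fix S (idA M Q (principalBlock M (Cn Q))) := fun y hy => by
  rw [idA, ← inA_bid_mvSet y (mem_Cn_conj_iff (hS hy)), mvSet_principal]

theorem principal_normalSubpair (hM : IsPModular p M) {Q P : Subgroup G} (hP : IsPGroup p P)
    (hQP : Q ≤ P) (hPN : P ≤ Subgroup.normalizer (Q : Set G)) :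
    IsNormalSubpair p M Q (principalBlock M (Cn Q)) P (principalBlock M (Cn P)) := by
  classical
  haveI := Fintype.ofFinite G
  have hQ : IsBrauerPair p M Q (principalBlock M (Cn Q)) := isBrauerPair_principal (hP.to_le hQP)
  refine isNormalSubpair_of_mem hM hQ (isBrauerPair_principal hP) hQP hPN
    (fix_idA_principal hPN) (triv_mem_principal _) ?_
  rw [val_triv hM hP (fix_idA_principal hPN),
    ← val_triv hM hQ.1 (fix_idA_principal (Subgroup.le_normalizer (H := Q))), val_inA_self,
    lam_bid hM hQ.2, if_pos (triv_mem_principal _)]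

theorem principal_subpairLE (hM : IsPModular p M) (P : Subgroup G) :
    ∀ {Q : Subgroup G}, IsPGroup p P → Q ≤ P →
      SubpairLE p M Q (principalBlock M (Cn Q)) P (principalBlock M (Cn P)) := by
  induction P using WellFoundedLT.induction with
  | _ P ih =>
    intro Q hP hQP
    haveI := Fact.mk hM.1
    rcases eq_or_lt_of_le hQP with rfl | hlt
    · exact Relation.ReflTransGen.refl
    obtain ⟨R, hQR, hRP, hPN⟩ := exists_normal_between hP hlt
    exact (ih R hRP (hP.to_le hRP.le) hQR).tail (principal_normalSubpair hM hP hRP.le hPN)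

theorem principal_maximal (hM : IsPModular p M) (S : Sylow p G) :
    IsMaximalBrauerPair p M (principalBlock M G) (S : Subgroup G)
      (principalBlock M (Cn (S : Subgroup G))) := by
  refine ⟨principal_pairOf hM S.isPGroup', fun R g hR hle => ?_⟩
  exact S.is_maximal' hR.1.1 (subpairLE_le hle)

theorem conjBlock_injective (Q : Subgroup G) (x : G) :
    Function.Injective (conjBlock Q x) := fun a b h => by
  rw [conjBlock_eq_mvSet, conjBlock_eq_mvSet] at h
  exact mvSet_injective _ h

/-- Brauer's third main theorem for Brauer pairs. -/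
theorem principal_pairOf_iff (hM : IsPModular p M) [Fact p.Prime] {Q : Subgroup G}
    (hQ : IsPGroup p Q) {e : Set (IrrCharacter (Cn Q))} :
    IsBrauerPairOf p M (principalBlock M G) Q e ↔ e = principalBlock M (Cn Q) := by
  refine ⟨fun h => ?_, fun h => h ▸ principal_pairOf hM hQ⟩
  obtain ⟨S⟩ := (inferInstance : Nonempty (Sylow p G))
  obtain ⟨x, hx⟩ := conj_le_maximal hM (principal_maximal hM S) h
  refine conjBlock_injective Q x ?_
  rw [conjBlock_principal]
  exact subpair_unique hM _ hx (principal_subpairLE hM _ S.isPGroup' (subpairLE_le hx))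

theorem isDefectGroup_principal_iff (hM : IsPModular p M) [Fact p.Prime] (D : Subgroup G) :
    IsDefectGroup p M (principalBlock M G) D ↔ ∃ S : Sylow p G, (S : Subgroup G) = D := by
  have hS : ∀ S : Sylow p G, IsDefectGroup p M (principalBlock M G) (S : Subgroup G) :=
    fun S => isDefectGroup_of_maximal hM (principal_maximal hM S)
  constructor
  · intro hD
    obtain ⟨S⟩ := (inferInstance : Nonempty (Sylow p G))
    obtain ⟨x, hx⟩ := isDefectGroup_conj_eq hM ⟨⟨_, isIrr_one⟩, rfl⟩ (hS S) hD
    refine ⟨Sylow.ofCard D ?_, Sylow.coe_ofCard _ _⟩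
    rw [← Sylow.card_eq_multiplicity S, ← hx, card_map_conj]
  · rintro ⟨S, rfl⟩
    exact hS S

end CfsgLib.Blk.Pair
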