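import Cfsg.Agent.Blk.Pair.FirstMain
import Cfsg.Agent.Blk.Pair.NormalP

/-!
Defect groups of the blocks cut out by a subpair in subgroups between the centralizer and the
stabilizer.
-/

set_option autoImplicit false
set_option linter.style.haveILetI false
set_option linter.unusedSectionVars false

namespace CfsgLib.Blk.Pair

open Cfsg CfsgLib.Char CfsgLib.Blk MonoidAlgebra Finset
open scoped ComplexConjugate

universe u v

section transport

variable {K : Type u} {K' : Type v} [Group K] [Group K'] [Finite K] [Finite K']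
  {M : Ideal AlgInt} [M.IsPrime] {p : ℕ} (φ : K ≃* K')

theorem isDefectClass_mvSet {b : Set (IrrCharacter K)} {g : K} (h : IsDefectClass M b g) :
    IsDefectClass M (mvSet φ b) (φ g) := by
  refine ⟨by rw [blockCoeff_mvSet]; exact h.1, by rw [blockCoeff_mvSet]; exact h.2.1, ?_⟩
  rintro _ ⟨χ, hχ, rfl⟩
  rw [centralChar_mvChar]
  exact h.2.2 χ hχ

theorem isDefectGroup_mvSet [Fact p.Prime] {b : Set (IrrCharacter K)} {D : Subgroup K}
    (h : IsDefectGroup p M b D) : IsDefectGroup p M (mvSet φ b) (D.map φ.toMonoidHom) := by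
  obtain ⟨g, hg, hs⟩ := isDefectGroup_iff.1 h
  refine isDefectGroup_iff.2 ⟨φ g, isDefectClass_mvSet φ hg, ?_⟩
  have hC : (Subgroup.centralizer ({g} : Set K)).map φ.toMonoidHom =
      Subgroup.centralizer ({φ g} : Set K') := by
    ext x
    rw [Subgroup.mem_map_equiv, Subgroup.mem_centralizer_singleton_iff,
      Subgroup.mem_centralizer_singleton_iff]
    constructor
    · intro h1
      simpa using congrArg φ h1
    · intro h1
      simpa using congrArg φ.symm h1
  refine ⟨hC ▸ Subgroup.map_mono hs.1, ?_⟩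
  rw [← hC, Subgroup.card_map_of_injective φ.injective,
    Subgroup.card_map_of_injective φ.injective]
  exact hs.2

end transport

variable {G : Type u} [Group G] [Finite G] {M : Ideal AlgInt} [M.IsPrime] {p : ℕ}

theorem map_conj_inf (P Q : Subgroup G) (x : G) :
    (P ⊓ Q).map (MulAut.conj x).toMonoidHom =
      P.map (MulAut.conj x).toMonoidHom ⊓ Q.map (MulAut.conj x).toMonoidHom :=
  Subgroup.map_inf P Q _ (MulAut.conj x).injective

theorem sup_le_normalizer {Q R : Subgroup G} (h : R ≤ Subgroup.normalizer (Q : Set G)) :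
    Q ⊔ R ≤ Subgroup.normalizer (Q : Set G) :=
  sup_le Subgroup.le_normalizer h

theorem isPGroup_sup {Q R : Subgroup G} (hQ : IsPGroup p Q) (hR : IsPGroup p R)
    (h : R ≤ Subgroup.normalizer (Q : Set G)) : IsPGroup p (Q ⊔ R : Subgroup G) := by
  rw [sup_comm]
  exact IsPGroup.to_sup_of_normal_right' hR hQ h

/-- The iso of the centralizer of `S` with a centralizer inside `K`. -/
def cnEquiv' {K R S : Subgroup G} (hR : R ≤ K) (h : ∀ g, g ∈ Cn S ↔ g ∈ K ∧ g ∈ Cn R) :
    Cn S ≃* Cn (R.subgroupOf K) where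
  toFun k := ⟨⟨k, ((h k).1 k.2).1⟩, (mem_Cn_subgroupOf hR _).2 ((h k).1 k.2).2⟩
  invFun k := ⟨((k : K) : G), (h _).2 ⟨(k : K).2, (mem_Cn_subgroupOf hR _).1 k.2⟩⟩
  left_inv _ := rfl
  right_inv _ := rfl
  map_mul' _ _ := rfl

theorem val_resA' {K R S : Subgroup G} (hR : R ≤ K) (h : ∀ g, g ∈ Cn S ↔ g ∈ K ∧ g ∈ Cn R)
    (ξ : IrrCharacter (Cn S)) (a : KA M G) :
    val (R.subgroupOf K) (mvChar (cnEquiv' hR h) ξ : Cn (R.subgroupOf K) → ℂ) (resA K a) =
      val S (ξ : Cn S → ℂ) a := by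
  refine lam_mvChar _ ξ _ _ fun k => ?_
  rw [coeff_resA, coeff_resA, coeff_resA]
  rfl

/-- The elements fixing `a`. -/
def fixer (a : KA M G) : Subgroup G where
  carrier := {x | cjA x a = a}
  one_mem' := cjA_one a
  mul_mem' {x y} (hx : cjA x a = a) (hy : cjA y a = a) := by
    change cjA (x * y) a = a
    rw [← cjA_mul_apply, hy, hx]
  inv_mem' {x} (hx : cjA x a = a) := by
    change cjA x⁻¹ a = a
    conv_lhs => rw [← hx, cjA_mul_apply, inv_mul_cancel, cjA_one]

theorem fix_sup {Q R : Subgroup G} {a : KA M G} (hQ : Fix Q a) (hR : Fix R a) : Fix (Q ⊔ R) a := by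
  have h1 : Q ≤ fixer a := fun y hy => hQ y hy
  have h2 : R ≤ fixer a := fun y hy => hR y hy
  exact fun y hy => (sup_le h1 h2) hy

variable (hM : IsPModular p M) [Fact p.Prime] {K Q P : Subgroup G}
  {F : Set (IrrCharacter K)} {f : Set (IrrCharacter (Cn Q))}
include hM

/-- The part of the larger pair inside `K` lies in a defect group of the local block. -/
theorem local_le_defectGroup (hF : IsPBlock M F) (hFb : bid M F = resA K (idA M Q f))
    (hKN : K ≤ Subgroup.normalizer (Q : Set G)) {e : Set (IrrCharacter (Cn P))}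
    (he : IsBrauerPair p M P e) (hle : SubpairLE p M Q f P e) {R : Subgroup G} (hRP : R ≤ P)
    (hRK : R ≤ K) (hC : ∀ g, g ∈ Cn (Q ⊔ R) ↔ g ∈ K ∧ g ∈ Cn R) :
    ∃ D : Subgroup K, IsDefectGroup p M F D ∧ R.subgroupOf K ≤ D := by
  have hSP : Q ⊔ R ≤ P := sup_le (subpairLE_le hle) hRP
  obtain ⟨k, hk, hkle⟩ := exists_subpair hM P he hSP
  have hn := normalSubpair_of_le hM hk (subpair_between hM hk le_sup_left hle hkle)
    (sup_le_normalizer (hRK.trans hKN))
  obtain ⟨η, hη⟩ := isPBlock_nonempty hk.2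
  have h1 := ((isNormalSubpair_iff hM).1 hn).2.2.2.2.2 η hη
  rw [← val_resA' hRK hC η, ← hFb] at h1
  have hp : IsBrauerPair p M (R.subgroupOf K) (mvSet (cnEquiv' hRK hC) k) :=
    ⟨(he.1.to_le hRP).of_equiv (Subgroup.subgroupOfEquivOfLe hRK).symm, isPBlock_mvSet _ hk.2⟩
  have hof := isBrauerPairOf_of_mem hM hF hp ((mem_mvSet _).2 hη) h1
  obtain ⟨D, hD⟩ := exists_isDefectGroup hM hF
  obtain ⟨x, hx⟩ := exists_conj_le_defectGroup hM hof hD
  refine ⟨_, IsDefectGroup.conj hD x⁻¹, fun y hy => ?_⟩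
  rw [mem_map_conj, inv_inv]
  exact hx ⟨y, hy, by simp⟩

/-- A defect group of the local block, together with the subpair, can be moved into a maximal
pair. -/
theorem local_exists_conj {B : Set (IrrCharacter G)} (hF : IsPBlock M F)
    (hFb : bid M F = resA K (idA M Q f)) (hKN : K ≤ Subgroup.normalizer (Q : Set G))
    (hfixK : Fix K (idA M Q f)) {e : Set (IrrCharacter (Cn P))}
    (hmax : IsMaximalBrauerPair p M B P e) (hf : IsBrauerPairOf p M B Q f) {D : Subgroup K}
    (hD : IsDefectGroup p M F D)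
    (hC : ∀ g, g ∈ Cn (Q ⊔ D.map K.subtype) ↔ g ∈ K ∧ g ∈ Cn (D.map K.subtype)) :
    ∃ x : G, SubpairLE p M (Q.map (MulAut.conj x).toMonoidHom) (conjBlock Q x f) P e ∧
      (D.map K.subtype).map (MulAut.conj x).toMonoidHom ≤ P := by
  obtain ⟨R, hRK, rfl⟩ : ∃ R : Subgroup G, R ≤ K ∧ R.subgroupOf K = D :=
    ⟨D.map K.subtype, Subgroup.map_subtype_le _, by
      rw [← Subgroup.comap_subtype, Subgroup.comap_map_eq_self_of_injective K.subtype_injective]⟩
  rw [Subgroup.map_subgroupOf_eq_of_le hRK] at hC ⊢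
  obtain ⟨h', hh'⟩ := exists_maximal_of_defectGroup hM hF hD
  set h := mvSet (cnEquiv' hRK hC).symm h' with hdef
  have hh : IsBrauerPair p M (Q ⊔ R) h :=
    ⟨isPGroup_sup hf.1.1
      ((IsDefectGroup.isPGroup hD).of_equiv (Subgroup.subgroupOfEquivOfLe hRK)) (hRK.trans hKN),
      isPBlock_mvSet _ hh'.1.1.2⟩
  obtain ⟨η', hη'⟩ := isPBlock_nonempty hh'.1.1.2
  have hv := ((isBrauerPairOf_iff hM).1 hh'.1).2.2 η' hη'
  rw [← mvChar_symm' (cnEquiv' hRK hC) η', hFb, val_resA'] at hv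
  obtain ⟨-, -, -, -, hfixQ, -⟩ := (isNormalSubpair_iff hM).1 (normalSubpair_self hM hf.1)
  have hfix : Fix (Q ⊔ R) (idA M Q f) := by
    exact fix_sup hfixQ (hfixK.mono hRK)
  have hn := isNormalSubpair_of_mem hM hf.1 hh le_sup_left (sup_le_normalizer (hRK.trans hKN))
    hfix ((mem_mvSet _).2 hη') hv
  obtain ⟨x, hx⟩ := conj_le_maximal hM hmax ((pairOf_congr_normal hM hn).2 hf)
  exact ⟨x, Relation.ReflTransGen.head (show NormalSubpairRel p M ⟨_, _⟩ ⟨_, _⟩ from
    normalSubpair_conjBlock hM x hn) hx,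
    (Subgroup.map_mono le_sup_right).trans (subpairLE_le hx)⟩

/-- If the part of the larger pair inside `K` contains a conjugate image of a defect group, it is
a defect group. -/
theorem local_isDefectGroup_of_card (hF : IsPBlock M F) (hFb : bid M F = resA K (idA M Q f))
    (hKN : K ≤ Subgroup.normalizer (Q : Set G)) {e : Set (IrrCharacter (Cn P))}
    (he : IsBrauerPair p M P e) (hle : SubpairLE p M Q f P e) {R : Subgroup G} (hRP : R ≤ P)
    (hRK : R ≤ K) (hC : ∀ g, g ∈ Cn (Q ⊔ R) ↔ g ∈ K ∧ g ∈ Cn R) {D : Subgroup K}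
    (hD : IsDefectGroup p M F D) (hcard : Nat.card D ≤ Nat.card R) :
    IsDefectGroup p M F (R.subgroupOf K) := by
  obtain ⟨E, hE, hRE⟩ := local_le_defectGroup hM hF hFb hKN he hle hRP hRK hC
  obtain ⟨x, hx⟩ := isDefectGroup_conj_eq hM hF hD hE
  have h1 : Nat.card D = Nat.card E := by rw [← hx, card_map_conj]
  have : R.subgroupOf K = E := Subgroup.eq_of_le_of_card_ge hRE (by
    rw [Nat.card_congr (Subgroup.subgroupOfEquivOfLe hRK).toEquiv, ← h1]; exact hcard)
  exact this ▸ hE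

omit hM in
theorem bid_eq_resA_of_sbc {K : Subgroup G} {F : Set (IrrCharacter K)}
    (h : ∀ t : K, blockCoeff F t = subgroupBlockCoeff (Cn Q) f (t : G)) :
    bid M F = resA K (idA M Q f) := by
  refine MonoidAlgebra.coeff_injective (Finsupp.ext fun t => ?_)
  rw [coeff_bid, coeff_resA, h, red_subgroupBlockCoeff]

theorem exists_local_block (hf : IsBrauerPair p M Q f) {T : Subgroup G} (hQT : Q ≤ T)
    (hCT : Cn Q ≤ T) (hTN : T ≤ Subgroup.normalizer (Q : Set G))
    (hfixT : Fix T (idA M Q f)) :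
    ∃ F : Set (IrrCharacter T), IsPBlock M F ∧
      ∀ t : T, blockCoeff F t = subgroupBlockCoeff (Cn Q) f (t : G) := by
  classical
  haveI : (Q.subgroupOf T).Normal :=
    Subgroup.normal_subgroupOf_of_le_normalizer hTN
  haveI : Fintype T := Fintype.ofFinite _
  obtain ⟨E, hE, -⟩ := existsUnique_block hM (isBrauerPair_subSet hCT hQT hf)
  refine ⟨E, hE.2.1, fun t => ?_⟩
  have hstab : ∀ x : T, x ∈ (⊤ : Subgroup T) ↔
      cjA x (idA M (Q.subgroupOf T) (subSet hCT hQT f)) =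
        idA M (Q.subgroupOf T) (subSet hCT hQT f) := by
    intro x
    refine ⟨fun _ => ?_, fun _ => Subgroup.mem_top x⟩
    rw [← resA_idA hCT hQT f]
    refine MonoidAlgebra.coeff_injective (Finsupp.ext fun s => ?_)
    rw [coeff_cjA, coeff_resA, coeff_resA]
    conv_rhs => rw [← hfixT x x.2, coeff_cjA]
    rfl
  have hinv : ∀ x : T, subgroupBlockCoeff (Cn Q) f ((x : G)⁻¹ * (t : G) * (x : G)) =
      subgroupBlockCoeff (Cn Q) f (t : G) := by
    intro x
    have hK := mem_Cn_conj_iff (hTN x.2)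
    have h0 : mvSet (cjIso (x : G) hK) f = f := by
      refine bid_inj hM (isPBlock_mvSet _ hf.2) hf.2 (inA_injective _ ?_)
      rw [inA_bid_mvSet]
      exact hfixT x x.2
    conv_rhs => rw [← h0, subgroupBlockCoeff_mvSet]
  rw [blockCoeff_eq_trace hM hE ⊤ hstab t, Subgroup.card_top]
  simp only [subgroupBlockCoeff_subSet, Subgroup.coe_mul, Subgroup.coe_inv, hinv,
    Finset.sum_const, Finset.card_univ, Nat.card_eq_fintype_card, nsmul_eq_mul]
  rw [← mul_assoc, inv_mul_cancel₀ (Nat.cast_ne_zero.2 Fintype.card_ne_zero), one_mul]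

theorem stabilizer_block (hf : IsBrauerPair p M Q f) (T : Subgroup G)
    (hT : ∀ y : G, y ∈ T ↔
      y ∈ Subgroup.normalizer (Q : Set G) ∧ StabilizesBlock (Cn Q) f y) :
    (Q ≤ T ∧ Cn Q ≤ T ∧ Fix T (idA M Q f)) ∧
      ∃ F : Set (IrrCharacter T), IsPBlock M F ∧
        ∀ t : T, blockCoeff F t = subgroupBlockCoeff (Cn Q) f (t : G) := by
  have hTA : ∀ x : G, x ∈ T ↔
      x ∈ Subgroup.normalizer (Q : Set G) ∧ cjA x (idA M Q f) = idA M Q f := by
    intro x
    rw [hT, stabilizesBlock_iff hM hf.2]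
    exact and_congr_right fun hx => and_iff_right (normalizer_le_normalizer_Cn Q hx)
  obtain ⟨-, -, -, -, hfix, -⟩ := (isNormalSubpair_iff hM).1 (normalSubpair_self hM hf)
  have hQT : Q ≤ T := fun x hx => (hTA x).2 ⟨Subgroup.le_normalizer hx, hfix x hx⟩
  have hCT : Cn Q ≤ T := fun x hx =>
    (hTA x).2 ⟨Cn_le_normalizer Q hx, fix_Cn_inA Q (isClassCoeff_bid hM hf.2) x hx⟩
  refine ⟨⟨hQT, hCT, fun x hx => ((hTA x).1 hx).2⟩, ?_⟩
  exact exists_local_block hM hf hQT hCT (fun x hx => ((hTA x).1 hx).1) fun x hx => ((hTA x).1 hx).2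

omit hM in
theorem mem_Cn_sup_iff (Q R : Subgroup G) (g : G) : g ∈ Cn (Q ⊔ R) ↔ g ∈ Cn Q ∧ g ∈ Cn R := by
  refine ⟨fun h => ⟨Cn_antitone le_sup_left h, Cn_antitone le_sup_right h⟩, fun h => ?_⟩
  rw [Subgroup.mem_centralizer_iff]
  intro y hy
  have hle : Q ⊔ R ≤ Subgroup.centralizer ({g} : Set G) :=
    sup_le (fun q hq => Subgroup.mem_centralizer_singleton_iff.2 (h.1 q hq))
      (fun q hq => Subgroup.mem_centralizer_singleton_iff.2 (h.2 q hq))
  exact Subgroup.mem_centralizer_singleton_iff.1 (hle hy)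

omit hM in
theorem hC_stabilizer {T R : Subgroup G} (hCT : Cn Q ≤ T) (hQR : Q ≤ R) (g : G) :
    g ∈ Cn (Q ⊔ R) ↔ g ∈ T ∧ g ∈ Cn R := by
  rw [sup_eq_right.2 hQR]
  exact ⟨fun h => ⟨hCT (Cn_antitone hQR h), h⟩, fun h => h.2⟩

theorem le_defectGroup_stabilizer {T : Subgroup G} {F : Set (IrrCharacter T)} (hF : IsPBlock M F)
    (hQ : IsPGroup p Q) (hQT : Q ≤ T) (hTN : T ≤ Subgroup.normalizer (Q : Set G)) {D : Subgroup T}
    (hD : IsDefectGroup p M F D) : Q ≤ D.map T.subtype := by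
  haveI : (Q.subgroupOf T).Normal := Subgroup.normal_subgroupOf_of_le_normalizer hTN
  have := normal_pgroup_le_defectGroup hM hF (Q.subgroupOf T)
    (hQ.of_equiv (Subgroup.subgroupOfEquivOfLe hQT).symm) hD
  intro q hq
  exact ⟨⟨q, hQT hq⟩, this hq, rfl⟩

end CfsgLib.Blk.Pair

namespace CfsgLib.Blk.Pair

open Cfsg CfsgLib.Char CfsgLib.Blk MonoidAlgebra Finset

universe w

variable {G : Type w} [Group G] [Finite G] {M : Ideal AlgInt} [M.IsPrime] {p : ℕ}

theorem mem_normalizer_map_conj (Q : Subgroup G) (x y : G) :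
    y ∈ Subgroup.normalizer ((Q.map (MulAut.conj x).toMonoidHom : Subgroup G) : Set G) ↔
      x⁻¹ * y * x ∈ Subgroup.normalizer (Q : Set G) := by
  simp only [mem_normalizer_subgroup_iff, mem_map_conj]
  constructor
  · intro h g
    have h1 := h (x * g * x⁻¹)
    simpa [mul_assoc] using h1
  · intro h g
    have h1 := h (x⁻¹ * g * x)
    simpa [mul_assoc] using h1

theorem mem_stabilizer_conjBlock (hM : IsPModular p M) (x : G) {Q : Subgroup G}
    {f : Set (IrrCharacter (Cn Q))} (hf : IsBrauerPair p M Q f) (y : G) :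
    (y ∈ Subgroup.normalizer ((Q.map (MulAut.conj x).toMonoidHom : Subgroup G) : Set G) ∧
        StabilizesBlock (Cn (Q.map (MulAut.conj x).toMonoidHom)) (conjBlock Q x f) y) ↔
      (x⁻¹ * y * x ∈ Subgroup.normalizer (Q : Set G) ∧
        StabilizesBlock (Cn Q) f (x⁻¹ * y * x)) := by
  have hiff : cjA y (idA M _ (conjBlock Q x f)) = idA M _ (conjBlock Q x f) ↔
      cjA (x⁻¹ * y * x) (idA M Q f) = idA M Q f := by
    rw [(cjPair_conjBlock x Q f).2, cjA_mul_apply]
    constructor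
    · intro h
      have h1 := congrArg (cjA x⁻¹) h
      rwa [cjA_mul_apply, cjA_mul_apply, inv_mul_cancel, cjA_one, ← mul_assoc] at h1
    · intro h
      conv_rhs => rw [← h, cjA_mul_apply]
      congr 1
      group
  rw [stabilizesBlock_iff hM (isBrauerPair_conjBlock x hf).2, stabilizesBlock_iff hM hf.2]
  constructor
  · rintro ⟨h1, -, h2⟩
    have h3 := (mem_normalizer_map_conj Q x y).1 h1
    exact ⟨h3, normalizer_le_normalizer_Cn Q h3, hiff.1 h2⟩
  · rintro ⟨h1, -, h2⟩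
    have h3 := (mem_normalizer_map_conj Q x y).2 h1
    exact ⟨h3, normalizer_le_normalizer_Cn _ h3, hiff.2 h2⟩

end CfsgLib.Blk.Pair
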