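import Cfsg.Agent.Blk.SecondMain

/-!
Central characters and block idempotents on the group algebra over the residue field, and their
behaviour under isomorphisms and conjugation.
-/

set_option autoImplicit false
set_option linter.style.haveILetI false
set_option linter.unusedSectionVars false

namespace CfsgLib.Blk.Pair

open Cfsg CfsgLib.Char CfsgLib.Blk MonoidAlgebra Finset IsLocalRing
open scoped ComplexConjugate

universe u

/-- The group algebra over the residue field. -/
abbrev KA (M : Ideal AlgInt) [M.IsPrime] (G : Type u) [Group G] := MonoidAlgebra (Res M) G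

variable {G : Type u} [Group G] [Finite G] {M : Ideal AlgInt} [M.IsPrime] {p : ℕ}

/-- A coefficientwise lift to the local ring. -/
noncomputable def liftA (a : KA M G) : MonoidAlgebra (locRing M) G :=
  MonoidAlgebra.ofCoeff (Finsupp.ofSupportFinite
    (fun g => Function.surjInv (IsLocalRing.residue_surjective (R := locRing M)) (a.coeff g))
    (Set.toFinite _))

theorem redA_liftA (a : KA M G) : redA (liftA a) = a := by
  refine MonoidAlgebra.coeff_injective (Finsupp.ext fun g => ?_)
  rw [coeff_redA]
  exact Function.surjInv_eq (IsLocalRing.residue_surjective (R := locRing M)) (a.coeff g)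

theorem isClassCoeff_liftA {a : KA M G} (ha : IsClassCoeff a) : IsClassCoeff (liftA a) :=
  fun g h => congrArg (Function.surjInv (IsLocalRing.residue_surjective (R := locRing M))) (ha g h)

/-- The reduced central character on the group algebra over the residue field. -/
noncomputable def lam (χ : G → ℂ) (a : KA M G) : Res M := omegaBar χ (liftA a)

section lam

variable {χ : G → ℂ} (hχ : IsIrrCharacter G χ) {a b : KA M G}
include hχ

theorem lam_redA {A : MonoidAlgebra (locRing M) G} (hA : IsClassCoeff A) :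
    lam χ (redA A) = omegaBar χ A :=
  omegaBar_of_redA_eq hχ (isClassCoeff_liftA hA.redA) hA (redA_liftA _)

theorem lam_add (ha : IsClassCoeff a) (hb : IsClassCoeff b) :
    lam χ (a + b) = lam χ a + lam χ b := by
  have h := lam_redA hχ ((isClassCoeff_liftA ha).add (isClassCoeff_liftA hb))
  rwa [map_add, redA_liftA, redA_liftA,
    omegaBar_add hχ (isClassCoeff_liftA ha) (isClassCoeff_liftA hb)] at h

theorem lam_sub (ha : IsClassCoeff a) (hb : IsClassCoeff b) :
    lam χ (a - b) = lam χ a - lam χ b := by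
  have h := lam_redA hχ ((isClassCoeff_liftA ha).sub (isClassCoeff_liftA hb))
  rwa [map_sub, redA_liftA, redA_liftA,
    omegaBar_sub hχ (isClassCoeff_liftA ha) (isClassCoeff_liftA hb)] at h

theorem lam_mul (ha : IsClassCoeff a) (hb : IsClassCoeff b) :
    lam χ (a * b) = lam χ a * lam χ b := by
  have h := lam_redA hχ ((isClassCoeff_liftA ha).mul (isClassCoeff_liftA hb))
  rwa [map_mul, redA_liftA, redA_liftA,
    omegaBar_mul hχ (isClassCoeff_liftA ha) (isClassCoeff_liftA hb)] at h

theorem lam_smul (r : Res M) (ha : IsClassCoeff a) : lam χ (r • a) = r * lam χ a := by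
  obtain ⟨s, rfl⟩ := IsLocalRing.residue_surjective r
  have h := lam_redA hχ ((isClassCoeff_liftA ha).smul s)
  rwa [redA_smul, redA_liftA, omegaBar_smul hχ s (isClassCoeff_liftA ha)] at h

theorem lam_one : lam χ (1 : KA M G) = 1 := by
  have h := lam_redA hχ (isClassCoeff_one (R := locRing M) (G := G))
  rwa [map_one, omegaBar_one hχ] at h

theorem lam_zero : lam χ (0 : KA M G) = 0 := by
  have h := lam_redA hχ (isClassCoeff_zero (R := locRing M) (G := G))
  rwa [map_zero, omegaBar_zero] at h

theorem lam_pow (ha : IsClassCoeff a) (n : ℕ) : lam χ (a ^ n) = lam χ a ^ n := by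
  induction n with
  | zero => simpa using lam_one hχ
  | succ n ih => rw [pow_succ, pow_succ, lam_mul hχ (ha.pow n) ha, ih]

theorem lam_sum {ι : Type*} (s : Finset ι) (f : ι → KA M G)
    (hf : ∀ i ∈ s, IsClassCoeff (f i)) : lam χ (∑ i ∈ s, f i) = ∑ i ∈ s, lam χ (f i) := by
  classical
  induction s using Finset.induction_on with
  | empty => simpa using lam_zero hχ
  | insert i s hi ih =>
    rw [Finset.sum_insert hi, Finset.sum_insert hi, lam_add hχ (hf i (Finset.mem_insert_self i s))
      (isClassCoeff_sum _ _ fun j hj => hf j (Finset.mem_insert_of_mem hj)),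
      ih fun j hj => hf j (Finset.mem_insert_of_mem hj)]

theorem lam_eq_zero_of_isNilpotent (ha : IsClassCoeff a) (h : IsNilpotent a) : lam χ a = 0 := by
  obtain ⟨n, hn⟩ := h
  have h1 : lam χ a ^ n = 0 := by rw [← lam_pow hχ ha, hn, lam_zero hχ]
  exact IsReduced.eq_zero _ ⟨n, h1⟩

theorem lam_idem (ha : IsClassCoeff a) (h : a * a = a) : lam χ a = 0 ∨ lam χ a = 1 :=
  IsIdempotentElem.iff_eq_zero_or_one.1 (by rw [IsIdempotentElem, ← lam_mul hχ ha ha, h])

theorem lam_congr {ψ : G → ℂ} (hψ : IsIrrCharacter G ψ) (h : SameBlock M χ ψ)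
    (ha : IsClassCoeff a) : lam χ a = lam ψ a :=
  omegaBar_congr hχ hψ h (isClassCoeff_liftA ha)

theorem lam_classSum (g : G) : lam χ (classSum (Res M) g) = red M (centralChar χ g) := by
  rw [← redA_classSum, lam_redA hχ (isClassCoeff_classSum _ g), omegaBar_classSum hχ]

theorem lam_eq_sum [Fintype (ConjClasses G)] (ha : IsClassCoeff a) :
    lam χ a = ∑ C : ConjClasses G, a.coeff C.out * red M (centralChar χ C.out) := by
  rw [lam, omegaBar_eq_sum hχ (isClassCoeff_liftA ha)]
  refine Finset.sum_congr rfl fun C _ => ?_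
  rw [← coeff_redA, redA_liftA]

end lam

theorem lam_trivial [Fintype G] (a : KA M G) :
    lam (fun _ : G => (1 : ℂ)) a = ∑ g : G, a.coeff g := by
  rw [lam, omegaBar, omega_eq]
  simp only [mul_one, div_one]
  rw [red_sum _ _ fun g _ => ((liftA a).coeff g).2]
  refine Finset.sum_congr rfl fun g _ => ?_
  rw [red_coe, ← coeff_redA, redA_liftA]

/-- An element killed by every reduced central character is nilpotent. -/
theorem isNilpotent_of_lam (hM : IsPModular p M) {a : KA M G} (ha : IsClassCoeff a)
    (h : ∀ χ : IrrCharacter G, lam (χ : G → ℂ) a = 0) : IsNilpotent a := by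
  have h1 := isNilpotent_redA hM (isClassCoeff_liftA ha) h
  rwa [redA_liftA] at h1

theorem eq_zero_of_idem_lam (hM : IsPModular p M) {a : KA M G} (ha : IsClassCoeff a)
    (hi : a * a = a) (h : ∀ χ : IrrCharacter G, lam (χ : G → ℂ) a = 0) : a = 0 := by
  obtain ⟨n, hn⟩ := isNilpotent_of_lam hM ha h
  rcases n with _ | n
  · rw [← one_mul a, ← pow_zero a, hn, zero_mul]
  · rwa [IsIdempotentElem.pow_succ_eq n hi] at hn

/-- Commuting idempotents with the same reduced central characters are equal. -/
theorem eq_of_idem_lam (hM : IsPModular p M) {a b : KA M G} (ha : IsClassCoeff a)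
    (hb : IsClassCoeff b) (hia : a * a = a) (hib : b * b = b)
    (h : ∀ χ : IrrCharacter G, lam (χ : G → ℂ) a = lam (χ : G → ℂ) b) : a = b := by
  have hab : a * b = b * a := (ha.commute b).eq
  have h1 : a - a * b = 0 := by
    refine eq_zero_of_idem_lam hM (ha.sub (ha.mul hb)) ?_ fun χ => ?_
    · have e1 : a * (a * b) = a * b := by rw [← mul_assoc, hia]
      have e2 : a * b * a = a * b := by rw [mul_assoc, ← hab, e1]
      have e3 : a * b * (a * b) = a * b := by rw [← mul_assoc, e2, mul_assoc, hib]
      rw [sub_mul, mul_sub, mul_sub, hia, e1, e2, e3]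
      abel
    · rw [lam_sub χ.2 ha (ha.mul hb), lam_mul χ.2 ha hb, ← h χ]
      rcases lam_idem χ.2 ha hia with h' | h' <;> simp [h']
  have h2 : b - a * b = 0 := by
    refine eq_zero_of_idem_lam hM (hb.sub (ha.mul hb)) ?_ fun χ => ?_
    · have e1 : b * (a * b) = a * b := by rw [← mul_assoc, ← hab, mul_assoc, hib]
      have e2 : a * b * b = a * b := by rw [mul_assoc, hib]
      have e3 : a * b * (a * b) = a * b := by
        rw [mul_assoc, e1, ← mul_assoc, hia]
      rw [sub_mul, mul_sub, mul_sub, hib, e1, e2, e3]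
      abel
    · rw [lam_sub χ.2 hb (ha.mul hb), lam_mul χ.2 ha hb, h χ]
      rcases lam_idem χ.2 hb hib with h' | h' <;> simp [h']
  rw [sub_eq_zero] at h1 h2
  exact h1.trans h2.symm

/-! ### Block idempotents -/

/-- The reduced block idempotent. -/
noncomputable def bid (M : Ideal AlgInt) [M.IsPrime] (B : Set (IrrCharacter G)) : KA M G :=
  MonoidAlgebra.ofCoeff (Finsupp.ofSupportFinite (fun g => red M (blockCoeff B g)) (Set.toFinite _))

@[simp] theorem coeff_bid (B : Set (IrrCharacter G)) (g : G) :
    (bid M B).coeff g = red M (blockCoeff B g) := rfl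

theorem bid_eq (hM : IsPModular p M) {B : Set (IrrCharacter G)} (hB : IsPBlock M B) :
    bid M B = redA (blockIdem hM hB) := by
  refine MonoidAlgebra.coeff_injective (Finsupp.ext fun g => ?_)
  rw [coeff_bid, coeff_redA, ← red_coe, coeff_blockIdem]

variable (hM : IsPModular p M) {B : Set (IrrCharacter G)} (hB : IsPBlock M B)
include hM hB

theorem isClassCoeff_bid : IsClassCoeff (bid M B) := by
  rw [bid_eq hM hB]; exact (isClassCoeff_blockIdem hM hB).redA

theorem bid_mul_self : bid M B * bid M B = bid M B := by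
  rw [bid_eq hM hB, ← map_mul, blockIdem_mul_self]

theorem lam_bid (χ : IrrCharacter G) [Decidable (χ ∈ B)] :
    lam (χ : G → ℂ) (bid M B) = if χ ∈ B then 1 else 0 := by
  rw [bid_eq hM hB, lam_redA χ.2 (isClassCoeff_blockIdem hM hB), omegaBar_blockIdem]

theorem bid_ne_zero : bid M B ≠ 0 := by
  classical
  obtain ⟨χ, hχ⟩ := isPBlock_nonempty hB
  intro h
  have h1 := lam_bid hM hB χ
  rw [h, lam_zero χ.2, if_pos hχ] at h1
  exact zero_ne_one h1

theorem bid_mul_ne {B' : Set (IrrCharacter G)} (hB' : IsPBlock M B') (h : B ≠ B') :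
    bid M B * bid M B' = 0 := by
  rw [bid_eq hM hB, bid_eq hM hB', ← map_mul, blockIdem_mul_ne hM hB hB' h, map_zero]

theorem bid_inj {B' : Set (IrrCharacter G)} (hB' : IsPBlock M B') (h : bid M B = bid M B') :
    B = B' := by
  by_contra hne
  have h1 := bid_mul_ne hM hB hB' hne
  rw [← h, bid_mul_self hM hB] at h1
  exact bid_ne_zero hM hB h1

/-- A block idempotent times a central idempotent is `0` or itself. -/
theorem bid_mul_idem {z : KA M G} (hz : IsClassCoeff z) (hi : z * z = z) {χ : IrrCharacter G}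
    (hχ : χ ∈ B) : bid M B * z = lam (χ : G → ℂ) z • bid M B := by
  classical
  have hb := isClassCoeff_bid hM hB
  refine eq_of_idem_lam hM (hb.mul hz) (hb.smul _) ?_ ?_ fun ψ => ?_
  · rw [(hz.commute (bid M B)).mul_mul_mul_comm, bid_mul_self hM hB, hi]
  · rw [smul_mul_smul_comm, bid_mul_self hM hB, ← lam_mul χ.2 hz hz, hi]
  · rw [lam_mul ψ.2 hb hz, lam_smul ψ.2 _ hb, lam_bid hM hB]
    split_ifs with h
    · rw [one_mul, mul_one]
      exact lam_congr ψ.2 χ.2 (sameBlock_of_mem hB h hχ) hz
    · rw [zero_mul, mul_zero]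

omit hB
theorem sum_bid [Fintype {B : Set (IrrCharacter G) // IsPBlock M B}] :
    ∑ B : {B : Set (IrrCharacter G) // IsPBlock M B}, bid M B.1 = 1 := by
  rw [← map_one (redA (M := M) (G := G)), ← sum_blockIdem (G := G) hM, map_sum]
  exact Finset.sum_congr rfl fun B _ => bid_eq hM B.2

theorem exists_block_of_ne_zero {z : KA M G} (hz : IsClassCoeff z) (hi : z * z = z) (h : z ≠ 0) :
    ∃ B : Set (IrrCharacter G), IsPBlock M B ∧ ∀ χ ∈ B, lam (χ : G → ℂ) z = 1 := by
  by_contra! hno
  refine h (eq_zero_of_idem_lam hM hz hi fun χ => ?_)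
  obtain ⟨ψ, hψ, hne⟩ := hno _ (blockOf_isPBlock (M := M) χ)
  refine ((lam_idem χ.2 hz hi).resolve_right fun h1 => hne ?_)
  rw [← lam_congr χ.2 ψ.2 hψ hz, h1]

end CfsgLib.Blk.Pair
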