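import Cfsg.Agent.Blk.Pair.Pairs

/-!
Conjugation of Brauer pairs.
-/

set_option autoImplicit false
set_option linter.style.haveILetI false
set_option linter.unusedSectionVars false

namespace CfsgLib.Blk.Pair

open Cfsg CfsgLib.Char CfsgLib.Blk MonoidAlgebra Finset
open scoped ComplexConjugate

universe u

variable {G : Type u} [Group G] [Finite G] {M : Ideal AlgInt} [M.IsPrime] {p : ℕ}

/-- The idempotent of a block of the centralizer of `Q`, in the group algebra of `G`. -/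
noncomputable abbrev idA (M : Ideal AlgInt) [M.IsPrime] (Q : Subgroup G)
    (f : Set (IrrCharacter (Cn Q))) : KA M G := inA (Cn Q) (bid M f)

/-- `(Q', f')` is the conjugate of `(Q, f)` by `x`. -/
def CjPair (M : Ideal AlgInt) [M.IsPrime] (x : G) (Q : Subgroup G) (f : Set (IrrCharacter (Cn Q)))
    (Q' : Subgroup G) (f' : Set (IrrCharacter (Cn Q'))) : Prop :=
  Q' = Q.map (MulAut.conj x).toMonoidHom ∧ idA M Q' f' = cjA x (idA M Q f)

theorem cjPair_conjBlock (x : G) (Q : Subgroup G) (f : Set (IrrCharacter (Cn Q))) :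
    CjPair M x Q f (Q.map (MulAut.conj x).toMonoidHom) (conjBlock Q x f) := by
  refine ⟨rfl, ?_⟩
  rw [idA, conjBlock_eq_mvSet]
  exact inA_bid_mvSet x (mem_centralizer_map_conj Q x) f

theorem isBrauerPair_conjBlock (x : G) {Q : Subgroup G} {f : Set (IrrCharacter (Cn Q))}
    (h : IsBrauerPair p M Q f) :
    IsBrauerPair p M (Q.map (MulAut.conj x).toMonoidHom) (conjBlock Q x f) := by
  refine ⟨h.1.map _, ?_⟩
  rw [conjBlock_eq_mvSet]
  exact isPBlock_mvSet _ h.2

/-- Conjugate pairs are given by `conjBlock`. -/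
theorem CjPair.eq_conjBlock (hM : IsPModular p M) {x : G} {Q Q' : Subgroup G}
    {f : Set (IrrCharacter (Cn Q))} {f' : Set (IrrCharacter (Cn Q'))}
    (hf : IsBrauerPair p M Q f) (hf' : IsBrauerPair p M Q' f') (h : CjPair M x Q f Q' f') :
    (⟨Q', f'⟩ : BrauerPairIdx G) = ⟨Q.map (MulAut.conj x).toMonoidHom, conjBlock Q x f⟩ := by
  obtain ⟨rfl, h2⟩ := h
  rw [← (cjPair_conjBlock (M := M) x Q f).2] at h2
  rw [bid_inj hM hf'.2 (isBrauerPair_conjBlock x hf).2 (inA_injective _ h2)]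

theorem cjPair_one (Q : Subgroup G) (f : Set (IrrCharacter (Cn Q))) : CjPair M 1 Q f Q f := by
  refine ⟨?_, (cjA_one _).symm⟩
  ext g
  simp [mem_map_conj]

theorem map_conj_mul (x y : G) (Q : Subgroup G) :
    (Q.map (MulAut.conj y).toMonoidHom).map (MulAut.conj x).toMonoidHom =
      Q.map (MulAut.conj (x * y)).toMonoidHom := by
  ext g
  simp only [mem_map_conj, mul_inv_rev, mul_assoc]

theorem CjPair.trans {x y : G} {Q Q' Q'' : Subgroup G} {f : Set (IrrCharacter (Cn Q))}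
    {f' : Set (IrrCharacter (Cn Q'))} {f'' : Set (IrrCharacter (Cn Q''))}
    (h : CjPair M y Q f Q' f') (h' : CjPair M x Q' f' Q'' f'') :
    CjPair M (x * y) Q f Q'' f'' :=
  ⟨by rw [h'.1, h.1, map_conj_mul], by rw [h'.2, h.2, cjA_mul_apply]⟩

theorem CjPair.symm {x : G} {Q Q' : Subgroup G} {f : Set (IrrCharacter (Cn Q))}
    {f' : Set (IrrCharacter (Cn Q'))} (h : CjPair M x Q f Q' f') : CjPair M x⁻¹ Q' f' Q f := by
  refine ⟨?_, by rw [h.2, cjA_mul_apply, inv_mul_cancel, cjA_one]⟩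
  rw [h.1, map_conj_mul, inv_mul_cancel]
  exact (cjPair_one (M := M) Q f).1

theorem cjA_fix {x : G} {S : Subgroup G} {a : KA M G} (h : Fix S a) :
    Fix (S.map (MulAut.conj x).toMonoidHom) (cjA x a) := by
  intro y hy
  rw [mem_map_conj] at hy
  conv_rhs => rw [← h _ hy]
  rw [cjA_mul_apply, cjA_mul_apply]
  congr 1
  group

/-- The value at a Brauer image is invariant under conjugation. -/
theorem val_cjA {x : G} {P : Subgroup G} (ξ : IrrCharacter (Cn P)) (a : KA M G) :
    val (P.map (MulAut.conj x).toMonoidHom)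
      (mvChar (cjIso x (mem_centralizer_map_conj P x)) ξ :
        Cn (P.map (MulAut.conj x).toMonoidHom) → ℂ) (cjA x a) = val P (ξ : Cn P → ℂ) a := by
  refine lam_mvChar _ ξ _ _ fun k => ?_
  rw [coeff_resA, coeff_resA, coe_cjIso, coeff_cjA]
  congr 1
  group

theorem normalSubpair_conjBlock (hM : IsPModular p M) (x : G) {Q P : Subgroup G}
    {f : Set (IrrCharacter (Cn Q))} {e : Set (IrrCharacter (Cn P))}
    (h : IsNormalSubpair p M Q f P e) :
    IsNormalSubpair p M (Q.map (MulAut.conj x).toMonoidHom) (conjBlock Q x f)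
      (P.map (MulAut.conj x).toMonoidHom) (conjBlock P x e) := by
  obtain ⟨hf, he, hQP, hPN, hfix, hv⟩ := (isNormalSubpair_iff hM).1 h
  obtain ⟨ξ, hξ⟩ := isPBlock_nonempty he.2
  refine isNormalSubpair_of_mem hM (isBrauerPair_conjBlock x hf) (isBrauerPair_conjBlock x he)
    (Subgroup.map_mono hQP) ?_ ?_ (ξ := mvChar (cjIso x (mem_centralizer_map_conj P x)) ξ) ?_ ?_
  · rintro _ ⟨y, hy, rfl⟩
    refine mem_normalizer_subgroup_iff.2 fun g => ?_
    rw [mem_map_conj, mem_map_conj, mem_normalizer_subgroup_iff.1 (hPN hy)]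
    simp [mul_assoc]
  · show Fix _ (idA M (Q.map (MulAut.conj x).toMonoidHom) (conjBlock Q x f))
    rw [(cjPair_conjBlock x Q f).2]
    exact cjA_fix hfix
  · rw [conjBlock_eq_mvSet]; exact (mem_mvSet _).2 hξ
  · show val _ _ (idA M (Q.map (MulAut.conj x).toMonoidHom) (conjBlock Q x f)) = 1
    rw [(cjPair_conjBlock x Q f).2, val_cjA]
    exact hv ξ hξ

theorem subpairLE_conjBlock (hM : IsPModular p M) (x : G) {Q P : Subgroup G}
    {f : Set (IrrCharacter (Cn Q))} {e : Set (IrrCharacter (Cn P))}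
    (h : SubpairLE p M Q f P e) :
    SubpairLE p M (Q.map (MulAut.conj x).toMonoidHom) (conjBlock Q x f)
      (P.map (MulAut.conj x).toMonoidHom) (conjBlock P x e) :=
  by
  suffices key : ∀ a b : BrauerPairIdx G, Relation.ReflTransGen (NormalSubpairRel p M) a b →
      Relation.ReflTransGen (NormalSubpairRel p M)
        (⟨a.1.map (MulAut.conj x).toMonoidHom, conjBlock a.1 x a.2⟩ : BrauerPairIdx G)
        ⟨b.1.map (MulAut.conj x).toMonoidHom, conjBlock b.1 x b.2⟩ from key ⟨Q, f⟩ ⟨P, e⟩ h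
  intro a b hab
  induction hab with
  | refl => exact Relation.ReflTransGen.refl
  | tail _ h ih => exact ih.tail (normalSubpair_conjBlock hM x h)

theorem subpairLE_cjPair (hM : IsPModular p M) {x : G} {Q Q' P P' : Subgroup G}
    {f : Set (IrrCharacter (Cn Q))} {f' : Set (IrrCharacter (Cn Q'))}
    {e : Set (IrrCharacter (Cn P))} {e' : Set (IrrCharacter (Cn P'))}
    (hf : IsBrauerPair p M Q f) (hf' : IsBrauerPair p M Q' f')
    (he' : IsBrauerPair p M P' e') (hQ : CjPair M x Q f Q' f') (hP : CjPair M x P e P' e')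
    (h : SubpairLE p M Q f P e) : SubpairLE p M Q' f' P' e' := by
  have h1 := subpairLE_conjBlock hM x h
  have h2 := hP.eq_conjBlock hM (subpairLE_isBrauerPair' hf h) he'
  have h3 := hQ.eq_conjBlock hM hf hf'
  unfold SubpairLE at h1 ⊢
  rw [h2, h3]
  exact h1

theorem pairOf_cjPair (hM : IsPModular p M) {x : G} {Q Q' : Subgroup G}
    {f : Set (IrrCharacter (Cn Q))} {f' : Set (IrrCharacter (Cn Q'))}
    (hf' : IsBrauerPair p M Q' f') (hQ : CjPair M x Q f Q' f') {B : Set (IrrCharacter G)}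
    (h : IsBrauerPairOf p M B Q f) : IsBrauerPairOf p M B Q' f' := by
  obtain ⟨hf, hB, hv⟩ := (isBrauerPairOf_iff hM).1 h
  obtain ⟨ξ, hξ⟩ := isPBlock_nonempty hf.2
  have h1 := hQ.eq_conjBlock hM hf hf'
  obtain ⟨rfl, h2⟩ := Sigma.mk.injEq .. ▸ h1
  obtain rfl := eq_of_heq h2
  refine isBrauerPairOf_of_mem hM hB hf'
    (ξ := mvChar (cjIso x (mem_centralizer_map_conj Q x)) ξ) ?_ ?_
  · rw [conjBlock_eq_mvSet]; exact (mem_mvSet _).2 hξ
  · rw [← cjA_eq_of_isClassCoeff (isClassCoeff_bid hM hB) x, val_cjA]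
    exact hv ξ hξ

end CfsgLib.Blk.Pair
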