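import Cfsg.Agent.Blk.Pair.Local
import Cfsg.Agent.Fus.System
import Cfsg.Prelude.Def_BlockFusion

/-!
The fusion system of a block on a maximal Brauer pair, fully centralized and fully normalized
subgroups.
-/

set_option autoImplicit false
set_option linter.style.haveILetI false
set_option linter.unusedSectionVars false

namespace CfsgLib.Blk.Pair

open Cfsg CfsgLib.Char CfsgLib.Blk MonoidAlgebra Finset

universe u

variable {G : Type u} [Group G] [Finite G] {M : Ideal AlgInt} [M.IsPrime] {p : ℕ}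
  {P : Subgroup G} {e : Set (IrrCharacter (Cn P))}

theorem bid_eq_resA_self (Q : Subgroup G) (f : Set (IrrCharacter (Cn Q))) :
    bid M f = resA (Cn Q) (idA M Q f) := (resA_inA _ _).symm

/-- The unique subpair is stable under the elements of the larger group normalizing it. -/
theorem fix_below (hM : IsPModular p M) (he : IsBrauerPair p M P e) {Q : Subgroup G}
    {f : Set (IrrCharacter (Cn Q))} (hle : SubpairLE p M Q f P e) :
    Fix (P ⊓ Subgroup.normalizer (Q : Set G)) (idA M Q f) := by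
  obtain ⟨k, hk, hkle⟩ :=
    exists_subpair hM P he (Q := P ⊓ Subgroup.normalizer (Q : Set G)) inf_le_left
  have hn := normalSubpair_of_le hM hk
    (subpair_between hM hk (le_inf (subpairLE_le hle) Subgroup.le_normalizer) hle hkle) inf_le_right
  exact ((isNormalSubpair_iff hM).1 hn).2.2.2.2.1

theorem cjPair_self_of_mem (hM : IsPModular p M) (he : IsBrauerPair p M P e) {a : G} (ha : a ∈ P) :
    CjPair M a P e P e :=
  ⟨(map_conj_eq_of_mem_normalizer (Subgroup.le_normalizer ha)).symm,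
    (((isNormalSubpair_iff hM).1 (normalSubpair_self hM he)).2.2.2.2.1 a ha).symm⟩

/-- Conjugation by an element of the larger group keeps subpairs below it. -/
theorem below_conj_mem (hM : IsPModular p M) (he : IsBrauerPair p M P e) {Q : Subgroup G}
    {f : Set (IrrCharacter (Cn Q))} (hle : SubpairLE p M Q f P e) {a : G} (ha : a ∈ P) :
    SubpairLE p M (Q.map (MulAut.conj a).toMonoidHom) (conjBlock Q a f) P e := by
  have hf := subpairLE_isBrauerPair he hle
  exact subpairLE_cjPair hM hf (isBrauerPair_conjBlock a hf) he (cjPair_conjBlock a Q f)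
    (cjPair_self_of_mem hM he ha) hle

/-- Composition of two moves inside the larger pair. -/
theorem below_comp (hM : IsPModular p M) (he : IsBrauerPair p M P e) {Q R : Subgroup G}
    {f : Set (IrrCharacter (Cn Q))} {k : Set (IrrCharacter (Cn R))} (hf : IsBrauerPair p M Q f)
    {g h : G} (hgR : Q.map (MulAut.conj g).toMonoidHom ≤ R)
    (hg : SubpairLE p M (Q.map (MulAut.conj g).toMonoidHom) (conjBlock Q g f) P e)
    (hk : SubpairLE p M R k P e)
    (hh : SubpairLE p M (R.map (MulAut.conj h).toMonoidHom) (conjBlock R h k) P e) :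
    SubpairLE p M (Q.map (MulAut.conj (h * g)).toMonoidHom) (conjBlock Q (h * g) f) P e := by
  have hkp := subpairLE_isBrauerPair he hk
  have h1 := subpair_between hM hkp hgR hg hk
  exact (subpairLE_cjPair hM (isBrauerPair_conjBlock g hf) (isBrauerPair_conjBlock (h * g) hf)
    (isBrauerPair_conjBlock h hkp)
    ((cjPair_conjBlock g Q f).symm.trans (cjPair_conjBlock (h * g) Q f))
    (by
      rw [mul_inv_cancel_right]
      exact cjPair_conjBlock h R k) h1).trans hh

/-- The fusion system of a block on a maximal pair. -/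
noncomputable def blockSystem (hM : IsPModular p M) (he : IsBrauerPair p M P e) :
    FusionSystem P where
  Hom Q := {φ | Q ≤ P ∧ ∃ g : G, (∀ u : Q, φ u = g * (u : G) * g⁻¹) ∧
    Q.map (MulAut.conj g).toMonoidHom ≤ P ∧
      ∃ f : Set (IrrCharacter (Subgroup.centralizer (Q : Set G))),
        SubpairLE p M Q f P e ∧
          SubpairLE p M (Q.map (MulAut.conj g).toMonoidHom) (conjBlock Q g f) P e}
  le_of_mem := by
    rintro Q φ ⟨hQ, g, hg, hgP, -⟩
    exact ⟨hQ, fun u => (hg u).symm ▸ hgP ⟨u, u.2, rfl⟩⟩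
  injective_of_mem := by
    rintro Q φ ⟨-, g, hg, -⟩ a b hab
    rw [hg, hg] at hab
    exact Subtype.ext (mul_left_cancel (mul_right_cancel hab))
  conj_mem := by
    intro Q g hQ hg
    obtain ⟨f, -, hf⟩ := exists_subpair hM P he hQ
    refine ⟨hQ, g, fun u => rfl, ?_, f, hf, below_conj_mem hM he hf hg⟩
    exact subpairLE_le (below_conj_mem hM he hf hg)
  comp_mem := by
    rintro Q R φ ψ ⟨hQ, g, hg, hgP, f, hf, hfg⟩ ⟨-, h, hh, -, k, hk, hkh⟩ hQR
    have hgR : Q.map (MulAut.conj g).toMonoidHom ≤ R := by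
      rintro _ ⟨u, hu, rfl⟩
      simpa [hg ⟨u, hu⟩] using hQR ⟨u, hu⟩
    have h1 := below_comp hM he (subpairLE_isBrauerPair he hf) hgR hfg hk hkh
    refine ⟨hQ, h * g, fun u => ?_, subpairLE_le h1, f, hf, h1⟩
    simp [hh, hg, mul_assoc]
  inv_mem := by
    rintro Q φ ⟨hQ, g, hg, hgP, f, hf, hfg⟩
    have hr : φ.range = Q.map (MulAut.conj g).toMonoidHom := by
      ext y
      constructor
      · rintro ⟨u, rfl⟩
        exact ⟨u, u.2, (hg u).symm⟩
      · rintro ⟨u, hu, rfl⟩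
        exact ⟨⟨u, hu⟩, hg ⟨u, hu⟩⟩
    have hfp := subpairLE_isBrauerPair he hf
    have key : ∀ R : Subgroup G, R = Q.map (MulAut.conj g).toMonoidHom →
        ∃ ψ : R →* G, (∀ y : R, ψ y = g⁻¹ * (y : G) * g⁻¹⁻¹) ∧ R ≤ P ∧
          R.map (MulAut.conj g⁻¹).toMonoidHom ≤ P ∧
            ∃ k, SubpairLE p M R k P e ∧
              SubpairLE p M (R.map (MulAut.conj g⁻¹).toMonoidHom) (conjBlock R g⁻¹ k) P e := by
      rintro R rfl
      refine ⟨(MulAut.conj g⁻¹).toMonoidHom.comp (Subgroup.subtype _), fun y => rfl, hgP, ?_, _,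
        hfg, ?_⟩
      · rw [map_conj_mul, inv_mul_cancel]
        exact fun y hy => hQ (by simpa [mem_map_conj] using hy)
      · have h2 := (cjPair_conjBlock (M := M) g⁻¹ _ (conjBlock Q g f))
        have h3 := (cjPair_conjBlock (M := M) g Q f).trans h2
        rw [inv_mul_cancel] at h3
        exact subpairLE_cjPair hM hfp (isBrauerPair_conjBlock _ (isBrauerPair_conjBlock g hfp)) he
          h3 (cjPair_one P e) hf
    obtain ⟨ψ, hψ, hR, hRP, k, hk, hk'⟩ := key φ.range hr
    refine ⟨ψ, ⟨hR, g⁻¹, hψ, hRP, k, hk, hk'⟩, fun x => ?_⟩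
    rw [hψ]
    simp [hg, mul_assoc]

theorem isBlockFusionSystemOn_blockSystem (hM : IsPModular p M) {B : Set (IrrCharacter G)}
    (hmax : IsMaximalBrauerPair p M B P e) :
    IsBlockFusionSystemOn p M B P e (blockSystem hM hmax.1.1) :=
  ⟨hmax, fun _ _ => Iff.rfl⟩

section system

variable (hM : IsPModular p M) {B : Set (IrrCharacter G)} {F : FusionSystem P}
  (hF : IsBlockFusionSystemOn p M B P e F)
include hM hF

theorem isMap_block_iff {Q : Subgroup G} {f : Set (IrrCharacter (Cn Q))}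
    (hf : SubpairLE p M Q f P e) {φ : G → G} :
    Fus.IsMap F Q φ ↔ ∃ g : G, (∀ x ∈ Q, φ x = g * x * g⁻¹) ∧
      SubpairLE p M (Q.map (MulAut.conj g).toMonoidHom) (conjBlock Q g f) P e := by
  constructor
  · rintro ⟨ψ, hψ, hψf⟩
    obtain ⟨-, g, hg, -, f', hf', hfg⟩ := (hF.2 Q ψ).1 hψ
    obtain rfl := subpair_unique hM P hf hf'
    exact ⟨g, fun x hx => (hψf ⟨x, hx⟩).symm.trans (hg ⟨x, hx⟩), hfg⟩
  · rintro ⟨g, hg, hfg⟩
    exact ⟨conjHom Q g, (hF.2 Q _).2 ⟨subpairLE_le hf, g, fun u => rfl, subpairLE_le hfg, f, hf, hfg⟩,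
      fun x => (hg x x.2).symm⟩

theorem isConj_block_iff {Q : Subgroup G} {f : Set (IrrCharacter (Cn Q))}
    (hf : SubpairLE p M Q f P e) {R : Subgroup G} :
    F.IsConj Q R ↔ ∃ g : G, Q.map (MulAut.conj g).toMonoidHom = R ∧
      SubpairLE p M (Q.map (MulAut.conj g).toMonoidHom) (conjBlock Q g f) P e := by
  rw [Fus.isConj_iff]
  constructor
  · rintro ⟨φ, hφ, rfl⟩
    obtain ⟨g, hg, hfg⟩ := (isMap_block_iff hM hF hf).1 hφ
    refine ⟨g, ?_, hfg⟩
    rw [← Fus.img_conjF]
    exact Fus.img_congr fun x hx => (hg x hx).symm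
  · rintro ⟨g, rfl, hfg⟩
    exact ⟨Fus.conjF g, (isMap_block_iff hM hF hf).2 ⟨g, fun x _ => rfl, hfg⟩, Fus.img_conjF g Q⟩

end system

/-! ### Sizes of centralizers and normalizers in the larger group -/

section sizes

variable (hM : IsPModular p M) [Fact p.Prime]
include hM

theorem card_inf_Cn_le (he : IsBrauerPair p M P e) {Q : Subgroup G}
    {f : Set (IrrCharacter (Cn Q))} (hle : SubpairLE p M Q f P e) {D : Subgroup (Cn Q)}
    (hD : IsDefectGroup p M f D) : Nat.card ↥(P ⊓ Cn Q) ≤ Nat.card D := by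
  have hf := (subpairLE_isBrauerPair he hle).2
  obtain ⟨E, hE, hle'⟩ := local_le_defectGroup hM hf (bid_eq_resA_self Q f) (Cn_le_normalizer Q)
    he hle (R := P ⊓ Cn Q) inf_le_left inf_le_right (fun g => mem_Cn_sup_iff Q _ g)
  obtain ⟨x, hx⟩ := isDefectGroup_conj_eq hM hf hD hE
  rw [← hx, card_map_conj]
  have := Subgroup.card_le_of_le hle'
  rwa [Nat.card_congr (Subgroup.subgroupOfEquivOfLe inf_le_right).toEquiv] at this

theorem exists_conj_card_Cn {B : Set (IrrCharacter G)} (hmax : IsMaximalBrauerPair p M B P e)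
    {Q : Subgroup G} {f : Set (IrrCharacter (Cn Q))} (hf : IsBrauerPairOf p M B Q f)
    {D : Subgroup (Cn Q)} (hD : IsDefectGroup p M f D) :
    ∃ x : G, SubpairLE p M (Q.map (MulAut.conj x).toMonoidHom) (conjBlock Q x f) P e ∧
      Nat.card D ≤ Nat.card ↥(P ⊓ Cn (Q.map (MulAut.conj x).toMonoidHom)) := by
  obtain ⟨x, hx, hxD⟩ := local_exists_conj hM hf.1.2 (bid_eq_resA_self Q f) (Cn_le_normalizer Q)
    (fix_Cn_inA Q (isClassCoeff_bid hM hf.1.2)) hmax hf hD (fun g => mem_Cn_sup_iff Q _ g |>.trans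
      (and_congr_left fun _ => Iff.rfl))
  refine ⟨x, hx, ?_⟩
  have hsub : (D.map (Cn Q).subtype).map (MulAut.conj x).toMonoidHom ≤
      P ⊓ Cn (Q.map (MulAut.conj x).toMonoidHom) := by
    refine le_inf hxD ?_
    rintro _ ⟨_, ⟨d, _, rfl⟩, rfl⟩
    exact (mem_centralizer_map_conj Q x _).2 (by simp [mul_assoc])
  have := Subgroup.card_le_of_le hsub
  rwa [card_map_conj, Subgroup.card_subtype] at this

omit hM in
theorem isDefectGroup_conjBlock {Q : Subgroup G} {f : Set (IrrCharacter (Cn Q))}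
    {D : Subgroup (Cn Q)} (hD : IsDefectGroup p M f D) (x : G) :
    ∃ D' : Subgroup (Cn (Q.map (MulAut.conj x).toMonoidHom)),
      IsDefectGroup p M (conjBlock Q x f) D' ∧ Nat.card D' = Nat.card D := by
  refine ⟨D.map (cjIso x (mem_centralizer_map_conj Q x)).toMonoidHom, ?_,
    Subgroup.card_map_of_injective (cjIso x _).injective⟩
  rw [conjBlock_eq_mvSet]
  exact isDefectGroup_mvSet _ hD

theorem isDefectGroup_inf_Cn_iff (he : IsBrauerPair p M P e) {Q : Subgroup G}
    {f : Set (IrrCharacter (Cn Q))} (hle : SubpairLE p M Q f P e) {D : Subgroup (Cn Q)}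
    (hD : IsDefectGroup p M f D) :
    IsDefectGroup p M f ((P ⊓ Cn Q).subgroupOf (Cn Q)) ↔ Nat.card D ≤ Nat.card ↥(P ⊓ Cn Q) := by
  have hf := (subpairLE_isBrauerPair he hle).2
  constructor
  · intro h
    obtain ⟨x, hx⟩ := isDefectGroup_conj_eq hM hf hD h
    rw [← hx, card_map_conj, Nat.card_congr (Subgroup.subgroupOfEquivOfLe inf_le_right).toEquiv]
  · intro h
    exact local_isDefectGroup_of_card hM hf (bid_eq_resA_self Q f) (Cn_le_normalizer Q) he hle
      inf_le_left inf_le_right (fun g => mem_Cn_sup_iff Q _ g) hD h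

theorem fullyCentralized_iff {B : Set (IrrCharacter G)} {F : FusionSystem P}
    (hF : IsBlockFusionSystemOn p M B P e F) {Q : Subgroup G} {f : Set (IrrCharacter (Cn Q))}
    (hle : SubpairLE p M Q f P e) :
    F.IsFullyCentralized Q ↔ IsDefectGroup p M f ((P ⊓ Cn Q).subgroupOf (Cn Q)) := by
  have he := hF.1.1.1
  obtain ⟨D, hD⟩ := exists_isDefectGroup hM (subpairLE_isBrauerPair he hle).2
  rw [isDefectGroup_inf_Cn_iff hM he hle hD]
  constructor
  · intro h
    obtain ⟨x, hx, hc⟩ := exists_conj_card_Cn hM hF.1 ((pairOf_congr hM hle).1 hF.1.1) hD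
    exact hc.trans (h.2 _ ((isConj_block_iff hM hF hle).2 ⟨x, rfl, hx⟩))
  · intro h
    refine ⟨subpairLE_le hle, fun R hR => ?_⟩
    obtain ⟨g, rfl, hg⟩ := (isConj_block_iff hM hF hle).1 hR
    obtain ⟨D', hD', hc⟩ := isDefectGroup_conjBlock hD g
    exact (card_inf_Cn_le hM he hg hD').trans (hc.le.trans h)

theorem card_inf_normalizer_le (he : IsBrauerPair p M P e) {Q : Subgroup G}
    {f : Set (IrrCharacter (Cn Q))} (hle : SubpairLE p M Q f P e) {T : Subgroup G}
    (hT : ∀ y : G, y ∈ T ↔ y ∈ Subgroup.normalizer (Q : Set G) ∧ StabilizesBlock (Cn Q) f y)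
    {F : Set (IrrCharacter T)} (hF : IsPBlock M F)
    (hFc : ∀ t : T, blockCoeff F t = subgroupBlockCoeff (Cn Q) f (t : G)) {D : Subgroup T}
    (hD : IsDefectGroup p M F D) :
    P ⊓ Subgroup.normalizer (Q : Set G) ≤ T ∧
      Nat.card ↥(P ⊓ Subgroup.normalizer (Q : Set G)) ≤ Nat.card D ∧
      (IsDefectGroup p M F ((P ⊓ Subgroup.normalizer (Q : Set G)).subgroupOf T) ↔
        Nat.card D ≤ Nat.card ↥(P ⊓ Subgroup.normalizer (Q : Set G))) := by
  have hf := subpairLE_isBrauerPair he hle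
  have hPT : P ⊓ Subgroup.normalizer (Q : Set G) ≤ T := fun y hy =>
    (hT y).2 ⟨hy.2, (stabilizesBlock_iff hM hf.2 y).2
      ⟨normalizer_le_normalizer_Cn Q hy.2, fix_below hM he hle y hy⟩⟩
  obtain ⟨⟨-, hCT, -⟩, -⟩ := stabilizer_block hM hf T hT
  have hTN : T ≤ Subgroup.normalizer (Q : Set G) := fun y hy => ((hT y).1 hy).1
  have hC := hC_stabilizer (R := P ⊓ Subgroup.normalizer (Q : Set G)) hCT
    (le_inf (subpairLE_le hle) Subgroup.le_normalizer)
  have hcard := Nat.card_congr (Subgroup.subgroupOfEquivOfLe hPT).toEquiv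
  obtain ⟨E, hE, hle'⟩ := local_le_defectGroup hM hF (bid_eq_resA_of_sbc hFc) hTN he hle
    inf_le_left hPT hC
  obtain ⟨x, hx⟩ := isDefectGroup_conj_eq hM hF hD hE
  have h1 := Subgroup.card_le_of_le hle'
  rw [hcard] at h1
  refine ⟨hPT, by rwa [← hx, card_map_conj], ⟨fun h => ?_, fun h => ?_⟩⟩
  · obtain ⟨y, hy⟩ := isDefectGroup_conj_eq hM hF hD h
    rw [← hy, card_map_conj, hcard]
  · exact local_isDefectGroup_of_card hM hF (bid_eq_resA_of_sbc hFc) hTN he hle inf_le_left hPT hC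
      hD h

theorem exists_conj_card_normalizer {B : Set (IrrCharacter G)}
    (hmax : IsMaximalBrauerPair p M B P e) {Q : Subgroup G} {f : Set (IrrCharacter (Cn Q))}
    (hf : IsBrauerPairOf p M B Q f) {T : Subgroup G}
    (hT : ∀ y : G, y ∈ T ↔ y ∈ Subgroup.normalizer (Q : Set G) ∧ StabilizesBlock (Cn Q) f y)
    {F : Set (IrrCharacter T)} (hF : IsPBlock M F)
    (hFc : ∀ t : T, blockCoeff F t = subgroupBlockCoeff (Cn Q) f (t : G)) {D : Subgroup T}
    (hD : IsDefectGroup p M F D) :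
    ∃ x : G, SubpairLE p M (Q.map (MulAut.conj x).toMonoidHom) (conjBlock Q x f) P e ∧
      Nat.card D ≤ Nat.card
        ↥(P ⊓ Subgroup.normalizer ((Q.map (MulAut.conj x).toMonoidHom : Subgroup G) : Set G)) := by
  obtain ⟨⟨hQT, hCT, hfix⟩, -⟩ := stabilizer_block hM hf.1 T hT
  have hTN : T ≤ Subgroup.normalizer (Q : Set G) := fun y hy => ((hT y).1 hy).1
  obtain ⟨x, hx, hxD⟩ := local_exists_conj hM hF (bid_eq_resA_of_sbc hFc) hTN hfix hmax hf hD
    (hC_stabilizer hCT (le_defectGroup_stabilizer hM hF hf.1.1 hQT hTN hD))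
  refine ⟨x, hx, ?_⟩
  have hsub : (D.map T.subtype).map (MulAut.conj x).toMonoidHom ≤
      P ⊓ Subgroup.normalizer ((Q.map (MulAut.conj x).toMonoidHom : Subgroup G) : Set G) := by
    refine le_inf hxD ?_
    rintro _ ⟨_, ⟨d, _, rfl⟩, rfl⟩
    exact (mem_normalizer_map_conj Q x _).2 (by simpa [mul_assoc] using hTN d.2)
  have := Subgroup.card_le_of_le hsub
  rwa [card_map_conj, Subgroup.card_subtype] at this

/-- The stabilizer of a conjugate pair, with its block and a defect group. -/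
theorem exists_conj_stabilizer {Q : Subgroup G} {f : Set (IrrCharacter (Cn Q))}
    (hf : IsBrauerPair p M Q f) {T : Subgroup G}
    (hT : ∀ y : G, y ∈ T ↔ y ∈ Subgroup.normalizer (Q : Set G) ∧ StabilizesBlock (Cn Q) f y)
    {F : Set (IrrCharacter T)} (hF : IsPBlock M F)
    (hFc : ∀ t : T, blockCoeff F t = subgroupBlockCoeff (Cn Q) f (t : G)) {D : Subgroup T}
    (hD : IsDefectGroup p M F D) (x : G) :
    ∃ T' : Subgroup G, (∀ y : G, y ∈ T' ↔
        y ∈ Subgroup.normalizer ((Q.map (MulAut.conj x).toMonoidHom : Subgroup G) : Set G) ∧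
          StabilizesBlock (Cn (Q.map (MulAut.conj x).toMonoidHom)) (conjBlock Q x f) y) ∧
      ∃ F' : Set (IrrCharacter T'), IsPBlock M F' ∧
        (∀ t : T', blockCoeff F' t =
          subgroupBlockCoeff (Cn (Q.map (MulAut.conj x).toMonoidHom)) (conjBlock Q x f) (t : G)) ∧
        ∃ D' : Subgroup T', IsDefectGroup p M F' D' ∧ Nat.card D' = Nat.card D := by
  have hK : ∀ g, g ∈ T.map (MulAut.conj x).toMonoidHom ↔ x⁻¹ * g * x ∈ T := fun g => mem_map_conj
  refine ⟨T.map (MulAut.conj x).toMonoidHom, fun y => by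
    rw [hK, hT, ← mem_stabilizer_conjBlock hM x hf], mvSet (cjIso x hK) F, isPBlock_mvSet _ hF,
    fun t => ?_, D.map (cjIso x hK).toMonoidHom, isDefectGroup_mvSet _ hD,
    Subgroup.card_map_of_injective (cjIso x hK).injective⟩
  obtain ⟨s, rfl⟩ := (cjIso x hK).surjective t
  rw [blockCoeff_mvSet, hFc, conjBlock_eq_mvSet, subgroupBlockCoeff_mvSet, coe_cjIso]
  congr 1
  group

theorem fullyNormalized_iff {B : Set (IrrCharacter G)} {Fs : FusionSystem P}
    (hFs : IsBlockFusionSystemOn p M B P e Fs) {Q : Subgroup G}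
    {f : Set (IrrCharacter (Cn Q))} (hle : SubpairLE p M Q f P e) {T : Subgroup G}
    (hT : ∀ y : G, y ∈ T ↔ y ∈ Subgroup.normalizer (Q : Set G) ∧ StabilizesBlock (Cn Q) f y)
    {F : Set (IrrCharacter T)} (hF : IsPBlock M F)
    (hFc : ∀ t : T, blockCoeff F t = subgroupBlockCoeff (Cn Q) f (t : G)) :
    Fs.IsFullyNormalized Q ↔
      IsDefectGroup p M F ((P ⊓ Subgroup.normalizer (Q : Set G)).subgroupOf T) := by
  have he := hFs.1.1.1
  have hf := (pairOf_congr hM hle).1 hFs.1.1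
  obtain ⟨D, hD⟩ := exists_isDefectGroup hM hF
  rw [(card_inf_normalizer_le hM he hle hT hF hFc hD).2.2]
  constructor
  · intro h
    obtain ⟨x, hx, hc⟩ := exists_conj_card_normalizer hM hFs.1 hf hT hF hFc hD
    exact hc.trans (h.2 _ ((isConj_block_iff hM hFs hle).2 ⟨x, rfl, hx⟩))
  · intro h
    refine ⟨subpairLE_le hle, fun R hR => ?_⟩
    obtain ⟨g, rfl, hg⟩ := (isConj_block_iff hM hFs hle).1 hR
    obtain ⟨T', hT', F', hF', hF'c, D', hD', hc⟩ :=
      exists_conj_stabilizer hM hf.1 hT hF hFc hD g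
    exact (card_inf_normalizer_le hM he hg hT' hF' hF'c hD').2.1.trans (hc.le.trans h)

omit hM in
theorem card_inf_Cn_conj (Q : Subgroup G) (g : G) :
    Nat.card ↥(Q.map (MulAut.conj g).toMonoidHom ⊓ Cn (Q.map (MulAut.conj g).toMonoidHom)) =
      Nat.card ↥(Q ⊓ Cn Q) := by
  rw [← card_map_conj (Q ⊓ Cn Q) g, map_conj_inf]
  congr 2
  congr 1
  ext y
  rw [Subgroup.mem_inf, Subgroup.mem_inf, mem_map_conj (D := Cn Q)]
  exact and_congr_right fun _ => mem_centralizer_map_conj Q g y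

theorem centric_iff {B : Set (IrrCharacter G)} {F : FusionSystem P}
    (hF : IsBlockFusionSystemOn p M B P e F) {Q : Subgroup G} {f : Set (IrrCharacter (Cn Q))}
    (hle : SubpairLE p M Q f P e) :
    F.IsCentric Q ↔ IsDefectGroup p M f ((Q ⊓ Cn Q).subgroupOf (Cn Q)) := by
  have he := hF.1.1.1
  have hf := (pairOf_congr hM hle).1 hF.1.1
  have hQP := subpairLE_le hle
  obtain ⟨D, hD⟩ := exists_isDefectGroup hM hf.1.2
  constructor
  · intro h
    have heq : P ⊓ Cn Q = Q ⊓ Cn Q := le_antisymm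
      (le_inf (h.2 Q (Fus.isConj_refl hQP)) inf_le_right) (inf_le_inf_right _ hQP)
    obtain ⟨x, hx, hc⟩ := exists_conj_card_Cn hM hF.1 hf hD
    have h1 := Subgroup.card_le_of_le
      (show P ⊓ Cn (Q.map (MulAut.conj x).toMonoidHom) ≤
          Q.map (MulAut.conj x).toMonoidHom ⊓ Cn (Q.map (MulAut.conj x).toMonoidHom) from
        le_inf (h.2 _ ((isConj_block_iff hM hF hle).2 ⟨x, rfl, hx⟩)) inf_le_right)
    rw [card_inf_Cn_conj] at h1
    rw [← heq]
    exact (isDefectGroup_inf_Cn_iff hM he hle hD).2 (by rw [heq]; exact hc.trans h1)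
  · intro h
    refine ⟨hQP, fun R hR => ?_⟩
    obtain ⟨g, rfl, hg⟩ := (isConj_block_iff hM hF hle).1 hR
    obtain ⟨D', hD', hc⟩ := isDefectGroup_conjBlock h g
    have h1 := card_inf_Cn_le hM he hg hD'
    rw [hc, Nat.card_congr (Subgroup.subgroupOfEquivOfLe inf_le_right).toEquiv,
      ← card_inf_Cn_conj Q g] at h1
    have := Subgroup.eq_of_le_of_card_ge (inf_le_inf_right _ (subpairLE_le hg)) h1
    exact this.symm.le.trans inf_le_left

end sizes

end CfsgLib.Blk.Pair
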