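import Cfsg.Agent.Blk.Pair.Local

/-!
A defect group covers a Sylow subgroup modulo the centralizer of a normal `p`-subgroup when the
block of the centralizer is invariant.
-/

set_option autoImplicit false
set_option linter.style.haveILetI false
set_option linter.unusedSectionVars false

namespace CfsgLib.Blk.Pair

open Cfsg CfsgLib.Char CfsgLib.Blk MonoidAlgebra Finset

universe u v

variable {G : Type u} [Group G] [Finite G] {M : Ideal AlgInt} [M.IsPrime] {p : ℕ}

theorem classSum_congr {K : Type u} [Group K] [Finite K] {R : Type*} [CommRing R] {x y : K}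
    (h : IsConj x y) : classSum R x = classSum R y := by
  classical
  refine MonoidAlgebra.coeff_injective (Finsupp.ext fun z => ?_)
  rw [coeff_classSum, coeff_classSum]
  exact if_congr ⟨fun hz => h.symm.trans hz, fun hz => h.trans hz⟩ rfl rfl

/-- If the block of the centralizer of the normal `p`-subgroup `Q` is invariant, then the image
of a defect group in any quotient by the centralizer is a Sylow subgroup. -/
theorem card_map_defectGroup (hM : IsPModular p M) [Fact p.Prime] {Q : Subgroup G} [hQn : Q.Normal]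
    {B : Set (IrrCharacter G)} {f : Set (IrrCharacter (Cn Q))} (hf : IsBrauerPairOf p M B Q f)
    (hfix : ∀ x : G, cjA x (idA M Q f) = idA M Q f) {D : Subgroup G}
    (hD : IsDefectGroup p M B D) {A : Type v} [Group A] [Finite A] (π : G →* A)
    (hπ : Function.Surjective π) (hker : Cn Q ≤ π.ker) :
    Nat.card (D.map π) = p ^ (Nat.card A).factorization p := by
  classical
  obtain ⟨hfp, hB, -⟩ := (isBrauerPairOf_iff hM).1 hf
  obtain ⟨g, hg, hs⟩ := isDefectGroup_iff.1 hD
  obtain ⟨χ, hχ⟩ := isPBlock_nonempty hB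
  obtain ⟨η, hη⟩ := isPBlock_nonempty hfp.2
  haveI : Fintype (ConjClasses (Cn Q)) := Fintype.ofFinite _
  obtain ⟨S⟩ := (inferInstance : Nonempty (Sylow p G))
  haveI : CharP (Res M) p := charP_res hM
  have hK : ∀ s x : G, x ∈ Cn Q ↔ s⁻¹ * x * s ∈ Cn Q := fun s x => Cn_normal_conj hQn s x
  let act : ↥(S : Subgroup G) → ConjClasses (Cn Q) → ConjClasses (Cn Q) := fun (s : ↥(S : Subgroup G)) =>
    ConjClasses.map (cjIso (s : G) (hK (s : G))).toMonoidHom
  letI : MulAction (S : Subgroup G) (ConjClasses (Cn Q)) :=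
    { smul := act
      one_smul := fun C => by
        refine Quotient.inductionOn C fun x => ?_
        change ConjClasses.mk (cjIso ((1 : (S : Subgroup G)) : G) _ x) = ConjClasses.mk x
        congr 1
        exact Subtype.ext (by simp [coe_cjIso])
      mul_smul := fun s t C => by
        refine Quotient.inductionOn C fun x => ?_
        change ConjClasses.mk (cjIso ((s * t : (S : Subgroup G)) : G) _ x) =
          ConjClasses.mk (cjIso (s : G) _ (cjIso (t : G) _ x))
        congr 1
        exact Subtype.ext (by simp [coe_cjIso, mul_assoc]) }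
  have hout : ∀ x : Cn Q, IsConj (ConjClasses.mk x).out x := fun x =>
    ConjClasses.mk_eq_mk_iff_isConj.1 (Quotient.out_eq _)
  have hsum : val Q (η : Cn Q → ℂ) (classSum (Res M) g) ≠ 0 := by
    rw [val_eq_lam hM hf hη hχ (isClassCoeff_classSum _ g), lam_classSum χ.2]
    exact (red_centralChar_ne_zero_iff χ.2 g).2 (hg.2.2 χ hχ)
  let a := resA (Cn Q) (classSum (Res M) g)
  have ha : IsClassCoeff a := isClassCoeff_resA _ (isClassCoeff_classSum _ g)
  let w : ConjClasses (Cn Q) → Res M := fun C =>
    a.coeff C.out * lam (η : Cn Q → ℂ) (classSum (Res M) C.out)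
  have hw : ∀ x : Cn Q, w (ConjClasses.mk x) =
      a.coeff x * lam (η : Cn Q → ℂ) (classSum (Res M) x) := by
    intro x
    obtain ⟨c, hc⟩ := isConj_iff.1 (hout x)
    simp only [w]
    rw [classSum_congr (hout x)]
    congr 1
    rw [← hc, ha]
    congr 1
    rw [hc]
  have hval : val Q (η : Cn Q → ℂ) (classSum (Res M) g) = ∑ C : ConjClasses (Cn Q), w C := by
    rw [val, lam_eq_sum η.2 ha]
    exact Finset.sum_congr rfl fun C _ => by rw [← lam_classSum η.2]
  have hinv : ∀ (s : (S : Subgroup G)) (C : ConjClasses (Cn Q)), w (s • C) = w C := by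
    intro s C
    refine Quotient.inductionOn C fun x => ?_
    change w (ConjClasses.mk (cjIso (s : G) (hK (s : G)) x)) = w (ConjClasses.mk x)
    rw [hw, hw]
    congr 1
    · simp only [a, coeff_resA, coe_cjIso]
      exact isClassCoeff_classSum (Res M) g (x : G) (s : G)
    · have h0 : mvSet (cjIso (s : G) (hK (s : G))) f = f := by
        refine bid_inj hM (isPBlock_mvSet _ hfp.2) hfp.2 (inA_injective _ ?_)
        rw [inA_bid_mvSet]
        exact hfix s
      have hmv : mvChar (cjIso (s : G) (hK (s : G))) η ∈ f := by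
        exact h0 ▸ (mem_mvSet _).2 hη
      have h1 := (sameBlock_iff_red η.2 (mvChar _ η).2).1 (sameBlock_of_mem hfp.2 hη hmv)
        (cjIso (s : G) (hK (s : G)) x)
      rw [centralChar_mvChar] at h1
      rw [lam_classSum η.2, lam_classSum η.2, h1]
  rw [hval, sum_eq_sum_fixedPoints (p := p) S.isPGroup' w hinv] at hsum
  obtain ⟨C, hC, hne⟩ := Finset.exists_ne_zero_of_sum_ne_zero hsum
  obtain ⟨x, rfl⟩ : ∃ x, ConjClasses.mk x = C := ⟨C.out, Quotient.out_eq _⟩
  have hfixC := (Finset.mem_filter.1 hC).2
  rw [hw] at hne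
  have hgx : IsConj g (x : G) := by
    by_contra h
    refine hne (mul_eq_zero_of_left ?_ _)
    simp only [a, coeff_resA, coeff_classSum]
    exact if_neg h
  obtain ⟨t, ht⟩ := isConj_iff.1 hgx
  have hsx := hs.centralizer_conj t
  rw [ht] at hsx
  -- the Sylow subgroup is covered by the centralizer of `x`
  have hcov : (S : Subgroup G).map π ≤ (Subgroup.centralizer ({(x : G)} : Set G)).map π := by
    rintro _ ⟨s, hs', rfl⟩
    have h1 : ConjClasses.mk (cjIso s (hK s) x) = ConjClasses.mk x := hfixC ⟨s, hs'⟩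
    obtain ⟨c, hc⟩ := isConj_iff.1 (ConjClasses.mk_eq_mk_iff_isConj.1 h1)
    refine ⟨(c : G) * s, Subgroup.mem_centralizer_singleton_iff.2 ?_, ?_⟩
    · have h2 := congrArg Subtype.val hc
      simp only [Subgroup.coe_mul, Subgroup.coe_inv, coe_cjIso] at h2
      conv_rhs => rw [← h2]
      group
    · rw [map_mul, MonoidHom.mem_ker.1 (hker c.2), one_mul]
  set Cx := Subgroup.centralizer ({(x : G)} : Set G)
  obtain ⟨R, hR⟩ := exists_sylow_map_eq_iff.2 hsx
  let R' := R.mapSurjective (π.subgroupMap_surjective Cx)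
  have hR' : (R' : Subgroup (Cx.map π)).map (Cx.map π).subtype =
      (D.map (MulAut.conj t).toMonoidHom).map π := by
    rw [← hR, Sylow.coe_mapSurjective, Subgroup.map_map, Subgroup.map_map]
    rfl
  have hDt : (D.map (MulAut.conj t).toMonoidHom).map π =
      (D.map π).map (MulAut.conj (π t)).toMonoidHom := by
    rw [Subgroup.map_map, Subgroup.map_map]
    congr 1
    ext y
    simp
  have hcard : Nat.card (D.map π) = Nat.card R' := by
    rw [← card_map_conj (D.map π) (π t), ← hDt, ← hR', Subgroup.card_subtype]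
  have hS : Nat.card ((S : Subgroup G).map π) = p ^ (Nat.card A).factorization p :=
    (S.mapSurjective hπ).card_eq_multiplicity
  refine le_antisymm ?_ ?_
  · obtain ⟨k, hk⟩ := IsPGroup.iff_card.1 ((IsDefectGroup.isPGroup hD).map π)
    rw [hk]
    refine Nat.pow_le_pow_right (Fact.out : p.Prime).pos ?_
    exact ((Fact.out : p.Prime).pow_dvd_iff_le_factorization Nat.card_pos.ne').1
      (hk ▸ Subgroup.card_subgroup_dvd_card _)
  · rw [← hS, hcard]
    obtain ⟨E, hE, hSE⟩ := exists_isSylowIn_ge (S.isPGroup'.map π) hcov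
    rw [R'.card_eq_multiplicity, ← hE.card]
    exact Subgroup.card_le_of_le hSE

end CfsgLib.Blk.Pair
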