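import Cfsg.Agent.Blk.Pair.NormalP

/-!
Blocks and a normal subgroup of `p`-power index: every block idempotent is the orbit sum of one
block idempotent of the subgroup.
-/

set_option autoImplicit false
set_option linter.style.haveILetI false
set_option linter.unusedSectionVars false

namespace CfsgLib.Blk.Pair

open Cfsg CfsgLib.Char CfsgLib.Blk MonoidAlgebra Finset

universe u

variable {G : Type u} [Group G] [Finite G] {M : Ideal AlgInt} [M.IsPrime] {p : ℕ}

theorem isClassCoeff_of_cjA {a : KA M G} (h : ∀ y, cjA y a = a) : IsClassCoeff a := fun g y => by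
  conv_lhs => rw [← h y, coeff_cjA]
  simp [mul_assoc]

theorem mem_N_of_regular [Fact p.Prime] {N : Subgroup G} [N.Normal]
    (hN : ∃ k, N.index = p ^ k) {g : G} (hg : ¬ p ∣ orderOf g) : g ∈ N := by
  obtain ⟨k, hk⟩ := hN
  rw [← QuotientGroup.eq_one_iff, ← orderOf_eq_one_iff]
  refine Nat.eq_one_of_dvd_coprimes
    (Nat.Coprime.pow_left k ((Fact.out : p.Prime).coprime_iff_not_dvd.2 hg)) ?_ ?_
  · have := orderOf_dvd_natCard (g : G ⧸ N)
    rwa [← Subgroup.index_eq_card, hk] at this
  · exact orderOf_map_dvd (QuotientGroup.mk' N) g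

/-- The conjugates of the idempotent of a block of a normal subgroup. -/
noncomputable def nOrbit (N : Subgroup G) (c : Set (IrrCharacter N)) : Finset (KA M G) :=
  (Set.finite_range fun y : G => cjA y (inA N (bid M c))).toFinset

theorem mem_nOrbit {N : Subgroup G} {c : Set (IrrCharacter N)} {a : KA M G} :
    a ∈ nOrbit N c ↔ ∃ y : G, cjA y (inA N (bid M c)) = a := by
  simp [nOrbit]

/-- The orbit sum of the idempotent of a block of a normal subgroup. -/
noncomputable def nSum (M : Ideal AlgInt) [M.IsPrime] (N : Subgroup G)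
    (c : Set (IrrCharacter N)) : KA M G :=
  ∑ a ∈ nOrbit (M := M) N c, a

theorem cjA_nSum (N : Subgroup G) (c : Set (IrrCharacter N)) (y : G) :
    cjA y (nSum M N c) = nSum M N c := by
  rw [nSum, map_sum]
  refine Finset.sum_nbij' (fun a => cjA y a) (fun a => cjA y⁻¹ a) ?_ ?_ ?_ ?_ fun a _ => rfl
  · intro a ha
    obtain ⟨z, rfl⟩ := mem_nOrbit.1 ha
    exact mem_nOrbit.2 ⟨y * z, (cjA_mul_apply _ _ _).symm⟩
  · intro a ha
    obtain ⟨z, rfl⟩ := mem_nOrbit.1 ha
    exact mem_nOrbit.2 ⟨y⁻¹ * z, (cjA_mul_apply _ _ _).symm⟩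
  · intro a _
    rw [cjA_mul_apply, inv_mul_cancel, cjA_one]
  · intro a _
    rw [cjA_mul_apply, mul_inv_cancel, cjA_one]

section normal

variable (hM : IsPModular p M) {N : Subgroup G} [hNn : N.Normal] {c : Set (IrrCharacter N)}
  (hc : IsPBlock M c)
include hM hc

theorem nOrbit_block {a : KA M G} (ha : a ∈ nOrbit N c) :
    ∃ d, IsPBlock M d ∧ a = inA N (bid M d) := by
  obtain ⟨y, rfl⟩ := mem_nOrbit.1 ha
  have hK : ∀ g, g ∈ N ↔ y⁻¹ * g * y ∈ N :=
    mem_normalizer_subgroup_iff.1 (by rw [Subgroup.normalizer_eq_top]; exact Subgroup.mem_top y)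
  exact ⟨_, isPBlock_mvSet (cjIso y hK) hc, (inA_bid_mvSet y hK c).symm⟩

theorem nSum_idem : nSum M N c * nSum M N c = nSum M N c := by
  classical
  rw [nSum, Finset.sum_mul]
  refine Finset.sum_congr rfl fun a ha => ?_
  rw [Finset.mul_sum, Finset.sum_eq_single a]
  · obtain ⟨d, hd, rfl⟩ := nOrbit_block hM hc ha
    rw [← map_mul, bid_mul_self hM hd]
  · intro b hb hne
    obtain ⟨d, hd, rfl⟩ := nOrbit_block hM hc ha
    obtain ⟨d', hd', rfl⟩ := nOrbit_block hM hc hb
    rw [← map_mul, bid_mul_ne hM hd hd' fun h => hne (by rw [h]), map_zero]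
  · exact fun h => absurd ha h

theorem bid_mul_nSum : inA N (bid M c) * nSum M N c = inA N (bid M c) := by
  classical
  rw [nSum, Finset.mul_sum, Finset.sum_eq_single (inA N (bid M c))]
  · rw [← map_mul, bid_mul_self hM hc]
  · intro b hb hne
    obtain ⟨d', hd', rfl⟩ := nOrbit_block hM hc hb
    rw [← map_mul, bid_mul_ne hM hc hd' fun h => hne (by rw [h]), map_zero]
  · exact fun h => absurd (mem_nOrbit.2 ⟨1, cjA_one _⟩) h

theorem nSum_ne_zero : nSum M N c ≠ 0 := fun h => by
  have h1 := bid_mul_nSum hM hc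
  rw [h, mul_zero] at h1
  exact bid_ne_zero hM hc (inA_injective N (h1.symm.trans (map_zero _).symm))

theorem isClassCoeff_nSum : IsClassCoeff (nSum M N c) :=
  isClassCoeff_of_cjA (cjA_nSum N c)

theorem nSum_of_stable (h : ∀ y, cjA y (inA N (bid M c)) = inA N (bid M c)) :
    nSum M N c = inA N (bid M c) := by
  classical
  rw [nSum, Finset.sum_eq_single (inA N (bid M c))]
  · intro b hb hne
    obtain ⟨y, rfl⟩ := mem_nOrbit.1 hb
    exact absurd (h y) hne
  · exact fun h => absurd (mem_nOrbit.2 ⟨1, cjA_one _⟩) h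

/-- Multiplying by a central element supported on the normal subgroup. -/
theorem inA_bid_mul {z : KA M G} (hzN : ∀ g, g ∉ N → z.coeff g = 0) :
    inA N (bid M c) * z = inA N (bid M c * resA N z) := by
  conv_lhs => rw [← show inA N (resA N z) = z from mapDomain_resA N hzN]
  rw [← map_mul]

/-- A central element supported on `N` has the same value at a block and at a block below it. -/
theorem lam_eq_lam_below {B : Set (IrrCharacter G)} (hB : IsPBlock M B)
    (hBc : inA N (bid M c) * bid M B = inA N (bid M c))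
    (hE : bid M B * nSum M N c = bid M B) {z : KA M G} (hz : IsClassCoeff z)
    (hzN : ∀ g, g ∉ N → z.coeff g = 0) {χ : IrrCharacter G} (hχ : χ ∈ B) {θ : IrrCharacter N}
    (hθ : θ ∈ c) : lam (χ : G → ℂ) z = lam (θ : N → ℂ) (resA N z) := by
  classical
  have hzN' := isClassCoeff_resA N hz
  have hb := isClassCoeff_bid hM hc
  set r := lam (θ : N → ℂ) (resA N z) with hr
  have hnil : IsNilpotent (inA N (bid M c) * (z - r • (1 : KA M G))) := by
    have h1 : IsNilpotent (bid M c * (resA N z - r • (1 : KA M N))) := by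
      refine isNilpotent_of_lam hM (hb.mul (hzN'.sub (isClassCoeff_one.smul r))) fun η => ?_
      rw [lam_mul η.2 hb (hzN'.sub (isClassCoeff_one.smul r)),
        lam_sub η.2 hzN' (isClassCoeff_one.smul r), lam_smul η.2 r isClassCoeff_one, lam_one η.2,
        mul_one, lam_bid hM hc]
      split_ifs with h
      · rw [hr, lam_congr η.2 θ.2 (sameBlock_of_mem hc h hθ) hzN', sub_self, mul_zero]
      · rw [zero_mul]
    have h2 := h1.map (inA (M := M) N)
    have e : inA N (bid M c * (resA N z - r • (1 : KA M N))) =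
        inA N (bid M c) * (z - r • (1 : KA M G)) := by
      rw [mul_sub, map_sub, ← inA_bid_mul hM hc hzN, mul_sub, mul_smul_comm, mul_one, inA_smul,
        mul_smul_comm, mul_one]
    rwa [e] at h2
  have hz' : IsClassCoeff (z - r • (1 : KA M G)) := hz.sub (isClassCoeff_one.smul r)
  have hall : ∀ a ∈ nOrbit (M := M) N c, IsNilpotent (a * (z - r • (1 : KA M G))) := by
    intro a ha
    obtain ⟨y, rfl⟩ := mem_nOrbit.1 ha
    have h2 := hnil.map (cjA (M := M) y)
    rwa [map_mul, cjA_eq_of_isClassCoeff hz'] at h2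
  have hbB := isClassCoeff_bid hM hB
  have hnil2 : IsNilpotent (nSum M N c * (z - r • (1 : KA M G))) := by
    rw [nSum, Finset.sum_mul]
    have : ∀ s : Finset (KA M G), s ⊆ nOrbit N c →
        IsNilpotent (∑ a ∈ s, a * (z - r • (1 : KA M G))) := by
      intro s
      induction s using Finset.induction_on with
      | empty => simp
      | insert a s ha ih =>
        intro hs
        rw [Finset.sum_insert ha]
        refine Commute.isNilpotent_add ?_ (hall a (hs (Finset.mem_insert_self a s)))
          (ih fun b hb => hs (Finset.mem_insert_of_mem hb))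
        refine Commute.sum_right _ _ _ fun b hb => ?_
        obtain ⟨d, hd, rfl⟩ := nOrbit_block hM hc (hs (Finset.mem_insert_self a s))
        obtain ⟨d', hd', rfl⟩ := nOrbit_block hM hc (hs (Finset.mem_insert_of_mem hb))
        have hdd : Commute (inA (M := M) N (bid M d)) (inA N (bid M d')) :=
          ((isClassCoeff_bid hM hd).commute _).map (inA (M := M) N)
        have hcomm : ∀ w : KA M G, Commute (z - r • (1 : KA M G)) w := fun w => hz'.commute w
        exact ((hdd.mul_right (hcomm _).symm).mul_left ((hcomm _).mul_right (hcomm _)))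
    exact this _ subset_rfl
  have hE' := isClassCoeff_nSum hM hc
  have h0 := lam_eq_zero_of_isNilpotent χ.2 (hE'.mul hz') hnil2
  have h1 : lam (χ : G → ℂ) (nSum M N c) = 1 := by
    have := congrArg (lam (χ : G → ℂ)) hE
    rwa [lam_mul χ.2 hbB hE', lam_bid hM hB, if_pos hχ, one_mul] at this
  rw [lam_mul χ.2 hE' hz', h1, one_mul, lam_sub χ.2 hz (isClassCoeff_one.smul r),
    lam_smul χ.2 r isClassCoeff_one, lam_one χ.2, mul_one, sub_eq_zero] at h0
  exact h0

variable [Fact p.Prime] (hidx : ∃ k, N.index = p ^ k)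
include hidx

omit hc in
theorem blockCoeff_outside {B : Set (IrrCharacter G)} (hB : IsPBlock M B) {g : G} (hg : g ∉ N) :
    blockCoeff B g = 0 :=
  blockCoeff_eq_zero_of_singular hM hB (by_contra fun h => hg (mem_N_of_regular hidx h))

omit hc in
theorem coeff_bid_outside {B : Set (IrrCharacter G)} (hB : IsPBlock M B) {g : G} (hg : g ∉ N) :
    (bid M B).coeff g = 0 := by
  rw [coeff_bid, blockCoeff_outside hM hidx hB hg, red_zero]

omit hc in
theorem resA_bid_idem {B : Set (IrrCharacter G)} (hB : IsPBlock M B) :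
    resA N (bid M B) * resA N (bid M B) = resA N (bid M B) := by
  rw [← resA_mul N (fun g => coeff_bid_outside hM hidx hB) (fun g => coeff_bid_outside hM hidx hB),
    bid_mul_self hM hB]

/-- If `B` meets `c`, the idempotent of `B` is the orbit sum of that of `c`. -/
theorem bid_eq_nSum {B : Set (IrrCharacter G)} (hB : IsPBlock M B)
    (h : inA N (bid M c) * bid M B ≠ 0) :
    bid M B = nSum M N c ∧ inA N (bid M c) * bid M B = inA N (bid M c) := by
  classical
  have hb := isClassCoeff_bid hM hB
  have hout := fun g => coeff_bid_outside hM hidx hB (g := g)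
  obtain ⟨θ, hθ⟩ := isPBlock_nonempty hc
  have h1 : inA N (bid M c) * bid M B = inA N (bid M c) := by
    have h2 := bid_mul_idem hM hc (isClassCoeff_resA N hb) (resA_bid_idem hM hidx hB) hθ
    rw [inA_bid_mul hM hc hout] at h ⊢
    rw [h2] at h ⊢
    rcases lam_idem θ.2 (isClassCoeff_resA N hb) (resA_bid_idem hM hidx hB) with h3 | h3
    · rw [h3, zero_smul, map_zero] at h
      exact absurd rfl h
    · rw [h3, one_smul]
  refine ⟨?_, h1⟩
  obtain ⟨χ, hχ⟩ := isPBlock_nonempty hB
  have h4 : nSum M N c * bid M B = nSum M N c := by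
    rw [nSum, Finset.sum_mul]
    refine Finset.sum_congr rfl fun a ha => ?_
    obtain ⟨y, rfl⟩ := mem_nOrbit.1 ha
    conv_rhs => rw [← h1, map_mul, cjA_eq_of_isClassCoeff hb]
  have h5 := bid_mul_idem hM hB (isClassCoeff_nSum hM hc) (nSum_idem hM hc) hχ
  rw [(hb.commute _).eq, h4] at h5
  rcases lam_idem χ.2 (isClassCoeff_nSum hM hc) (nSum_idem hM hc) with h6 | h6
  · rw [h6, zero_smul] at h5
    exact absurd h5 (nSum_ne_zero hM hc)
  · rw [h6, one_smul] at h5
    exact h5.symm

/-- There is a block above a block of the normal subgroup. -/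
theorem exists_above : ∃ B : Set (IrrCharacter G), IsPBlock M B ∧ bid M B = nSum M N c ∧
    inA N (bid M c) * bid M B = inA N (bid M c) := by
  classical
  haveI : Fintype {B : Set (IrrCharacter G) // IsPBlock M B} := Fintype.ofFinite _
  have h := congrArg (fun z => inA N (bid M c) * z) (sum_bid (G := G) hM)
  simp only [mul_one, Finset.mul_sum] at h
  obtain ⟨B, -, hB⟩ := Finset.exists_ne_zero_of_sum_ne_zero (s := Finset.univ)
    (f := fun B : {B : Set (IrrCharacter G) // IsPBlock M B} => inA N (bid M c) * bid M B.1)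
    (fun h0 => bid_ne_zero hM hc (inA_injective N ((h.symm.trans h0).trans (map_zero _).symm)))
  exact ⟨B.1, B.2, bid_eq_nSum hM hc hidx B.2 hB⟩

omit hc in
/-- There is a block of the normal subgroup below a block. -/
theorem exists_below {B : Set (IrrCharacter G)} (hB : IsPBlock M B) :
    ∃ d : Set (IrrCharacter N), IsPBlock M d ∧ bid M B = nSum M N d ∧
      inA N (bid M d) * bid M B = inA N (bid M d) := by
  classical
  obtain ⟨d, hd, hl⟩ := exists_block_of_ne_zero hM (isClassCoeff_resA N (isClassCoeff_bid hM hB))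
    (resA_bid_idem hM hidx hB) fun h0 => bid_ne_zero hM hB (by
      rw [← mapDomain_resA N fun g => coeff_bid_outside hM hidx hB (g := g), h0, map_zero])
  refine ⟨d, hd, bid_eq_nSum hM hd hidx hB fun h0 => ?_⟩
  obtain ⟨θ, hθ⟩ := isPBlock_nonempty hd
  rw [inA_bid_mul hM hd fun g => coeff_bid_outside hM hidx hB (g := g),
    bid_mul_idem hM hd (isClassCoeff_resA N (isClassCoeff_bid hM hB))
      (resA_bid_idem hM hidx hB) hθ, hl θ hθ, one_smul] at h0
  exact bid_ne_zero hM hd (inA_injective N (h0.trans (map_zero _).symm))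

/-- The exact idempotent of the block above a stable block. -/
theorem blockCoeff_eq_of_bid {B : Set (IrrCharacter G)} (hB : IsPBlock M B)
    (h : bid M B = inA N (bid M c)) (g : G) : blockCoeff B g = subgroupBlockCoeff N c g := by
  classical
  let ι : MonoidAlgebra (locRing M) N →+* MonoidAlgebra (locRing M) G :=
    MonoidAlgebra.mapDomainRingHom (locRing M) N.subtype
  have hι : ∀ x : G, (((ι (blockIdem hM hc)).coeff x : locRing M) : ℂ) =
      subgroupBlockCoeff N c x := by
    intro x
    change (((MonoidAlgebra.mapDomain ((↑) : N → G) (blockIdem hM hc)).coeff x : locRing M) : ℂ) = _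
    rw [MonoidAlgebra.coeff_mapDomain]
    by_cases hx : x ∈ N
    · rw [show x = (((⟨x, hx⟩ : N) : G)) from rfl,
        Finsupp.mapDomain_apply Subtype.val_injective, coeff_blockIdem,
        subgroupBlockCoeff_of_mem c ⟨x, hx⟩]
    · rw [Finsupp.mapDomain_of_notMem_range _ _ (by rintro ⟨y, rfl⟩; exact hx y.2),
        subgroupBlockCoeff_of_notMem c hx, ZeroMemClass.coe_zero]
  have hred : redA (ι (blockIdem hM hc)) = inA N (bid M c) := by
    refine MonoidAlgebra.coeff_injective (Finsupp.ext fun x => ?_)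
    rw [coeff_redA, ← red_coe, hι, red_subgroupBlockCoeff]
  have hcl : IsClassCoeff (inA N (bid M c)) := h ▸ isClassCoeff_bid hM hB
  have hstab : ∀ y, StabilizesBlock N c y := fun y => (stabilizesBlock_iff hM hc y).2
    ⟨by rw [Subgroup.normalizer_eq_top]; exact Subgroup.mem_top y,
      cjA_eq_of_isClassCoeff hcl y⟩
  have hEcl : IsClassCoeff (ι (blockIdem hM hc)) := fun x y => Subtype.ext (by
    rw [hι, hι]
    have hK := mem_normalizer_subgroup_iff.1 (hstab y⁻¹).1
    have h0 : mvSet (cjIso y⁻¹ hK) c = c := by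
      refine bid_inj hM (isPBlock_mvSet _ hc) hc (inA_injective _ ?_)
      rw [inA_bid_mvSet]
      exact cjA_eq_of_isClassCoeff hcl _
    conv_rhs => rw [← h0]
    rw [subgroupBlockCoeff_mvSet y⁻¹ hK]
    simp [mul_assoc])
  have key : blockIdem hM hB = ι (blockIdem hM hc) :=
    eq_of_redA_idem (isClassCoeff_blockIdem hM hB) hEcl (blockIdem_mul_self hM hB)
      (by rw [← map_mul, blockIdem_mul_self]) (by rw [hred, ← bid_eq hM hB, h])
  rw [← coeff_blockIdem hM hB, key, hι]

omit hidx in
theorem bid_eq_of_blockCoeff {B : Set (IrrCharacter G)}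
    (h : ∀ g, blockCoeff B g = subgroupBlockCoeff N c g) : bid M B = inA N (bid M c) :=
  MonoidAlgebra.coeff_injective (Finsupp.ext fun g => by
    rw [coeff_bid, h, red_subgroupBlockCoeff])

/-- Existence and defect groups of the block above a stable block. -/
theorem stable_block_defect {B : Set (IrrCharacter G)} (hB : IsPBlock M B)
    (h : bid M B = inA N (bid M c)) {P : Subgroup G} (hP : IsDefectGroup p M B P) :
    N ⊔ P = ⊤ ∧ IsDefectGroup p M c ((P ⊓ N).subgroupOf N) := by
  classical
  haveI : CharP (Res M) p := charP_res hM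
  obtain ⟨g, hg, hs⟩ := isDefectGroup_iff.1 hP
  obtain ⟨χ, hχ⟩ := isPBlock_nonempty hB
  obtain ⟨θ, hθ⟩ := isPBlock_nonempty hc
  have hgN : g ∈ N := mem_N_of_regular hidx (isDefectClass_regular hM hB hg)
  have hcl : IsClassCoeff (inA N (bid M c)) := h ▸ isClassCoeff_bid hM hB
  have hsum : nSum M N c = inA N (bid M c) :=
    nSum_of_stable hM hc fun y => cjA_eq_of_isClassCoeff hcl y
  have hlam : ∀ {z : KA M G}, IsClassCoeff z → (∀ x, x ∉ N → z.coeff x = 0) →
      ∀ {η : IrrCharacter N}, η ∈ c → lam (χ : G → ℂ) z = lam (η : N → ℂ) (resA N z) :=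
    fun hz hzN _ hη => lam_eq_lam_below hM hc hB
      (by rw [h, ← map_mul, bid_mul_self hM hc]) (by rw [hsum, h, ← map_mul, bid_mul_self hM hc])
      hz hzN hχ hη
  obtain ⟨S⟩ := (inferInstance : Nonempty (Sylow p G))
  haveI : Fintype (ConjClasses N) := Fintype.ofFinite _
  let σ : ↥(S : Subgroup G) →* MulAut N := MulAut.conjNormal.comp (S : Subgroup G).subtype
  letI : MulAction (S : Subgroup G) (ConjClasses N) :=
    { smul := fun s C => ConjClasses.map (σ s).toMonoidHom C
      one_smul := fun C => by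
        refine Quotient.inductionOn C fun x => ?_
        change ConjClasses.mk (σ 1 x) = ConjClasses.mk x
        rw [map_one]; rfl
      mul_smul := fun s t C => by
        refine Quotient.inductionOn C fun x => ?_
        change ConjClasses.mk (σ (s * t) x) = ConjClasses.mk (σ s (σ t x))
        rw [map_mul]; rfl }
  have hσ : ∀ (s : ↥(S : Subgroup G)) (x : N), ((σ s x : N) : G) = s * x * (s : G)⁻¹ :=
    fun s x => rfl
  let a := resA N (classSum (Res M) g)
  have ha : IsClassCoeff a := isClassCoeff_resA _ (isClassCoeff_classSum _ g)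
  let w : ConjClasses N → Res M := fun C => a.coeff C.out * red M (centralChar (θ : N → ℂ) C.out)
  have hne : ∑ C, w C ≠ 0 := by
    rw [← lam_eq_sum θ.2 ha, ← hlam (isClassCoeff_classSum _ g) (fun x hx => ?_) hθ,
      lam_classSum χ.2]
    · exact (red_centralChar_ne_zero_iff χ.2 g).2 (hg.2.2 χ hχ)
    · rw [coeff_classSum, if_neg]
      intro hgx
      obtain ⟨y, hy⟩ := isConj_iff.1 hgx
      exact hx (hy ▸ hNn.conj_mem g hgN y)
  have hout : ∀ x : N, IsConj (ConjClasses.mk x).out x := fun x =>
    ConjClasses.mk_eq_mk_iff_isConj.1 (Quotient.out_eq _)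
  have hw : ∀ x : N, w (ConjClasses.mk x) =
      a.coeff x * lam (θ : N → ℂ) (classSum (Res M) x) := by
    intro x
    obtain ⟨y, hy⟩ := isConj_iff.1 (hout x)
    have hcs : classSum (Res M) (ConjClasses.mk x).out = classSum (Res M) x := by
      refine MonoidAlgebra.coeff_injective (Finsupp.ext fun z => ?_)
      rw [coeff_classSum, coeff_classSum]
      exact if_congr ⟨fun hz => (hout x).symm.trans hz, fun hz => (hout x).trans hz⟩ rfl rfl
    simp only [w]
    rw [← lam_classSum θ.2, hcs]
    congr 1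
    rw [← ha _ y, hy]
  have hinv : ∀ (s : ↥(S : Subgroup G)) (C : ConjClasses N), w (s • C) = w C := by
    intro s C
    refine Quotient.inductionOn C fun x => ?_
    change w (ConjClasses.mk (σ s x)) = w (ConjClasses.mk x)
    rw [hw, hw]
    congr 1
    · simp only [a, coeff_resA, hσ]
      exact isClassCoeff_classSum (Res M) g (x : G) (s : G)
    · have hK := mem_normalizer_subgroup_iff.1
        (show (s : G) ∈ Subgroup.normalizer (N : Set G) by
          rw [Subgroup.normalizer_eq_top]; exact Subgroup.mem_top _)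
      have h0 : mvSet (cjIso (s : G) hK) c = c := by
        refine bid_inj hM (isPBlock_mvSet _ hc) hc (inA_injective _ ?_)
        rw [inA_bid_mvSet]
        exact cjA_eq_of_isClassCoeff hcl _
      have hmv : mvChar (cjIso (s : G) hK) θ ∈ c := h0 ▸ (mem_mvSet _).2 hθ
      have h1 := (sameBlock_iff_red θ.2 (mvChar _ θ).2).1 (sameBlock_of_mem hc hθ hmv)
        (cjIso (s : G) hK x)
      rw [centralChar_mvChar] at h1
      rw [lam_classSum θ.2, lam_classSum θ.2]
      exact (congrArg (fun y => red M (centralChar (θ : N → ℂ) y))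
        (show σ s x = cjIso (s : G) hK x from Subtype.ext rfl)).trans h1
  rw [sum_eq_sum_fixedPoints (p := p) S.isPGroup' w hinv] at hne
  obtain ⟨C, hC, hwC⟩ := Finset.exists_ne_zero_of_sum_ne_zero hne
  obtain ⟨x, rfl⟩ : ∃ x, ConjClasses.mk x = C := ⟨C.out, Quotient.out_eq _⟩
  have hfix := (Finset.mem_filter.1 hC).2
  rw [hw] at hwC
  have hgx : IsConj g (x : G) := by
    by_contra hh
    refine hwC (mul_eq_zero_of_left ?_ _)
    simp only [a, coeff_resA, coeff_classSum]
    exact if_neg hh
  obtain ⟨t, ht⟩ := isConj_iff.1 hgx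
  -- `G = N C(g)`
  have hS : (S : Subgroup G) ≤ N ⊔ Subgroup.centralizer ({(x : G)} : Set G) := by
    intro s hs'
    have h1 : ConjClasses.mk (σ ⟨s, hs'⟩ x) = ConjClasses.mk x := hfix ⟨s, hs'⟩
    obtain ⟨n, hn⟩ := isConj_iff.1 (ConjClasses.mk_eq_mk_iff_isConj.1 h1)
    have h2 := congrArg Subtype.val hn
    simp only [Subgroup.coe_mul, Subgroup.coe_inv, hσ] at h2
    have h3 : (n : G) * s ∈ Subgroup.centralizer ({(x : G)} : Set G) := by
      rw [Subgroup.mem_centralizer_singleton_iff]
      conv_rhs => rw [← h2]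
      group
    have := Subgroup.mul_mem_sup (inv_mem n.2) h3
    rwa [inv_mul_cancel_left] at this
  have hNS : ∀ {T : Subgroup G}, (S : Subgroup G) ≤ N ⊔ T → N ⊔ T = ⊤ := by
    intro T hT
    obtain ⟨k, hk⟩ := hidx
    refine Subgroup.index_eq_one.1 (Nat.eq_one_of_dvd_coprimes
      (Nat.Coprime.pow_right k ((Fact.out : p.Prime).coprime_iff_not_dvd.2 fun hd =>
        S.not_dvd_index (hd.trans (Subgroup.index_dvd_of_le hT))).symm) dvd_rfl
      (hk ▸ Subgroup.index_dvd_of_le le_sup_left))
  have hCg : N ⊔ Subgroup.centralizer ({g} : Set G) = ⊤ := by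
    have h1 := congrArg (Subgroup.map (MulAut.conj t⁻¹).toMonoidHom) (hNS hS)
    rw [Subgroup.map_sup, Subgroup.map_top_of_surjective _ (MulAut.conj t⁻¹).surjective,
      show N.map (MulAut.conj t⁻¹).toMonoidHom = N from Subgroup.Normal.map_conj_eq N t⁻¹] at h1
    rw [← h1]
    congr 1
    ext y
    rw [mem_map_conj, Subgroup.mem_centralizer_singleton_iff, Subgroup.mem_centralizer_singleton_iff,
      ← ht]
    constructor <;> intro hy
    · have := congrArg (fun u => t * u * t⁻¹) hy
      simpa [mul_assoc] using this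
    · have := congrArg (fun u => t⁻¹ * u * t) hy
      simpa [mul_assoc] using this
  obtain ⟨R, hR⟩ := exists_sylow_map_eq_iff.2 hs
  let π := (QuotientGroup.mk' N).comp (Subgroup.centralizer ({g} : Set G)).subtype
  have hπ : Function.Surjective π := by
    intro q
    obtain ⟨y, rfl⟩ := QuotientGroup.mk_surjective q
    have hy : y ∈ N ⊔ Subgroup.centralizer ({g} : Set G) := hCg ▸ Subgroup.mem_top y
    rw [Subgroup.mem_sup_of_normal_left] at hy
    obtain ⟨n, hn, z, hz, rfl⟩ := hy
    exact ⟨⟨z, hz⟩, by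
      change QuotientGroup.mk' N z = QuotientGroup.mk' N (n * z)
      rw [map_mul, show QuotientGroup.mk' N n = 1 from (QuotientGroup.eq_one_iff n).2 hn, one_mul]⟩
  have htop : ((R.mapSurjective hπ : Sylow p (G ⧸ N)) : Subgroup (G ⧸ N)) = ⊤ := by
    obtain ⟨k, hk⟩ := hidx
    refine ((R.mapSurjective hπ).is_maximal' (Q := ⊤) ?_ le_top).symm
    exact (IsPGroup.of_card (by rw [← Subgroup.index_eq_card, hk])).of_equiv
      Subgroup.topEquiv.symm
  refine ⟨?_, ?_⟩
  · refine eq_top_iff.2 fun y _ => ?_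
    have hy : (y : G ⧸ N) ∈ ((R.mapSurjective hπ : Sylow p (G ⧸ N)) : Subgroup (G ⧸ N)) := by
      rw [htop]; exact Subgroup.mem_top _
    rw [Sylow.coe_mapSurjective] at hy
    obtain ⟨r, hr, hry⟩ := hy
    have h1 : y * (r : G)⁻¹ ∈ N := by
      rw [← QuotientGroup.eq_one_iff]
      change QuotientGroup.mk' N (y * (r : G)⁻¹) = 1
      rw [map_mul, map_inv, show QuotientGroup.mk' N (r : G) = QuotientGroup.mk' N y from hry,
        mul_inv_cancel]
    have h2 : (r : G) ∈ P := hR ▸ ⟨r, hr, rfl⟩
    have := Subgroup.mul_mem_sup h1 h2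
    rwa [inv_mul_cancel_right] at this
  · have hcoef : blockCoeff B g = blockCoeff c ⟨g, hgN⟩ :=
      (blockCoeff_eq_of_bid hM hc hidx hB h g).trans (subgroupBlockCoeff_of_mem c ⟨g, hgN⟩)
    have hKN : (Subgroup.centralizer ({(⟨g, hgN⟩ : N)} : Set N)).map N.subtype =
        Subgroup.centralizer ({g} : Set G) ⊓ N := by
      ext y
      constructor
      · rintro ⟨y', hy', rfl⟩
        exact ⟨Subgroup.mem_centralizer_singleton_iff.2
          (congrArg Subtype.val (Subgroup.mem_centralizer_singleton_iff.1 hy')), y'.2⟩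
      · rintro ⟨hy1, hy2⟩
        exact ⟨⟨y, hy2⟩, Subgroup.mem_centralizer_singleton_iff.2
          (Subtype.ext (Subgroup.mem_centralizer_singleton_iff.1 hy1)), rfl⟩
    have hdef : IsDefectClass M c ⟨g, hgN⟩ := by
      refine ⟨hcoef ▸ hg.1, hcoef ▸ hg.2.1, fun η hη => ?_⟩
      rw [← red_centralChar_ne_zero_iff η.2]
      have h1 := hlam (isClassCoeff_classSum (Res M) g) (fun x hx => by
        rw [coeff_classSum, if_neg]
        intro hgx
        obtain ⟨y, hy⟩ := isConj_iff.1 hgx
        exact hx (hy ▸ hNn.conj_mem g hgN y)) hη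
      have h2 : resA N (classSum (Res M) g) = classSum (Res M) (⟨g, hgN⟩ : N) := by
        refine MonoidAlgebra.coeff_injective (Finsupp.ext fun y => ?_)
        rw [coeff_resA, coeff_classSum, coeff_classSum]
        refine if_congr ⟨fun hy => ?_, fun hy => N.subtype.map_isConj hy⟩ rfl rfl
        obtain ⟨u, hu⟩ := isConj_iff.1 hy
        have hu' : u ∈ N ⊔ Subgroup.centralizer ({g} : Set G) := hCg ▸ Subgroup.mem_top u
        rw [Subgroup.mem_sup_of_normal_left] at hu'
        obtain ⟨n, hn, z, hz, rfl⟩ := hu'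
        refine isConj_iff.2 ⟨⟨n, hn⟩, Subtype.ext ?_⟩
        simp only [Subgroup.coe_mul, Subgroup.coe_inv]
        rw [← hu]
        have hz' := Subgroup.mem_centralizer_singleton_iff.1 hz
        calc n * g * n⁻¹ = n * (z * g * z⁻¹) * n⁻¹ := by rw [hz', mul_inv_cancel_right]
          _ = n * z * g * (n * z)⁻¹ := by group
      rw [h2, lam_classSum η.2, lam_classSum χ.2] at h1
      rw [← h1]
      exact (red_centralChar_ne_zero_iff χ.2 g).2 (hg.2.2 χ hχ)
    refine isDefectGroup_iff.2 ⟨⟨g, hgN⟩, hdef, ?_⟩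
    -- a Sylow subgroup of a normal subgroup
    haveI : (N.subgroupOf (Subgroup.centralizer ({g} : Set G))).Normal := hNn.subgroupOf _
    obtain ⟨E, hE, hPE⟩ := exists_isSylowIn_ge (p := p) (Q := (P ⊓ N).subgroupOf N)
      (H := Subgroup.centralizer ({(⟨g, hgN⟩ : N)} : Set N))
      ((hs.isPGroup.to_le inf_le_left).comap_of_injective N.subtype N.subtype_injective)
      (fun y hy => Subgroup.mem_centralizer_singleton_iff.2
        (Subtype.ext (Subgroup.mem_centralizer_singleton_iff.1 (hs.1 hy.1))))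
    have hEC : E.map N.subtype ≤ Subgroup.centralizer ({g} : Set G) :=
      ((Subgroup.map_mono hE.1).trans hKN.le).trans inf_le_left
    obtain ⟨u, hu, huE⟩ := hs.exists_conj_le ((IsSylowIn.isPGroup hE).map N.subtype) hEC
    have hle : (E.map N.subtype).map (MulAut.conj u).toMonoidHom ≤ P ⊓ N := by
      refine le_inf huE ?_
      rintro _ ⟨_, ⟨y, _, rfl⟩, rfl⟩
      exact hNn.conj_mem _ y.2 u
    have hEc := Subgroup.card_le_of_le hle
    rw [card_map_conj, Subgroup.card_subtype] at hEc
    have : (P ⊓ N).subgroupOf N = E := Subgroup.eq_of_le_of_card_ge hPE (by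
      rwa [Nat.card_congr (Subgroup.subgroupOfEquivOfLe inf_le_right).toEquiv])
    exact this ▸ hE

end normal

end CfsgLib.Blk.Pair
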