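import Cfsg.Agent.Blk.Pair.PIndex
import Cfsg.Agent.Blk.Pair.Nilpotent

/-!
Nilpotency and a normal subgroup of `p`-power index.
-/

set_option autoImplicit false
set_option linter.style.haveILetI false
set_option linter.unusedSectionVars false

namespace CfsgLib.Blk.Pair

open Cfsg CfsgLib.Char CfsgLib.Blk MonoidAlgebra Finset

universe u

variable {G : Type u} [Group G] [Finite G] {M : Ideal AlgInt} [M.IsPrime] {p : ℕ}

theorem cjA_inA (K : Subgroup G) (y : K) (a : KA M K) :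
    cjA (y : G) (inA K a) = inA K (cjA y a) := by
  refine MonoidAlgebra.coeff_injective (Finsupp.ext fun g => ?_)
  rw [coeff_cjA]
  by_cases hg : g ∈ K
  · obtain ⟨l, rfl⟩ : ∃ l : K, (l : G) = g := ⟨⟨g, hg⟩, rfl⟩
    rw [show (y : G)⁻¹ * (l : G) * (y : G) = ((y⁻¹ * l * y : K) : G) from rfl, coeff_inA,
      coeff_inA, coeff_cjA]
  · rw [coeff_inA_of_notMem _ _ hg, coeff_inA_of_notMem _ _ fun h => hg (by
      simpa [mul_assoc] using mul_mem (mul_mem y.2 h) (inv_mem y.2))]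

theorem pairOf_iff_mul (hM : IsPModular p M) [Fact p.Prime] {B : Set (IrrCharacter G)}
    (hB : IsPBlock M B) {Q : Subgroup G} {f : Set (IrrCharacter (Cn Q))}
    (hf : IsBrauerPair p M Q f) :
    IsBrauerPairOf p M B Q f ↔ bid M f * resA (Cn Q) (bid M B) = bid M f := by
  classical
  have hb := isClassCoeff_bid hM hB
  have hz := isClassCoeff_resA (Cn Q) hb
  have hzi : resA (Cn Q) (bid M B) * resA (Cn Q) (bid M B) = resA (Cn Q) (bid M B) := by
    rw [← resA_Cn_mul hM hf.1 (fix_of_classCoeff Q hb) (fix_of_classCoeff Q hb),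
      bid_mul_self hM hB]
  obtain ⟨ξ, hξ⟩ := isPBlock_nonempty hf.2
  rw [bid_mul_idem hM hf.2 hz hzi hξ]
  constructor
  · intro h
    rw [show lam (ξ : Cn Q → ℂ) (resA (Cn Q) (bid M B)) = 1 from
      ((isBrauerPairOf_iff hM).1 h).2.2 ξ hξ, one_smul]
  · intro h
    refine isBrauerPairOf_of_mem hM hB hf hξ ?_
    have h1 := congrArg (lam (ξ : Cn Q → ℂ)) h
    rw [lam_smul ξ.2 _ (isClassCoeff_bid hM hf.2), lam_bid hM hf.2, if_pos hξ, mul_one] at h1
    exact h1

/-- The centralizer in a normal subgroup, two ways. -/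
def inCn (N R : Subgroup G) (hR : R ≤ N) : Cn (R.subgroupOf N) ≃* N.subgroupOf (Cn R) where
  toFun k := ⟨⟨((k : N) : G), (mem_Cn_subgroupOf hR _).1 k.2⟩, (k : N).2⟩
  invFun k := ⟨⟨((k : Cn R) : G), k.2⟩, (mem_Cn_subgroupOf hR _).2 (k : Cn R).2⟩
  left_inv _ := rfl
  right_inv _ := rfl
  map_mul' _ _ := rfl

theorem inA_inCn {N R : Subgroup G} (hR : R ≤ N)
    (e : Set (IrrCharacter (Cn (R.subgroupOf N)))) :
    inA (Cn R) (inA (N.subgroupOf (Cn R)) (bid M (mvSet (inCn N R hR) e))) =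
      inA N (idA M (R.subgroupOf N) e) := by
  refine MonoidAlgebra.coeff_injective (Finsupp.ext fun g => ?_)
  by_cases hg : g ∈ Cn R ∧ g ∈ N
  · have h1 : (⟨g, hg.2⟩ : N) ∈ Cn (R.subgroupOf N) := (mem_Cn_subgroupOf hR _).2 hg.1
    rw [show g = ((⟨g, hg.1⟩ : Cn R) : G) from rfl, coeff_inA,
      show (⟨g, hg.1⟩ : Cn R) = ((inCn N R hR ⟨⟨g, hg.2⟩, h1⟩ : N.subgroupOf (Cn R)) : Cn R) from rfl,
      coeff_inA, coeff_bid_mvSet]
    change _ = (inA N (idA M (R.subgroupOf N) e)).coeff ((⟨g, hg.2⟩ : N) : G)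
    rw [coeff_inA]
    exact (coeff_inA _ _ (⟨⟨g, hg.2⟩, h1⟩ : Cn (R.subgroupOf N))).symm
  · have h2 : (inA N (idA M (R.subgroupOf N) e)).coeff g = 0 := by
      by_cases hgN : g ∈ N
      · rw [show g = ((⟨g, hgN⟩ : N) : G) from rfl, coeff_inA]
        exact coeff_inA_of_notMem _ _ fun h => hg ⟨(mem_Cn_subgroupOf hR _).1 h, hgN⟩
      · exact coeff_inA_of_notMem _ _ hgN
    rw [h2]
    by_cases hgC : g ∈ Cn R
    · rw [show g = ((⟨g, hgC⟩ : Cn R) : G) from rfl, coeff_inA]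
      exact coeff_inA_of_notMem _ _ fun h => hg ⟨hgC, h⟩
    · exact coeff_inA_of_notMem _ _ hgC

variable [Fact p.Prime] {N : Subgroup G} [hNn : N.Normal]

theorem index_subgroupOf_pow (hidx : ∃ k, N.index = p ^ k) (K : Subgroup G) :
    ∃ k, (N.subgroupOf K).index = p ^ k := by
  obtain ⟨k, hk⟩ := hidx
  obtain ⟨j, -, hj⟩ := (Nat.dvd_prime_pow (Fact.out : p.Prime)).1
    (hk ▸ (Subgroup.relIndex_dvd_index_of_normal N K))
  exact ⟨j, hj⟩

variable (hM : IsPModular p M) (hidx : ∃ k, N.index = p ^ k) {B : Set (IrrCharacter G)}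
  (hB : IsPBlock M B) {c : Set (IrrCharacter N)} (hc : IsPBlock M c)
  (hBc : bid M B = inA N (bid M c))
include hM hidx hB hc hBc

/-- Pairs of `c` and of `B` correspond. -/
theorem pair_iff {R : Subgroup G} (hR : R ≤ N) (hRp : IsPGroup p R)
    {e : Set (IrrCharacter (Cn (R.subgroupOf N)))} (he : IsPBlock M e)
    {f : Set (IrrCharacter (Cn R))} (hf : IsPBlock M f)
    (hF : bid M f = nSum M (N.subgroupOf (Cn R)) (mvSet (inCn N R hR) e))
    (hef : inA (N.subgroupOf (Cn R)) (bid M (mvSet (inCn N R hR) e)) * bid M f =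
      inA (N.subgroupOf (Cn R)) (bid M (mvSet (inCn N R hR) e))) :
    IsBrauerPairOf p M c (R.subgroupOf N) e ↔ IsBrauerPairOf p M B R f := by
  classical
  have hL := isPBlock_mvSet (inCn N R hR) he
  have hb := isClassCoeff_bid hM hB
  have hz := isClassCoeff_resA (Cn R) hb
  have hzi : resA (Cn R) (bid M B) * resA (Cn R) (bid M B) = resA (Cn R) (bid M B) := by
    rw [← resA_Cn_mul hM hRp (fix_of_classCoeff R hb) (fix_of_classCoeff R hb),
      bid_mul_self hM hB]
  have hout : ∀ g, g ∉ N.subgroupOf (Cn R) → (resA (Cn R) (bid M B)).coeff g = 0 := fun g hg => by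
    rw [coeff_resA, hBc]
    exact coeff_inA_of_notMem _ _ fun h => hg h
  have hzi' : resA (N.subgroupOf (Cn R)) (resA (Cn R) (bid M B)) *
      resA (N.subgroupOf (Cn R)) (resA (Cn R) (bid M B)) =
      resA (N.subgroupOf (Cn R)) (resA (Cn R) (bid M B)) := by
    rw [← resA_mul _ hout hout, hzi]
  have hmul := inA_bid_mul hM hL (z := resA (Cn R) (bid M B)) hout
  obtain ⟨η, hη⟩ := isPBlock_nonempty he
  have hv : lam (mvChar (inCn N R hR) η : N.subgroupOf (Cn R) → ℂ)
      (resA (N.subgroupOf (Cn R)) (resA (Cn R) (bid M B))) =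
      val (R.subgroupOf N) (η : Cn (R.subgroupOf N) → ℂ) (bid M c) := by
    refine lam_mvChar _ η _ _ fun k => ?_
    rw [coeff_resA, coeff_resA, coeff_resA, hBc]
    exact (coeff_inA N _ (k : N)).symm
  have hep : IsBrauerPair p M (R.subgroupOf N) e :=
    ⟨hRp.comap_of_injective N.subtype N.subtype_injective, he⟩
  rw [pairOf_iff_mul hM hB ⟨hRp, hf⟩]
  constructor
  · intro h
    have h1 : inA (N.subgroupOf (Cn R)) (bid M (mvSet (inCn N R hR) e)) *
        resA (Cn R) (bid M B) = inA (N.subgroupOf (Cn R)) (bid M (mvSet (inCn N R hR) e)) := by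
      rw [hmul, bid_mul_idem hM hL (isClassCoeff_resA _ hz) hzi' ((mem_mvSet _).2 hη), hv,
        ((isBrauerPairOf_iff hM).1 h).2.2 η hη, one_smul]
    rw [hF, nSum, Finset.sum_mul]
    refine Finset.sum_congr rfl fun a ha => ?_
    obtain ⟨y, rfl⟩ := mem_nOrbit.1 ha
    conv_rhs => rw [← h1, map_mul, cjA_eq_of_isClassCoeff hz]
  · intro h
    refine isBrauerPairOf_of_mem hM hc hep hη ?_
    have h1 : inA (N.subgroupOf (Cn R)) (bid M (mvSet (inCn N R hR) e)) *
        resA (Cn R) (bid M B) = inA (N.subgroupOf (Cn R)) (bid M (mvSet (inCn N R hR) e)) := by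
      conv_lhs => rw [← hef, mul_assoc, h]
      exact hef
    rw [hmul, bid_mul_idem hM hL (isClassCoeff_resA _ hz) hzi' ((mem_mvSet _).2 hη), hv] at h1
    have h2 := congrArg (lam (mvChar (inCn N R hR) η : N.subgroupOf (Cn R) → ℂ))
      (inA_injective _ h1)
    rwa [lam_smul (mvChar _ η).2 _ (isClassCoeff_bid hM hL), lam_bid hM hL,
      if_pos ((mem_mvSet _).2 hη), mul_one] at h2

theorem nilpotent_below (h : IsNilpotentBlock p M B) : IsNilpotentBlock p M c := by
  refine ⟨hc, fun R' e he x hx hst hr => ?_⟩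
  obtain ⟨R, hR, rfl⟩ : ∃ R : Subgroup G, R ≤ N ∧ R.subgroupOf N = R' :=
    ⟨R'.map N.subtype, Subgroup.map_subtype_le _, by
      rw [← Subgroup.comap_subtype, Subgroup.comap_map_eq_self_of_injective N.subtype_injective]⟩
  have hRp : IsPGroup p R := he.1.1.of_equiv (Subgroup.subgroupOfEquivOfLe hR)
  have hL := isPBlock_mvSet (inCn N R hR) he.1.2
  obtain ⟨f, hf, hF, hef⟩ := exists_above hM hL (index_subgroupOf_pow hidx (Cn R))
  have hpair := (pair_iff hM hidx hB hc hBc hR hRp he.1.2 hf hF hef).1 he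
  have hxR : (x : G) ∈ Subgroup.normalizer (R : Set G) := by
    have hRsub := (subgroupOf_le_normalizer hR
      (Subgroup.zpowers_le.2 x.2)).1 (fun y hy => by
        obtain ⟨k, hk⟩ := hy
        rw [show y = x ^ k from Subtype.ext (by simpa using hk.symm)]
        exact Subgroup.zpow_mem _ hx k)
    exact hRsub (Subgroup.mem_zpowers _)
  have hxK := normalizer_le_normalizer_Cn R hxR
  have hK := mem_normalizer_subgroup_iff.1 hxK
  have hfix : cjA (x : G) (idA M R f) = idA M R f := by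
    have ha : cjA (x : G) (inA N (idA M (R.subgroupOf N) e)) =
        inA N (idA M (R.subgroupOf N) e) := by
      rw [cjA_inA, ((stabilizesBlock_iff hM he.1.2 x).1 hst).2]
    have haF : inA N (idA M (R.subgroupOf N) e) * idA M R f =
        inA N (idA M (R.subgroupOf N) e) := by
      rw [← inA_inCn hR e, idA, ← map_mul, hef]
    have hne : inA N (idA M (R.subgroupOf N) e) ≠ 0 := fun h0 =>
      bid_ne_zero hM he.1.2 (inA_injective (Cn (R.subgroupOf N)) (inA_injective N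
        (show inA N (idA M (R.subgroupOf N) e) = inA N (inA _ 0) by rw [h0, map_zero, map_zero])))
    rw [idA, ← inA_bid_mvSet (x : G) hK f]
    congr 1
    by_contra hne'
    refine hne ?_
    have h2 : inA N (idA M (R.subgroupOf N) e) * cjA (x : G) (idA M R f) =
        inA N (idA M (R.subgroupOf N) e) := by
      conv_lhs => rw [← ha, ← map_mul, haF, ha]
    rw [← h2, ← haF, idA, ← inA_bid_mvSet (x : G) hK f, mul_assoc, ← map_mul,
      bid_mul_ne hM hf (isPBlock_mvSet _ hf) (fun hh => hne' (by rw [← hh])), map_zero, mul_zero]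
  have hxC := h.2 R f hpair (x : G) hxR
    ((stabilizesBlock_iff hM hf _).2 ⟨hxK, hfix⟩)
    (show ¬ p ∣ orderOf (x : G) by rw [Subgroup.orderOf_coe]; exact hr)
  exact (mem_Cn_subgroupOf hR x).2 hxC

theorem exists_stable_below {R : Subgroup G} (hR : R ≤ N) {f : Set (IrrCharacter (Cn R))}
    (hf : IsBrauerPairOf p M B R f) {x : G} (hxN : x ∈ N)
    (hx : x ∈ Subgroup.normalizer (R : Set G)) (hfix : cjA x (idA M R f) = idA M R f)
    (hr : ¬ p ∣ orderOf x) :
    ∃ e, IsBrauerPairOf p M c (R.subgroupOf N) e ∧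
      cjA x (inA N (idA M (R.subgroupOf N) e)) = inA N (idA M (R.subgroupOf N) e) := by
  classical
  obtain ⟨d, hd, hF, hdf⟩ := exists_below hM (index_subgroupOf_pow hidx (Cn R)) hf.1.2
  have hK := mem_normalizer_subgroup_iff.1 (normalizer_le_normalizer_Cn R hx)
  refine ⟨mvSet (inCn N R hR).symm d, ?_, ?_⟩
  · have e0 : mvSet (inCn N R hR) (mvSet (inCn N R hR).symm d) = d := by
      have := mvSet_symm (inCn N R hR).symm d
      rwa [MulEquiv.symm_symm] at this
    exact (pair_iff hM hidx hB hc hBc hR hf.1.1 (isPBlock_mvSet _ hd) hf.1.2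
      (by rw [e0]; exact hF) (by rw [e0]; exact hdf)).2 hf
  rw [← inA_inCn hR]
  have e0 : mvSet (inCn N R hR) (mvSet (inCn N R hR).symm d) = d := by
    have := mvSet_symm (inCn N R hR).symm d
    rwa [MulEquiv.symm_symm] at this
  rw [e0]
  set a := inA (Cn R) (inA (N.subgroupOf (Cn R)) (bid M d)) with ha
  -- `N ∩ C(R)` fixes every conjugate
  have hLfix : ∀ (l : G), l ∈ N → l ∈ Cn R → ∀ k ∈ Cn R, cjA l (cjA k a) = cjA k a := by
    intro l hlN hlC k hk
    have h1 : ∀ (l' : N.subgroupOf (Cn R)), cjA ((l' : Cn R) : G) a = a := fun l' => by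
      rw [ha, cjA_inA, cjA_inA, cjA_eq_of_isClassCoeff (isClassCoeff_bid hM hd)]
    have hl' : k⁻¹ * l * k ∈ N := by simpa using hNn.conj_mem l hlN k⁻¹
    have h2 := h1 ⟨⟨k⁻¹ * l * k, mul_mem (mul_mem (inv_mem hk) hlC) hk⟩, hl'⟩
    conv_rhs => rw [← h2]
    rw [cjA_mul_apply, cjA_mul_apply]
    congr 1
    group
  obtain ⟨k, hk, hka⟩ : ∃ k ∈ Cn R, cjA x a = cjA k a := by
    have hKN : ∀ g, g ∈ N.subgroupOf (Cn R) ↔
        (cjIso x hK).symm g ∈ N.subgroupOf (Cn R) := by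
      intro g
      rw [Subgroup.mem_subgroupOf, Subgroup.mem_subgroupOf, coe_cjIso_symm]
      constructor
      · intro h; simpa using hNn.conj_mem _ h x⁻¹
      · intro h; simpa [mul_assoc] using hNn.conj_mem _ h x
    let φ : N.subgroupOf (Cn R) ≃* N.subgroupOf (Cn R) :=
      { toFun := fun g => ⟨cjIso x hK g, (hKN _).2 (by rw [MulEquiv.symm_apply_apply]; exact g.2)⟩
        invFun := fun g => ⟨(cjIso x hK).symm g, (hKN _).1 g.2⟩
        left_inv := fun g => Subtype.ext ((cjIso x hK).symm_apply_apply _)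
        right_inv := fun g => Subtype.ext ((cjIso x hK).apply_symm_apply _)
        map_mul' := fun g g' => Subtype.ext (map_mul _ _ _) }
    have hxa : inA (Cn R) (inA (N.subgroupOf (Cn R)) (bid M (mvSet φ d))) = cjA x a := by
      refine MonoidAlgebra.coeff_injective (Finsupp.ext fun g => ?_)
      rw [coeff_cjA]
      by_cases hg : g ∈ Cn R ∧ g ∈ N
      · obtain ⟨g', hg'⟩ := φ.surjective ⟨⟨g, hg.1⟩, hg.2⟩
        have h1 : g = x * ((g' : Cn R) : G) * x⁻¹ := by
          have := congrArg (fun u : N.subgroupOf (Cn R) => ((u : Cn R) : G)) hg'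
          exact this.symm
        rw [show g = (((φ g' : N.subgroupOf (Cn R)) : Cn R) : G) from
          (congrArg (fun u : N.subgroupOf (Cn R) => ((u : Cn R) : G)) hg').symm, coeff_inA,
          coeff_inA, coeff_bid_mvSet,
          show x⁻¹ * (((φ g' : N.subgroupOf (Cn R)) : Cn R) : G) * x = ((g' : Cn R) : G) by
            change x⁻¹ * (x * ((g' : Cn R) : G) * x⁻¹) * x = _
            group,
          ha, coeff_inA, coeff_inA]
      · have h0 : ∀ (s : KA M (N.subgroupOf (Cn R))) (g : G), ¬ (g ∈ Cn R ∧ g ∈ N) →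
            (inA (Cn R) (inA (N.subgroupOf (Cn R)) s)).coeff g = 0 := by
          intro s g hg
          by_cases hgC : g ∈ Cn R
          · rw [show g = ((⟨g, hgC⟩ : Cn R) : G) from rfl, coeff_inA]
            exact coeff_inA_of_notMem _ _ fun h => hg ⟨hgC, h⟩
          · exact coeff_inA_of_notMem _ _ hgC
        rw [h0 _ _ hg, ha, h0 _ _ fun h => hg ⟨(hK g).2 h.1, by
          simpa [mul_assoc] using hNn.conj_mem _ h.2 x⟩]
    have hd' := isPBlock_mvSet φ hd
    have hd'f : inA (N.subgroupOf (Cn R)) (bid M (mvSet φ d)) * bid M f =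
        inA (N.subgroupOf (Cn R)) (bid M (mvSet φ d)) := by
      refine inA_injective (Cn R) ?_
      rw [map_mul, hxa]
      change cjA x a * idA M R f = cjA x a
      conv_lhs => rw [← hfix, ← map_mul]
      rw [ha, idA, ← map_mul, hdf]
    by_contra hno
    have hz : inA (N.subgroupOf (Cn R)) (bid M (mvSet φ d)) *
        nSum M (N.subgroupOf (Cn R)) d = 0 := by
      rw [nSum, Finset.mul_sum]
      refine Finset.sum_eq_zero fun b hb => ?_
      obtain ⟨y, hy⟩ := mem_nOrbit.1 hb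
      obtain ⟨d', hd'', rfl⟩ := nOrbit_block hM hd hb
      rw [← map_mul, bid_mul_ne hM hd' hd'', map_zero]
      rintro h
      refine hno ⟨y, y.2, ?_⟩
      rw [← hxa, h, ← hy, ha, cjA_inA]
    rw [← hF, hd'f] at hz
    exact bid_ne_zero hM hd' (inA_injective _ (hz.trans (map_zero _).symm))
  have hpow : ∀ n : ℕ, cjA (x ^ n) a = cjA (k ^ n) a := by
    intro n
    induction n with
    | zero => simp
    | succ n ih =>
      rw [pow_succ', ← cjA_mul_apply, ih, cjA_mul_apply,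
        show x * k ^ n = (x * k ^ n * x⁻¹ * (k ^ n)⁻¹) * k ^ n * x by group, ← cjA_mul_apply, hka,
        ← cjA_mul_apply, cjA_mul_apply (k ^ n) k, hLfix _ ?_ ?_ _ (mul_mem (pow_mem hk n) hk),
        pow_succ]
      · simpa [mul_assoc] using mul_mem hxN (hNn.conj_mem _ (inv_mem hxN) (k ^ n))
      · have h3 : x * k ^ n * x⁻¹ ∈ Cn R := (hK _).2 (by simpa [mul_assoc] using pow_mem hk n)
        exact mul_mem h3 (inv_mem (pow_mem hk n))
  have hkn : cjA (k ^ orderOf x) a = a := by rw [← hpow, pow_orderOf_eq_one, cjA_one]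
  obtain ⟨j, hj⟩ := hidx
  have hkp : cjA (k ^ p ^ j) a = a := by
    have := hLfix (k ^ p ^ j) (hj ▸ Subgroup.pow_index_mem N k) (pow_mem hk _) 1 (one_mem _)
    rwa [cjA_one] at this
  have hcop : (p ^ j).Coprime (orderOf x) :=
    Nat.Coprime.pow_left j ((Fact.out : p.Prime).coprime_iff_not_dvd.2 hr)
  have hk' : k ∈ fixer a := by
    have h1 : k ^ (p ^ j : ℕ) ∈ fixer a := hkp
    have h2 : k ^ orderOf x ∈ fixer a := hkn
    have h3 := Nat.gcd_eq_gcd_ab (p ^ j) (orderOf x)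
    rw [hcop.gcd_eq_one, Nat.cast_one] at h3
    rw [← zpow_one k, h3, zpow_add, zpow_mul, zpow_mul, zpow_natCast, zpow_natCast]
    exact mul_mem (Subgroup.zpow_mem _ h1 _) (Subgroup.zpow_mem _ h2 _)
  rw [hka]
  exact hk'

theorem nilpotent_above (h : IsNilpotentBlock p M c) : IsNilpotentBlock p M B := by
  refine ⟨hB, fun Q f hf x hx hst hr => ?_⟩
  have hxN : x ∈ N := mem_N_of_regular hidx hr
  have hfixQ := ((stabilizesBlock_iff hM hf.1.2 x).1 hst).2
  have hQx : ∀ q ∈ Q, x * q * x⁻¹ ∈ Q := fun q hq => Fus.conj_mem_of_normalizer hx hq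
  have hxR : x ∈ Subgroup.normalizer ((Q ⊓ N : Subgroup G) : Set G) :=
    Subgroup.mem_normalizer_iff.2 fun z => by
      rw [Subgroup.mem_inf, Subgroup.mem_inf, ← Subgroup.mem_normalizer_iff.1 hx z]
      exact and_congr_right fun _ => ⟨fun h => hNn.conj_mem z h x,
        fun h => by simpa [mul_assoc] using hNn.conj_mem _ h x⁻¹⟩
  obtain ⟨fR, hfR, hle⟩ := exists_subpair hM Q hf.1 (Q := Q ⊓ N) inf_le_left
  have hfixR : cjA x (idA M (Q ⊓ N) fR) = idA M (Q ⊓ N) fR :=
    (below_normalizer_iff hM hf.1 hle hxR).1 (subpairLE_cjPair hM hfR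
      (isBrauerPair_conjBlock x hfR) hf.1 (cjPair_conjBlock x _ fR)
      ⟨(map_conj_eq_of_mem_normalizer hx).symm, hfixQ.symm⟩ hle)
  obtain ⟨e, he, hex⟩ := exists_stable_below hM hidx hB hc hBc inf_le_right
    ((pairOf_congr hM hle).1 hf) hxN hxR hfixR hr
  have hxR' : (⟨x, hxN⟩ : N) ∈ Subgroup.normalizer (((Q ⊓ N).subgroupOf N : Subgroup N) : Set N) :=
    Subgroup.mem_normalizer_iff.2 fun z => Subgroup.mem_normalizer_iff.1 hxR (z : G)
  have hC : x ∈ Cn (Q ⊓ N) := (mem_Cn_subgroupOf inf_le_right _).1 (h.2 _ e he ⟨x, hxN⟩ hxR'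
    ((stabilizesBlock_iff hM he.1.2 _).2 ⟨normalizer_le_normalizer_Cn _ hxR',
      inA_injective N (by rw [← cjA_inA]; exact hex)⟩)
    (show ¬ p ∣ orderOf (⟨x, hxN⟩ : N) by rw [← Subgroup.orderOf_coe]; exact hr))
  intro q hq
  have hrmem : x * q * x⁻¹ * q⁻¹ ∈ Q ⊓ N := by
    refine Subgroup.mem_inf.2 ⟨mul_mem (hQx q hq) (inv_mem hq), ?_⟩
    simpa [mul_assoc] using mul_mem hxN (hNn.conj_mem _ (inv_mem hxN) q)
  have hcomm : x * (x * q * x⁻¹ * q⁻¹) * x⁻¹ = x * q * x⁻¹ * q⁻¹ := by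
    rw [← hC _ hrmem, mul_inv_cancel_right]
  have hpow : ∀ n : ℕ, x ^ n * q * (x ^ n)⁻¹ = (x * q * x⁻¹ * q⁻¹) ^ n * q := by
    intro n
    induction n with
    | zero => simp
    | succ n ih =>
      have e1 : x * (x * q * x⁻¹ * q⁻¹) ^ n * x⁻¹ = (x * q * x⁻¹ * q⁻¹) ^ n := by
        rw [← conj_pow, hcomm]
      calc x ^ (n + 1) * q * (x ^ (n + 1))⁻¹ = x * (x ^ n * q * (x ^ n)⁻¹) * x⁻¹ := by
            simp [pow_succ', mul_assoc]
        _ = (x * (x * q * x⁻¹ * q⁻¹) ^ n * x⁻¹) * (x * q * x⁻¹) := by rw [ih]; group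
        _ = (x * q * x⁻¹ * q⁻¹) ^ (n + 1) * q := by rw [e1, pow_succ]; group
  have h0 := hpow (orderOf x)
  rw [pow_orderOf_eq_one, one_mul, inv_one, mul_one, right_eq_mul] at h0
  obtain ⟨k, hk⟩ := hf.1.1 ⟨_, hrmem.1⟩
  have h1 : orderOf (x * q * x⁻¹ * q⁻¹) = 1 :=
    Nat.eq_one_of_dvd_coprimes (Nat.Coprime.pow_left k ((Fact.out : p.Prime).coprime_iff_not_dvd.2 hr))
      (orderOf_dvd_of_pow_eq_one (by simpa using congrArg Subtype.val hk))
      (orderOf_dvd_of_pow_eq_one h0)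
  rw [orderOf_eq_one_iff, mul_inv_eq_one, mul_inv_eq_iff_eq_mul] at h1
  exact h1.symm

end CfsgLib.Blk.Pair
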