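import Cfsg.Agent.Blk.Pair.Transport

/-!
Brauer pairs read through the Brauer map: uniqueness of normal subpairs, of subpairs, and of the
block of a Brauer pair.
-/

set_option autoImplicit false
set_option linter.style.haveILetI false
set_option linter.unusedSectionVars false

namespace CfsgLib.Blk.Pair

open Cfsg CfsgLib.Char CfsgLib.Blk MonoidAlgebra Finset
open scoped ComplexConjugate

universe u

variable {G : Type u} [Group G] [Finite G] {M : Ideal AlgInt} [M.IsPrime] {p : ℕ}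

/-- The centralizer of a subgroup. -/
abbrev Cn (Q : Subgroup G) : Subgroup G := Subgroup.centralizer (Q : Set G)

theorem Cn_antitone {Q P : Subgroup G} (h : Q ≤ P) : Cn P ≤ Cn Q :=
  fun g hg q hq => hg q (h hq)

theorem mem_Cn_conj_iff {Q : Subgroup G} {y : G} (hy : y ∈ Subgroup.normalizer (Q : Set G))
    (g : G) : g ∈ Cn Q ↔ y⁻¹ * g * y ∈ Cn Q := by
  have h : Q.map (MulAut.conj y).toMonoidHom = Q := by
    ext x
    rw [mem_map_conj]
    exact ((mem_normalizer_subgroup_iff.1 hy) x).symm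
  have h1 := mem_centralizer_map_conj Q y g
  rwa [h] at h1

theorem normalizer_le_normalizer_Cn (Q : Subgroup G) :
    Subgroup.normalizer (Q : Set G) ≤ Subgroup.normalizer (Cn Q : Set G) :=
  fun _ hy => mem_normalizer_subgroup_iff.2 (mem_Cn_conj_iff hy)

/-! ### Fixed elements -/

/-- `a` is fixed under conjugation by the elements of `S`. -/
def Fix (S : Subgroup G) (a : KA M G) : Prop := ∀ y ∈ S, cjA y a = a

theorem fix_iff {S : Subgroup G} {a : KA M G} :
    Fix S a ↔ ∀ y ∈ S, ∀ g, a.coeff (y * g * y⁻¹) = a.coeff g := by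
  constructor
  · intro h y hy g
    conv_lhs => rw [← h y hy, coeff_cjA]
    congr 1
    group
  · intro h y hy
    refine MonoidAlgebra.coeff_injective (Finsupp.ext fun g => ?_)
    rw [coeff_cjA, ← h y⁻¹ (inv_mem hy) g]
    congr 1
    group

theorem Fix.mono {S S' : Subgroup G} {a : KA M G} (h : Fix S a) (hle : S' ≤ S) : Fix S' a :=
  fun y hy => h y (hle hy)

theorem fix_of_classCoeff (S : Subgroup G) {a : KA M G} (ha : IsClassCoeff a) : Fix S a :=
  fun y _ => cjA_eq_of_isClassCoeff ha y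

theorem isClassCoeff_resA_of_fix {S : Subgroup G} {a : KA M G} (h : Fix S a) :
    IsClassCoeff (resA S a) := fun g x => by
  rw [coeff_resA, coeff_resA]
  exact fix_iff.1 h x x.2 g

/-- Fixed by `P` and by its centralizer. -/
def Adm (P : Subgroup G) (a : KA M G) : Prop := Fix P a ∧ Fix (Cn P) a

section adm

variable {P : Subgroup G} {a b : KA M G}

theorem adm_of_classCoeff (ha : IsClassCoeff a) : Adm P a :=
  ⟨fix_of_classCoeff P ha, fix_of_classCoeff _ ha⟩

theorem Adm.mul (ha : Adm P a) (hb : Adm P b) : Adm P (a * b) :=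
  ⟨fun y hy => by rw [map_mul, ha.1 y hy, hb.1 y hy],
    fun y hy => by rw [map_mul, ha.2 y hy, hb.2 y hy]⟩

theorem Adm.smul (ha : Adm P a) (r : Res M) : Adm P (r • a) :=
  ⟨fun y hy => by rw [cjA_smul, ha.1 y hy], fun y hy => by rw [cjA_smul, ha.2 y hy]⟩

theorem adm_one : Adm P (1 : KA M G) :=
  ⟨fun y _ => map_one _, fun y _ => map_one _⟩

theorem adm_zero : Adm P (0 : KA M G) :=
  ⟨fun y _ => map_zero _, fun y _ => map_zero _⟩

theorem Adm.classCoeff (ha : Adm P a) : IsClassCoeff (resA (Cn P) a) :=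
  isClassCoeff_resA_of_fix ha.2

end adm

/-- The truncation to a centralizer is multiplicative on fixed elements. -/
theorem resA_Cn_mul (hM : IsPModular p M) {P : Subgroup G} (hP : IsPGroup p P) {a b : KA M G}
    (ha : Fix P a) (hb : Fix P b) :
    resA (Cn P) (a * b) = resA (Cn P) a * resA (Cn P) b := by
  classical
  haveI := Fact.mk hM.1
  haveI : CharP (Res M) p := charP_res hM
  have h : ∀ c : KA M G, resA (Cn P) (brMap P c) = resA (Cn P) c := fun c => by
    refine MonoidAlgebra.coeff_injective (Finsupp.ext fun g => ?_)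
    rw [coeff_resA, coeff_resA, coeff_brMap, if_pos g.2]
  rw [← h, brMap_mul P hP (fix_iff.1 ha) (fix_iff.1 hb),
    resA_mul _ (fun g hg => coeff_brMap_of_notMem P a hg) (fun g hg => coeff_brMap_of_notMem P b hg),
    h, h]

/-- The reduced central character of `ξ` at the Brauer image. -/
noncomputable def val (P : Subgroup G) (ξ : Cn P → ℂ) (a : KA M G) : Res M :=
  lam ξ (resA (Cn P) a)

section val

variable {P : Subgroup G} {ξ : IrrCharacter (Cn P)} {a b : KA M G}

theorem val_one : val P (ξ : Cn P → ℂ) (1 : KA M G) = 1 := by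
  rw [val, resA_one, lam_one ξ.2]

theorem val_zero : val P (ξ : Cn P → ℂ) (0 : KA M G) = 0 := by
  have h : resA (Cn P) (0 : KA M G) = 0 :=
    MonoidAlgebra.coeff_injective (Finsupp.ext fun g => by simp)
  rw [val, h, lam_zero ξ.2]

theorem val_smul (r : Res M) (ha : Adm P a) :
    val P (ξ : Cn P → ℂ) (r • a) = r * val P (ξ : Cn P → ℂ) a := by
  rw [val, resA_smul, lam_smul ξ.2 r ha.classCoeff]; rfl

theorem val_mul (hM : IsPModular p M) (hP : IsPGroup p P) (ha : Adm P a) (hb : Adm P b) :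
    val P (ξ : Cn P → ℂ) (a * b) = val P (ξ : Cn P → ℂ) a * val P (ξ : Cn P → ℂ) b := by
  rw [val, resA_Cn_mul hM hP ha.1 hb.1, lam_mul ξ.2 ha.classCoeff hb.classCoeff]; rfl

theorem val_idem (hM : IsPModular p M) (hP : IsPGroup p P) (ha : Adm P a) (hi : a * a = a) :
    val P (ξ : Cn P → ℂ) a = 0 ∨ val P (ξ : Cn P → ℂ) a = 1 :=
  IsIdempotentElem.iff_eq_zero_or_one.1 (by rw [IsIdempotentElem, ← val_mul hM hP ha ha, hi])

theorem val_congr {e : Set (IrrCharacter (Cn P))} (he : IsPBlock M e) {ξ' : IrrCharacter (Cn P)}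
    (h : ξ ∈ e) (h' : ξ' ∈ e) (ha : Fix (Cn P) a) :
    val P (ξ : Cn P → ℂ) a = val P (ξ' : Cn P → ℂ) a :=
  lam_congr ξ.2 ξ'.2 (sameBlock_of_mem he h h') (isClassCoeff_resA_of_fix ha)

theorem val_inA_self (c : KA M (Cn P)) :
    val P (ξ : Cn P → ℂ) (inA (Cn P) c) = lam (ξ : Cn P → ℂ) c := by
  rw [val, resA_inA]

theorem val_inA_resA {Q : Subgroup G} (hQP : Q ≤ P) :
    val P (ξ : Cn P → ℂ) (inA (Cn Q) (resA (Cn Q) a)) = val P (ξ : Cn P → ℂ) a := by
  rw [val, val]
  congr 1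
  refine MonoidAlgebra.coeff_injective (Finsupp.ext fun x => ?_)
  have := coeff_inA (Cn Q) (resA (Cn Q) a) ⟨x, Cn_antitone hQP x.2⟩
  simpa using this

end val

theorem fix_Cn_inA (Q : Subgroup G) {z : KA M (Cn Q)} (hz : IsClassCoeff z) :
    Fix (Cn Q) (inA (Cn Q) z) := by
  rw [fix_iff]
  intro y hy g
  by_cases hg : g ∈ Cn Q
  · have h1 := coeff_inA (Cn Q) z (⟨y, hy⟩ * ⟨g, hg⟩ * (⟨y, hy⟩ : Cn Q)⁻¹)
    have h2 := coeff_inA (Cn Q) z ⟨g, hg⟩
    rw [hz ⟨g, hg⟩ ⟨y, hy⟩, ← h2] at h1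
    exact h1
  · rw [coeff_inA_of_notMem _ _ hg, coeff_inA_of_notMem]
    intro h
    exact hg (by simpa [mul_assoc] using mul_mem (mul_mem (inv_mem hy) h) hy)

theorem adm_inA {Q P : Subgroup G} (hQP : Q ≤ P) {z : KA M (Cn Q)} (hz : IsClassCoeff z)
    (hfix : Fix P (inA (Cn Q) z)) : Adm P (inA (Cn Q) z) :=
  ⟨hfix, (fix_Cn_inA Q hz).mono (Cn_antitone hQP)⟩

theorem fix_inA_resA {Q P : Subgroup G} (hPN : P ≤ Subgroup.normalizer (Q : Set G)) {a : KA M G}
    (ha : Fix P a) : Fix P (inA (Cn Q) (resA (Cn Q) a)) := by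
  intro y hy
  refine MonoidAlgebra.coeff_injective (Finsupp.ext fun g => ?_)
  rw [coeff_cjA]
  have hiff := mem_Cn_conj_iff (hPN hy) g
  by_cases hg : g ∈ Cn Q
  · have h1 := coeff_inA (Cn Q) (resA (Cn Q) a) ⟨g, hg⟩
    have h2 := coeff_inA (Cn Q) (resA (Cn Q) a) ⟨_, hiff.1 hg⟩
    simp only [coeff_resA] at h1 h2
    rw [h1, h2]
    conv_rhs => rw [← ha y hy, coeff_cjA]
  · rw [coeff_inA_of_notMem _ _ hg, coeff_inA_of_notMem _ _ fun h => hg (hiff.2 h)]

/-! ### The Brauer pair conditions in the group algebra -/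

theorem memLocalIdeal_brauerOmega_iff (P : Subgroup G) (ξ : IrrCharacter (Cn P)) (β : G → ℂ)
    (a : KA M G) (hβ : ∀ x : Cn P, β x ∈ locRing M)
    (hβc : ∀ x c : Cn P, β (c * x * c⁻¹ : G) = β x)
    (hβa : ∀ x : Cn P, red M (β x) = a.coeff (x : G)) :
    MemLocalIdeal M (brauerOmega P β (ξ : Cn P → ℂ) - 1) ↔ val P (ξ : Cn P → ℂ) a = 1 := by
  haveI := Fintype.ofFinite (Cn P)
  let A : MonoidAlgebra (locRing M) (Cn P) := MonoidAlgebra.ofCoeff (Finsupp.ofSupportFinite
    (fun x : Cn P => (⟨β x, hβ x⟩ : locRing M)) (Set.toFinite _))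
  have hA : IsClassCoeff A := fun g h => Subtype.ext (hβc g h)
  have hAa : redA A = resA (Cn P) a := by
    refine MonoidAlgebra.coeff_injective (Finsupp.ext fun x => ?_)
    rw [coeff_redA, coeff_resA, ← hβa, ← red_coe]
    rfl
  have hom : omega (ξ : Cn P → ℂ) A = brauerOmega P β (ξ : Cn P → ℂ) := by
    rw [omega_eq, brauerOmega, finsum_eq_sum_of_fintype, Finset.sum_div]
    rfl
  rw [val, ← hAa, lam_redA ξ.2 hA, omegaBar, ← hom,
    ← red_eq_zero_iff (sub_mem (omega_mem ξ.2 hA) (one_mem _)),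
    red_sub (omega_mem ξ.2 hA) (one_mem _), red_one, sub_eq_zero]

theorem pairCond_iff (hM : IsPModular p M) (Q : Subgroup G) {B : Set (IrrCharacter G)}
    (hB : IsPBlock M B) (ξ : IrrCharacter (Cn Q)) :
    MemLocalIdeal M (brauerOmega Q (blockCoeff B) (ξ : Cn Q → ℂ) - 1) ↔
      val Q (ξ : Cn Q → ℂ) (bid M B) = 1 :=
  memLocalIdeal_brauerOmega_iff Q ξ _ _ (fun x => blockCoeff_mem hM hB x)
    (fun x c => blockCoeff_conj B (x : G) (c : G)) fun x => (coeff_bid B _).symm

theorem subgroupBlockCoeff_of_mem {H : Subgroup G} (e : Set (IrrCharacter H)) (k : H) :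
    subgroupBlockCoeff H e k = blockCoeff e k := by
  rw [subgroupBlockCoeff, dif_pos k.2]

theorem subgroupBlockCoeff_of_notMem {H : Subgroup G} (e : Set (IrrCharacter H)) {g : G}
    (hg : g ∉ H) : subgroupBlockCoeff H e g = 0 := by
  rw [subgroupBlockCoeff, dif_neg hg]

theorem red_subgroupBlockCoeff (H : Subgroup G) (e : Set (IrrCharacter H)) (g : G) :
    red M (subgroupBlockCoeff H e g) = (inA H (bid M e)).coeff g := by
  refine (coeff_inA_eq H (bid M e) (fun g => red M (subgroupBlockCoeff H e g)) ?_ ?_ g).symm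
  · intro g hg; rw [subgroupBlockCoeff_of_notMem e hg, red_zero]
  · intro k; rw [subgroupBlockCoeff_of_mem, coeff_bid]

theorem subpairCond_iff (hM : IsPModular p M) {Q P : Subgroup G} (hQP : Q ≤ P)
    {f : Set (IrrCharacter (Cn Q))} (hf : IsPBlock M f) (ξ : IrrCharacter (Cn P)) :
    MemLocalIdeal M (brauerOmega P (subgroupBlockCoeff (Cn Q) f) (ξ : Cn P → ℂ) - 1) ↔
      val P (ξ : Cn P → ℂ) (inA (Cn Q) (bid M f)) = 1 := by
  have hmem : ∀ x : Cn P, (x : G) ∈ Cn Q := fun x => Cn_antitone hQP x.2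
  refine memLocalIdeal_brauerOmega_iff P ξ _ _ (fun x => ?_) (fun x c => ?_)
    fun x => red_subgroupBlockCoeff _ f _
  · rw [subgroupBlockCoeff, dif_pos (hmem x)]
    exact blockCoeff_mem hM hf _
  · have h1 := subgroupBlockCoeff_of_mem f
      (⟨_, hmem c⟩ * ⟨_, hmem x⟩ * (⟨_, hmem c⟩ : Cn Q)⁻¹)
    have h2 := subgroupBlockCoeff_of_mem f (⟨_, hmem x⟩ : Cn Q)
    rw [blockCoeff_conj, ← h2] at h1
    exact h1

theorem isBrauerPairOf_iff (hM : IsPModular p M) {B : Set (IrrCharacter G)} {Q : Subgroup G}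
    {e : Set (IrrCharacter (Cn Q))} :
    IsBrauerPairOf p M B Q e ↔ IsBrauerPair p M Q e ∧ IsPBlock M B ∧
      ∀ ξ ∈ e, val Q (ξ : Cn Q → ℂ) (bid M B) = 1 := by
  refine and_congr_right fun _ => and_congr_right fun hB => ?_
  exact forall₂_congr fun ξ _ => pairCond_iff hM Q hB ξ

theorem isBrauerPairOf_of_mem (hM : IsPModular p M) {B : Set (IrrCharacter G)}
    (hB : IsPBlock M B) {Q : Subgroup G} {e : Set (IrrCharacter (Cn Q))}
    (he : IsBrauerPair p M Q e) {ξ : IrrCharacter (Cn Q)} (hξ : ξ ∈ e)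
    (h : val Q (ξ : Cn Q → ℂ) (bid M B) = 1) : IsBrauerPairOf p M B Q e :=
  (isBrauerPairOf_iff hM).2 ⟨he, hB, fun ξ' hξ' =>
    (val_congr he.2 hξ' hξ (fix_of_classCoeff _ (isClassCoeff_bid hM hB))).trans h⟩

theorem isNormalSubpair_iff (hM : IsPModular p M) {Q P : Subgroup G}
    {f : Set (IrrCharacter (Cn Q))} {e : Set (IrrCharacter (Cn P))} :
    IsNormalSubpair p M Q f P e ↔ IsBrauerPair p M Q f ∧ IsBrauerPair p M P e ∧ Q ≤ P ∧
      P ≤ Subgroup.normalizer (Q : Set G) ∧ Fix P (inA (Cn Q) (bid M f)) ∧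
      ∀ ξ ∈ e, val P (ξ : Cn P → ℂ) (inA (Cn Q) (bid M f)) = 1 := by
  refine and_congr_right fun hf => and_congr_right fun _ => and_congr_right fun hQP =>
    and_congr_right fun hPN => and_congr ?_ (forall₂_congr fun ξ _ => subpairCond_iff hM hQP hf.2 ξ)
  refine forall₂_congr fun y hy => ?_
  rw [stabilizesBlock_iff hM hf.2]
  exact and_iff_right (normalizer_le_normalizer_Cn Q (hPN hy))

theorem isNormalSubpair_of_mem (hM : IsPModular p M) {Q P : Subgroup G}
    {f : Set (IrrCharacter (Cn Q))} {e : Set (IrrCharacter (Cn P))}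
    (hf : IsBrauerPair p M Q f) (he : IsBrauerPair p M P e) (hQP : Q ≤ P)
    (hPN : P ≤ Subgroup.normalizer (Q : Set G)) (hfix : Fix P (inA (Cn Q) (bid M f)))
    {ξ : IrrCharacter (Cn P)} (hξ : ξ ∈ e)
    (h : val P (ξ : Cn P → ℂ) (inA (Cn Q) (bid M f)) = 1) : IsNormalSubpair p M Q f P e :=
  (isNormalSubpair_iff hM).2 ⟨hf, he, hQP, hPN, hfix, fun ξ' hξ' =>
    (val_congr he.2 hξ' hξ
      ((fix_Cn_inA Q (isClassCoeff_bid hM hf.2)).mono (Cn_antitone hQP))).trans h⟩

/-! ### Normal subpairs -/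

theorem exists_normalSubpair (hM : IsPModular p M) {Q P : Subgroup G}
    {e : Set (IrrCharacter (Cn P))} (he : IsBrauerPair p M P e) (hQP : Q ≤ P)
    (hPN : P ≤ Subgroup.normalizer (Q : Set G)) :
    ∃ f, IsNormalSubpair p M Q f P e := by
  classical
  haveI := Fact.mk hM.1
  haveI : CharP (Res M) p := charP_res hM
  haveI := Fintype.ofFinite {f : Set (IrrCharacter (Cn Q)) // IsPBlock M f}
  obtain ⟨ξ, hξ⟩ := isPBlock_nonempty he.2
  let Bl := {f : Set (IrrCharacter (Cn Q)) // IsPBlock M f}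
  let E : Bl → KA M G := fun f => inA (Cn Q) (bid M f.1)
  have hEi : Function.Injective E := fun f g h =>
    Subtype.ext (bid_inj hM f.2 g.2 (inA_injective _ h))
  let act : P → Bl → Bl := fun y f =>
    ⟨mvSet (cjIso (y : G) (mem_Cn_conj_iff (hPN y.2))) f.1, isPBlock_mvSet _ f.2⟩
  have hact : ∀ y f, E (act y f) = cjA (y : G) (E f) := fun y f =>
    inA_bid_mvSet _ _ f.1
  letI : MulAction P Bl :=
    { smul := act
      one_smul := fun f => hEi (by
        change E (act 1 f) = E f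
        rw [hact, OneMemClass.coe_one, cjA_one])
      mul_smul := fun x y f => hEi (by
        change E (act (x * y) f) = E (act x (act y f))
        rw [hact, hact, hact, cjA_mul_apply, Subgroup.coe_mul]) }
  have hinv : ∀ (y : P) (f : Bl), val P (ξ : Cn P → ℂ) (E (y • f)) =
      val P (ξ : Cn P → ℂ) (E f) := by
    intro y f
    change val P _ (E (act y f)) = _
    rw [hact, val, val]
    congr 1
    refine MonoidAlgebra.coeff_injective (Finsupp.ext fun x => ?_)
    rw [coeff_resA, coeff_resA, coeff_cjA]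
    congr 1
    rw [mul_assoc, ← x.2 (y : G) y.2, inv_mul_cancel_left]
  have hsum : ∑ f : Bl, val P (ξ : Cn P → ℂ) (E f) = 1 := by
    have hC : ∀ f : Bl, Fix (Cn P) (E f) := fun f =>
      (fix_Cn_inA Q (isClassCoeff_bid hM f.2)).mono (Cn_antitone hQP)
    rw [show ∑ f : Bl, val P (ξ : Cn P → ℂ) (E f) =
      lam (ξ : Cn P → ℂ) (∑ f : Bl, resA (Cn P) (E f)) from
        (lam_sum ξ.2 _ _ fun f _ => isClassCoeff_resA_of_fix (hC f)).symm]
    have h1 : ∑ f : Bl, resA (Cn P) (E f) = resA (Cn P) (∑ f : Bl, E f) := by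
      refine MonoidAlgebra.coeff_injective (Finsupp.ext fun x => ?_)
      simp [MonoidAlgebra.coeff_sum, Finset.sum_apply']
    rw [h1, ← map_sum, sum_bid hM, map_one, resA_one, lam_one ξ.2]
  rw [sum_eq_sum_fixedPoints (p := p) he.1 _ hinv] at hsum
  obtain ⟨f, hf, hne⟩ := Finset.exists_ne_zero_of_sum_ne_zero (hsum ▸ one_ne_zero)
  have hfix : Fix P (E f) := fun y hy => by
    rw [← hact ⟨y, hy⟩ f]
    exact congrArg E ((Finset.mem_filter.1 hf).2 ⟨y, hy⟩)
  have hi : E f * E f = E f := by rw [← map_mul, bid_mul_self hM f.2]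
  refine ⟨f.1, isNormalSubpair_of_mem hM ⟨he.1.to_le hQP, f.2⟩ he hQP hPN hfix hξ ?_⟩
  exact (val_idem hM he.1 (adm_inA hQP (isClassCoeff_bid hM f.2) hfix) hi).resolve_left hne

theorem normalSubpair_unique (hM : IsPModular p M) {Q P : Subgroup G}
    {f f' : Set (IrrCharacter (Cn Q))} {e : Set (IrrCharacter (Cn P))}
    (h : IsNormalSubpair p M Q f P e) (h' : IsNormalSubpair p M Q f' P e) : f = f' := by
  obtain ⟨hf, he, hQP, -, hfix, hv⟩ := (isNormalSubpair_iff hM).1 h
  obtain ⟨hf', -, -, -, hfix', hv'⟩ := (isNormalSubpair_iff hM).1 h'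
  obtain ⟨ξ, hξ⟩ := isPBlock_nonempty he.2
  by_contra hne
  have h1 := val_mul (ξ := ξ) hM he.1 (adm_inA hQP (isClassCoeff_bid hM hf.2) hfix)
    (adm_inA hQP (isClassCoeff_bid hM hf'.2) hfix')
  rw [← map_mul, bid_mul_ne hM hf.2 hf'.2 hne, map_zero, val_zero, hv ξ hξ, hv' ξ hξ,
    one_mul] at h1
  exact zero_ne_one h1

theorem normalSubpair_self (hM : IsPModular p M) {P : Subgroup G} {e : Set (IrrCharacter (Cn P))}
    (he : IsBrauerPair p M P e) : IsNormalSubpair p M P e P e := by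
  classical
  refine (isNormalSubpair_iff hM).2 ⟨he, he, le_rfl, Subgroup.le_normalizer, fun y hy => ?_,
    fun ξ hξ => by rw [val_inA_self, lam_bid hM he.2, if_pos hξ]⟩
  refine MonoidAlgebra.coeff_injective (Finsupp.ext fun g => ?_)
  rw [coeff_cjA]
  by_cases hg : g ∈ Cn P
  · congr 1
    rw [mul_assoc, ← hg y hy, inv_mul_cancel_left]
  · rw [coeff_inA_of_notMem _ _ hg, coeff_inA_of_notMem]
    exact fun h => hg ((mem_Cn_conj_iff (Subgroup.le_normalizer hy) g).2 h)

theorem normalSubpair_eq_of_same (hM : IsPModular p M) {P : Subgroup G}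
    {f e : Set (IrrCharacter (Cn P))} (h : IsNormalSubpair p M P f P e) : f = e :=
  normalSubpair_unique hM h (normalSubpair_self hM h.2.1)

/-- A Brauer pair belongs to the same block as a normal subpair. -/
theorem val_bid_normalSubpair (hM : IsPModular p M) {Q P : Subgroup G}
    {f : Set (IrrCharacter (Cn Q))} {e : Set (IrrCharacter (Cn P))}
    (h : IsNormalSubpair p M Q f P e) {a : KA M G} (ha : IsClassCoeff a) (hi : a * a = a)
    {η : IrrCharacter (Cn Q)} (hη : η ∈ f) {ξ : IrrCharacter (Cn P)} (hξ : ξ ∈ e) :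
    val P (ξ : Cn P → ℂ) a = val Q (η : Cn Q → ℂ) a := by
  obtain ⟨hf, he, hQP, hPN, hfix, hv⟩ := (isNormalSubpair_iff hM).1 h
  have hz := isClassCoeff_resA (Cn Q) ha
  have hzz : resA (Cn Q) a * resA (Cn Q) a = resA (Cn Q) a := by
    rw [← resA_Cn_mul hM hf.1 (fix_of_classCoeff Q ha) (fix_of_classCoeff Q ha), hi]
  have hA := adm_inA hQP (isClassCoeff_bid hM hf.2) hfix
  have hB : Adm P (inA (Cn Q) (resA (Cn Q) a)) :=
    adm_inA hQP hz (fix_inA_resA hPN (fix_of_classCoeff P ha))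
  have h1 := val_mul (ξ := ξ) hM he.1 hA hB
  rw [← map_mul, bid_mul_idem hM hf.2 hz hzz hη, inA_smul, val_smul _ hA, hv ξ hξ, mul_one,
    val_inA_resA hQP, one_mul] at h1
  exact h1.symm

/-- Normal subpairs restrict to intermediate normal subpairs. -/
theorem normalSubpair_between (hM : IsPModular p M) {Q R P : Subgroup G}
    {f : Set (IrrCharacter (Cn Q))} {g : Set (IrrCharacter (Cn R))}
    {e : Set (IrrCharacter (Cn P))} (hQR : Q ≤ R) (hf : IsNormalSubpair p M Q f P e)
    (hg : IsNormalSubpair p M R g P e) : IsNormalSubpair p M Q f R g := by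
  obtain ⟨hfp, he, hQP, hPN, hfix, hv⟩ := (isNormalSubpair_iff hM).1 hf
  obtain ⟨hgp, -, hRP, hPNR, hgfix, hw⟩ := (isNormalSubpair_iff hM).1 hg
  obtain ⟨ξ, hξ⟩ := isPBlock_nonempty he.2
  obtain ⟨η, hη⟩ := isPBlock_nonempty hgp.2
  have hA := adm_inA hQR (isClassCoeff_bid hM hfp.2) (hfix.mono hRP)
  have hz := hA.classCoeff
  have hzz : resA (Cn R) (inA (Cn Q) (bid M f)) * resA (Cn R) (inA (Cn Q) (bid M f)) =
      resA (Cn R) (inA (Cn Q) (bid M f)) := by
    rw [← resA_Cn_mul hM hgp.1 hA.1 hA.1, ← map_mul, bid_mul_self hM hfp.2]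
  have hG := adm_inA hRP (isClassCoeff_bid hM hgp.2) hgfix
  have hB : Adm P (inA (Cn R) (resA (Cn R) (inA (Cn Q) (bid M f)))) :=
    adm_inA hRP hz (fix_inA_resA hPNR hfix)
  have h1 := val_mul (ξ := ξ) hM he.1 hG hB
  rw [← map_mul, bid_mul_idem hM hgp.2 hz hzz hη, inA_smul, val_smul _ hG, hw ξ hξ, mul_one,
    val_inA_resA hRP, hv ξ hξ, one_mul] at h1
  exact isNormalSubpair_of_mem hM hfp hgp hQR (hRP.trans hPN) (hfix.mono hRP) hη h1

/-! ### Chains -/

theorem subpairLE_le {Q P : Subgroup G} {f : Set (IrrCharacter (Cn Q))}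
    {e : Set (IrrCharacter (Cn P))} (h : SubpairLE p M Q f P e) : Q ≤ P := by
  suffices key : ∀ a b : BrauerPairIdx G, Relation.ReflTransGen (NormalSubpairRel p M) a b →
      a.1 ≤ b.1 from key ⟨Q, f⟩ ⟨P, e⟩ h
  intro a b hab
  induction hab with
  | refl => exact le_rfl
  | tail _ h ih => exact ih.trans h.2.2.1

theorem subpairLE_isBrauerPair {Q P : Subgroup G} {f : Set (IrrCharacter (Cn Q))}
    {e : Set (IrrCharacter (Cn P))} (he : IsBrauerPair p M P e) (h : SubpairLE p M Q f P e) :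
    IsBrauerPair p M Q f := by
  suffices key : ∀ a b : BrauerPairIdx G, Relation.ReflTransGen (NormalSubpairRel p M) a b →
      IsBrauerPair p M b.1 b.2 → IsBrauerPair p M a.1 a.2 from key ⟨Q, f⟩ ⟨P, e⟩ h he
  intro a b hab
  induction hab with
  | refl => exact id
  | tail _ h ih => exact fun _ => ih h.1

theorem subpairLE_isBrauerPair' {Q P : Subgroup G} {f : Set (IrrCharacter (Cn Q))}
    {e : Set (IrrCharacter (Cn P))} (hf : IsBrauerPair p M Q f) (h : SubpairLE p M Q f P e) :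
    IsBrauerPair p M P e := by
  suffices key : ∀ a b : BrauerPairIdx G, Relation.ReflTransGen (NormalSubpairRel p M) a b →
      IsBrauerPair p M a.1 a.2 → IsBrauerPair p M b.1 b.2 from key ⟨Q, f⟩ ⟨P, e⟩ h hf
  intro a b hab
  induction hab with
  | refl => exact id
  | tail _ h _ => exact fun _ => h.2.1

/-- A chain ends with a proper normal step or is trivial. -/
theorem subpairLE_cases (hM : IsPModular p M) {Q P : Subgroup G}
    {f : Set (IrrCharacter (Cn Q))} {e : Set (IrrCharacter (Cn P))} (h : SubpairLE p M Q f P e) :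
    (⟨Q, f⟩ : BrauerPairIdx G) = ⟨P, e⟩ ∨ ∃ (R : Subgroup G) (g : Set (IrrCharacter (Cn R))),
      R < P ∧ SubpairLE p M Q f R g ∧ IsNormalSubpair p M R g P e := by
  suffices key : ∀ b : BrauerPairIdx G, Relation.ReflTransGen (NormalSubpairRel p M) ⟨Q, f⟩ b →
      (⟨Q, f⟩ : BrauerPairIdx G) = b ∨ ∃ (R : Subgroup G) (g : Set (IrrCharacter (Cn R))),
        R < b.1 ∧ SubpairLE p M Q f R g ∧ IsNormalSubpair p M R g b.1 b.2 from key ⟨P, e⟩ h
  intro b hb
  induction hb with
  | refl => exact Or.inl rfl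
  | @tail c d hc hcd ih =>
    obtain ⟨R, g⟩ := c
    obtain ⟨S, k⟩ := d
    change IsNormalSubpair p M R g S k at hcd
    rcases lt_or_eq_of_le hcd.2.2.1 with hlt | heq
    · exact Or.inr ⟨R, g, hlt, hc, hcd⟩
    · change R = S at heq
      subst heq
      obtain rfl := normalSubpair_eq_of_same hM hcd
      exact ih

/-- A proper subgroup of a finite `p`-group lies in a proper normal subgroup. -/
theorem exists_normal_between [Fact p.Prime] {Q P : Subgroup G} (hP : IsPGroup p P) (h : Q < P) :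
    ∃ R, Q ≤ R ∧ R < P ∧ P ≤ Subgroup.normalizer (R : Set G) := by
  haveI := hP.isNilpotent
  have hne : Q.subgroupOf P ≠ ⊤ := by
    rw [Ne, Subgroup.subgroupOf_eq_top]
    exact not_le_of_gt h
  obtain ⟨T, hT, hQT⟩ := (eq_top_or_exists_le_coatom (Q.subgroupOf P)).resolve_left hne
  haveI := Subgroup.NormalizerCondition.normal_of_coatom T
    (Group.normalizerCondition_of_isNilpotent (G := P)) hT
  refine ⟨T.map P.subtype, fun q hq => ⟨⟨q, h.le hq⟩, hQT hq, rfl⟩,
    lt_of_le_of_ne (Subgroup.map_subtype_le T) fun heq => hT.1 ?_, fun y hy => ?_⟩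
  · refine Subgroup.map_injective P.subtype_injective ?_
    rw [heq, ← MonoidHom.range_eq_map, Subgroup.range_subtype]
  · rw [Subgroup.mem_normalizer_iff]
    intro g
    constructor
    · rintro ⟨t, ht, rfl⟩
      exact ⟨⟨y, hy⟩ * t * (⟨y, hy⟩ : P)⁻¹,
        (inferInstance : T.Normal).conj_mem t ht _, rfl⟩
    · rintro ⟨t, ht, he⟩
      refine ⟨(⟨y, hy⟩ : P)⁻¹ * t * ⟨y, hy⟩, ?_, ?_⟩
      · simpa using (inferInstance : T.Normal).conj_mem t ht (⟨y, hy⟩ : P)⁻¹
      · change y⁻¹ * (t : G) * y = g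
        rw [show (t : G) = y * g * y⁻¹ from he]
        group

theorem exists_subpair (hM : IsPModular p M) (P : Subgroup G) :
    ∀ {Q : Subgroup G} {e : Set (IrrCharacter (Cn P))}, IsBrauerPair p M P e → Q ≤ P →
      ∃ f, IsBrauerPair p M Q f ∧ SubpairLE p M Q f P e := by
  induction P using WellFoundedLT.induction with
  | _ P ih =>
    intro Q e he hQP
    haveI := Fact.mk hM.1
    rcases eq_or_lt_of_le hQP with rfl | hlt
    · exact ⟨e, he, Relation.ReflTransGen.refl⟩
    obtain ⟨R, hQR, hRP, hPN⟩ := exists_normal_between he.1 hlt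
    obtain ⟨g, hg⟩ := exists_normalSubpair hM he hRP.le hPN
    obtain ⟨f, hf, hle⟩ := ih R hRP hg.1 hQR
    exact ⟨f, hf, hle.tail hg⟩

theorem subpair_unique (hM : IsPModular p M) (P : Subgroup G) :
    ∀ {Q : Subgroup G} {e : Set (IrrCharacter (Cn P))} {f f' : Set (IrrCharacter (Cn Q))},
      SubpairLE p M Q f P e → SubpairLE p M Q f' P e → f = f' := by
  induction P using WellFoundedLT.induction with
  | _ P ih =>
    intro Q e f f' h h'
    rcases subpairLE_cases hM h with heq | ⟨R, g, hR, hQR, hg⟩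
    · rcases subpairLE_cases hM h' with heq' | ⟨R', g', hR', hQR', hg'⟩
      · have := heq.trans heq'.symm
        simpa using this
      · obtain rfl : Q = P := congrArg Sigma.fst heq
        exact absurd (subpairLE_le hQR') (not_le_of_gt hR')
    · rcases subpairLE_cases hM h' with heq' | ⟨R', g', hR', hQR', hg'⟩
      · obtain rfl : Q = P := congrArg Sigma.fst heq'
        exact absurd (subpairLE_le hQR) (not_le_of_gt hR)
      · have hN : P ≤ Subgroup.normalizer ((R ⊓ R' : Subgroup G) : Set G) := fun y hy => by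
          rw [Subgroup.mem_normalizer_iff]
          intro x
          simp only [Subgroup.mem_inf]
          exact and_congr (Subgroup.mem_normalizer_iff.1 (hg.2.2.2.1 hy) x)
            (Subgroup.mem_normalizer_iff.1 (hg'.2.2.2.1 hy) x)
        have hle : Q ≤ R ⊓ R' := le_inf (subpairLE_le hQR) (subpairLE_le hQR')
        obtain ⟨k, hk⟩ := exists_normalSubpair hM hg.2.1 (inf_le_left.trans hR.le) hN
        obtain ⟨m, -, hm⟩ := exists_subpair hM _ hk.1 hle
        have h1 := normalSubpair_between hM inf_le_left hk hg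
        have h2 := normalSubpair_between hM inf_le_right hk hg'
        exact (ih R hR hQR (hm.tail h1)).trans (ih R' hR' (hm.tail h2) hQR')

/-- Subpairs on intermediate subgroups. -/
theorem subpair_between (hM : IsPModular p M) {Q R P : Subgroup G}
    {f : Set (IrrCharacter (Cn Q))} {g : Set (IrrCharacter (Cn R))}
    {e : Set (IrrCharacter (Cn P))} (hg : IsBrauerPair p M R g) (hQR : Q ≤ R)
    (hf : SubpairLE p M Q f P e) (hgle : SubpairLE p M R g P e) : SubpairLE p M Q f R g := by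
  obtain ⟨f', -, hf'⟩ := exists_subpair hM R hg hQR
  rwa [subpair_unique hM P hf (hf'.trans hgle)]

theorem normalSubpair_of_le (hM : IsPModular p M) {Q P : Subgroup G}
    {f : Set (IrrCharacter (Cn Q))} {e : Set (IrrCharacter (Cn P))} (he : IsBrauerPair p M P e)
    (h : SubpairLE p M Q f P e) (hPN : P ≤ Subgroup.normalizer (Q : Set G)) :
    IsNormalSubpair p M Q f P e := by
  obtain ⟨f', hf'⟩ := exists_normalSubpair hM he (subpairLE_le h) hPN
  rwa [subpair_unique hM P h (Relation.ReflTransGen.single hf')]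

/-! ### The block of a Brauer pair -/

theorem existsUnique_block (hM : IsPModular p M) {P : Subgroup G} {e : Set (IrrCharacter (Cn P))}
    (he : IsBrauerPair p M P e) : ∃! B, IsBrauerPairOf p M B P e := by
  classical
  haveI := Fintype.ofFinite {B : Set (IrrCharacter G) // IsPBlock M B}
  obtain ⟨ξ, hξ⟩ := isPBlock_nonempty he.2
  have hsum : ∑ B : {B : Set (IrrCharacter G) // IsPBlock M B},
      val P (ξ : Cn P → ℂ) (bid M B.1) = 1 := by
    have h1 : ∑ B : {B : Set (IrrCharacter G) // IsPBlock M B}, resA (Cn P) (bid M B.1) =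
        resA (Cn P) (1 : KA M G) := by
      rw [← sum_bid (G := G) hM]
      refine MonoidAlgebra.coeff_injective (Finsupp.ext fun x => ?_)
      simp [MonoidAlgebra.coeff_sum, Finset.sum_apply']
    rw [← val_one (ξ := ξ) (M := M), val, ← h1]
    exact (lam_sum ξ.2 _ _ fun B _ => isClassCoeff_resA _ (isClassCoeff_bid hM B.2)).symm
  obtain ⟨B, -, hne⟩ := Finset.exists_ne_zero_of_sum_ne_zero (hsum ▸ one_ne_zero)
  have hA : ∀ B : Set (IrrCharacter G), IsPBlock M B → Adm P (bid M B) := fun B hB =>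
    adm_of_classCoeff (isClassCoeff_bid hM hB)
  refine ⟨B.1, isBrauerPairOf_of_mem hM B.2 he hξ
    ((val_idem hM he.1 (hA _ B.2) (bid_mul_self hM B.2)).resolve_left hne), fun B' hB' => ?_⟩
  obtain ⟨-, hB'p, hv⟩ := (isBrauerPairOf_iff hM).1 hB'
  by_contra hne'
  have h1 := val_mul (ξ := ξ) hM he.1 (hA _ hB'p) (hA _ B.2)
  rw [bid_mul_ne hM hB'p B.2 hne', val_zero, hv ξ hξ, one_mul] at h1
  exact hne h1.symm

theorem pairOf_congr_normal (hM : IsPModular p M) {Q P : Subgroup G}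
    {f : Set (IrrCharacter (Cn Q))} {e : Set (IrrCharacter (Cn P))}
    (h : IsNormalSubpair p M Q f P e) {B : Set (IrrCharacter G)} :
    IsBrauerPairOf p M B P e ↔ IsBrauerPairOf p M B Q f := by
  obtain ⟨η, hη⟩ := isPBlock_nonempty h.1.2
  obtain ⟨ξ, hξ⟩ := isPBlock_nonempty h.2.1.2
  constructor
  · intro hB
    obtain ⟨-, hBp, hv⟩ := (isBrauerPairOf_iff hM).1 hB
    refine isBrauerPairOf_of_mem hM hBp h.1 hη ?_
    rw [← val_bid_normalSubpair hM h (isClassCoeff_bid hM hBp) (bid_mul_self hM hBp) hη hξ]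
    exact hv ξ hξ
  · intro hB
    obtain ⟨-, hBp, hv⟩ := (isBrauerPairOf_iff hM).1 hB
    refine isBrauerPairOf_of_mem hM hBp h.2.1 hξ ?_
    rw [val_bid_normalSubpair hM h (isClassCoeff_bid hM hBp) (bid_mul_self hM hBp) hη hξ]
    exact hv η hη

theorem pairOf_congr (hM : IsPModular p M) {Q P : Subgroup G}
    {f : Set (IrrCharacter (Cn Q))} {e : Set (IrrCharacter (Cn P))}
    (h : SubpairLE p M Q f P e) {B : Set (IrrCharacter G)} :
    IsBrauerPairOf p M B P e ↔ IsBrauerPairOf p M B Q f := by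
  suffices key : ∀ b : BrauerPairIdx G, Relation.ReflTransGen (NormalSubpairRel p M) ⟨Q, f⟩ b →
      (IsBrauerPairOf p M B b.1 b.2 ↔ IsBrauerPairOf p M B Q f) from key ⟨P, e⟩ h
  intro b hb
  induction hb with
  | refl => exact Iff.rfl
  | tail _ h ih => exact (pairOf_congr_normal hM h).trans ih

end CfsgLib.Blk.Pair
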