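import Cfsg.Agent.Blk.Pair.Fusion
import Cfsg.Agent.Blk.Pair.Inertial
import Cfsg.Agent.Fus.Saturation
import Cfsg.Agent.Solv.Basic

/-!
The fusion system of a block on a maximal pair is saturated.
-/

set_option autoImplicit false
set_option linter.style.haveILetI false
set_option linter.unusedSectionVars false

namespace CfsgLib.Blk.Pair

open Cfsg CfsgLib.Char CfsgLib.Blk MonoidAlgebra Finset
open scoped Pointwise

universe u

variable {G : Type u} [Group G] [Finite G] {M : Ideal AlgInt} [M.IsPrime] {p : ℕ}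

theorem mvSet_subSet_inj {T Q : Subgroup G} (hC : Cn Q ≤ T) (hQ : Q ≤ T)
    {f f' : Set (IrrCharacter (Cn Q))} (h : subSet hC hQ f = subSet hC hQ f') : f = f' := by
  rw [← mvSet_symm (cnEquiv hC hQ) f, ← mvSet_symm (cnEquiv hC hQ) f']
  exact congrArg _ h

/-- Chains of normal subpairs in a subgroup containing the centralizers lift. -/
theorem subpairLE_lift (hM : IsPModular p M) {T R R' : Subgroup G} (hCR : Cn R ≤ T) (hR : R ≤ T)
    (hCR' : Cn R' ≤ T) (hR' : R' ≤ T) {k : Set (IrrCharacter (Cn R))}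
    {k' : Set (IrrCharacter (Cn R'))} (_hk : IsBrauerPair p M R k)
    (h : SubpairLE p M (R.subgroupOf T) (subSet hCR hR k) (R'.subgroupOf T)
      (subSet hCR' hR' k')) : SubpairLE p M R k R' k' := by
  suffices key : ∀ b : BrauerPairIdx T,
      Relation.ReflTransGen (NormalSubpairRel p M) ⟨R.subgroupOf T, subSet hCR hR k⟩ b →
      ∀ (S : Subgroup G) (s : Set (IrrCharacter (Cn S))) (h1 : Cn S ≤ T) (h2 : S ≤ T),
        b = ⟨S.subgroupOf T, subSet h1 h2 s⟩ → SubpairLE p M R k S s from key _ h R' k' hCR' hR' rfl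
  intro b hb
  induction hb with
  | refl =>
    intro S s h1 h2 heq
    obtain ⟨he1, he2⟩ := Sigma.mk.injEq .. ▸ heq
    have hRS : R = S := by
      have := congrArg (Subgroup.map T.subtype) he1
      rwa [Subgroup.map_subgroupOf_eq_of_le hR, Subgroup.map_subgroupOf_eq_of_le h2] at this
    subst hRS
    obtain rfl := mvSet_subSet_inj hCR hR (eq_of_heq he2)
    exact Relation.ReflTransGen.refl
  | tail hab hbc ih =>
    rename_i b c
    intro S s h1 h2 heq
    subst heq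
    obtain ⟨S₀', s₀'⟩ := b
    obtain ⟨S₀, hS₀, rfl⟩ : ∃ S₀ : Subgroup G, S₀ ≤ T ∧ S₀.subgroupOf T = S₀' :=
      ⟨S₀'.map T.subtype, Subgroup.map_subtype_le _, by
        rw [← Subgroup.comap_subtype, Subgroup.comap_map_eq_self_of_injective T.subtype_injective]⟩
    have hRS : R ≤ S₀ := fun q hq =>
      subpairLE_le hab (show (⟨q, hR hq⟩ : T) ∈ R.subgroupOf T from hq)
    have hCS : Cn S₀ ≤ T := (Cn_antitone hRS).trans hCR
    change IsNormalSubpair p M (S₀.subgroupOf T) s₀' (S.subgroupOf T) (subSet h1 h2 s) at hbc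
    rw [← subSet_symm hCS hS₀ s₀'] at hbc
    have hs₀ : IsBrauerPair p M S₀ (mvSet (cnEquiv hCS hS₀).symm s₀') :=
      ⟨hbc.1.1.of_equiv (Subgroup.subgroupOfEquivOfLe hS₀), isPBlock_mvSet _ (by
        rw [← subSet_symm hCS hS₀ s₀']; exact hbc.1.2)⟩
    have hs : IsBrauerPair p M S s :=
      ⟨hbc.2.1.1.of_equiv (Subgroup.subgroupOfEquivOfLe h2), by
        have := isPBlock_mvSet (cnEquiv h1 h2).symm hbc.2.1.2
        rwa [mvSet_symm] at this⟩
    exact (ih S₀ (mvSet (cnEquiv hCS hS₀).symm s₀') hCS hS₀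
      (by rw [subSet_symm])).tail
      (show NormalSubpairRel p M ⟨_, _⟩ ⟨_, _⟩ from
        (normalSubpair_subSet_iff hM hCS hS₀ h1 h2 hs₀ hs).1 hbc)

/-- A normal extension of `(Q, f)` is a pair of the local block. -/
theorem isBrauerPairOf_local (hM : IsPModular p M) {T Q R : Subgroup G}
    {F : Set (IrrCharacter T)} {f : Set (IrrCharacter (Cn Q))} {k : Set (IrrCharacter (Cn R))}
    (hF : IsPBlock M F) (hFb : bid M F = resA T (idA M Q f)) (hn : IsNormalSubpair p M Q f R k)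
    (hCR : Cn R ≤ T) (hRT : R ≤ T) :
    IsBrauerPairOf p M F (R.subgroupOf T) (subSet hCR hRT k) := by
  obtain ⟨-, hk, -, -, -, hv⟩ := (isNormalSubpair_iff hM).1 hn
  obtain ⟨ξ, hξ⟩ := isPBlock_nonempty hk.2
  refine isBrauerPairOf_of_mem hM hF (isBrauerPair_subSet hCR hRT hk) ((mem_mvSet _).2 hξ) ?_
  rw [hFb, val_resA]
  exact hv ξ hξ

variable [Fact p.Prime] {P : Subgroup G} {e : Set (IrrCharacter (Cn P))}

theorem below_normalizer_iff (hM : IsPModular p M) (he : IsBrauerPair p M P e) {Q : Subgroup G}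
    {f : Set (IrrCharacter (Cn Q))} (hle : SubpairLE p M Q f P e) {n : G}
    (hn : n ∈ Subgroup.normalizer (Q : Set G)) :
    SubpairLE p M (Q.map (MulAut.conj n).toMonoidHom) (conjBlock Q n f) P e ↔
      cjA n (idA M Q f) = idA M Q f := by
  rw [← (cjPair_conjBlock n Q f).2]
  have key : ∀ R : Subgroup G, R = Q → ∀ k : Set (IrrCharacter (Cn R)), IsBrauerPair p M R k →
      (SubpairLE p M R k P e ↔ idA M R k = idA M Q f) := by
    rintro R rfl k hk
    refine ⟨fun h => by rw [subpair_unique hM P h hle], fun h => ?_⟩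
    rw [bid_inj hM hk.2 (subpairLE_isBrauerPair he hle).2 (inA_injective _ h)]
    exact hle
  exact key _ (map_conj_eq_of_mem_normalizer hn) _
    (isBrauerPair_conjBlock n (subpairLE_isBrauerPair he hle))

variable {B : Set (IrrCharacter G)} {F : FusionSystem P}

/-- Fully normalized subgroups are fully automized. -/
theorem fullyAutomized_of_fullyNormalized (hM : IsPModular p M)
    (hF : IsBlockFusionSystemOn p M B P e F) {Q : Subgroup G} (hQ : F.IsFullyNormalized Q) :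
    F.IsFullyAutomized p Q := by
  classical
  have hmax := hF.1
  have he := hmax.1.1
  have hQP := hQ.1
  obtain ⟨f, hf, hle⟩ := exists_subpair hM P he hQP
  obtain ⟨T, hT'⟩ : ∃ T : Subgroup G, ∀ y, y ∈ T ↔
      y ∈ Subgroup.normalizer (Q : Set G) ∧ cjA y (idA M Q f) = idA M Q f :=
    ⟨Subgroup.normalizer (Q : Set G) ⊓ fixer (idA M Q f), fun y => Iff.rfl⟩
  have hT : ∀ y, y ∈ T ↔
      y ∈ Subgroup.normalizer (Q : Set G) ∧ StabilizesBlock (Cn Q) f y := by
    intro y
    rw [hT', stabilizesBlock_iff hM hf.2]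
    exact and_congr_right fun hy => (and_iff_right (normalizer_le_normalizer_Cn Q hy)).symm
  obtain ⟨⟨hQT, hCT, hfix⟩, Fb, hFb, hFc⟩ := stabilizer_block hM hf T hT
  have hD := (fullyNormalized_iff hM hF hle hT hFb hFc).1 hQ
  have hTN : T ≤ Subgroup.normalizer (Q : Set G) := fun y hy => ((hT y).1 hy).1
  haveI : (Q.subgroupOf T).Normal := Subgroup.normal_subgroupOf_of_le_normalizer hTN
  haveI := Fus.finite_mulAut hQP
  let φ : T →* MulAut Q := Q.normalizerMonoidHom.comp (Subgroup.inclusion hTN)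
  have hφ : ∀ (t : T), ∀ x ∈ Q, Fus.autFun (φ t) x = (t : G) * x * (t : G)⁻¹ := fun t x hx =>
    Fus.normalizerMonoidHom_autFun _ hx
  have hmem : ∀ t : T, φ t ∈ F.autGroup Q := fun t =>
    (Fus.mem_autGroup hQP).2 ((isMap_block_iff hM hF hle).2 ⟨t, hφ t,
      (below_normalizer_iff hM he hle (hTN t.2)).2 ((hT' _).1 t.2).2⟩)
  let ψ : T →* F.autGroup Q := φ.codRestrict _ hmem
  have hψ : Function.Surjective ψ := by
    rintro ⟨α, hα⟩
    obtain ⟨g, hg, hgle⟩ := (isMap_block_iff hM hF hle).1 ((Fus.mem_autGroup hQP).1 hα)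
    have hgN := Fus.mem_normalizer_of_aut hg
    have hgT : g ∈ T := (hT' g).2 ⟨hgN, (below_normalizer_iff hM he hle hgN).1 hgle⟩
    exact ⟨⟨g, hgT⟩, Subtype.ext (Fus.aut_ext fun x hx => (hφ _ x hx).trans (hg x hx).symm)⟩
  have hker : Cn (Q.subgroupOf T) ≤ ψ.ker := by
    intro t ht
    refine MonoidHom.mem_ker.2 (Subtype.ext (Fus.aut_ext fun x hx => ?_))
    refine (hφ t x hx).trans ?_
    rw [← ((mem_Cn_subgroupOf hQT t).1 ht) x hx, mul_inv_cancel_right]
    exact (Fus.autFun_one hx).symm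
  have hf' := isBrauerPairOf_local hM hFb (bid_eq_resA_of_sbc hFc) (normalSubpair_self hM hf)
    hCT hQT
  have hfix' : ∀ x : T, cjA x (idA M (Q.subgroupOf T) (subSet hCT hQT f)) =
      idA M (Q.subgroupOf T) (subSet hCT hQT f) := by
    intro x
    rw [← resA_idA hCT hQT f]
    refine MonoidAlgebra.coeff_injective (Finsupp.ext fun s => ?_)
    rw [coeff_cjA, coeff_resA, coeff_resA]
    conv_rhs => rw [← hfix x x.2, coeff_cjA]
    rfl
  have hcard := card_map_defectGroup hM hf' hfix' hD ψ hψ hker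
  refine ⟨hQP, Sylow.ofCard _ hcard, ?_⟩
  rw [Sylow.coe_ofCard]
  refine le_antisymm ?_ ?_
  · rintro _ ⟨t, ht, rfl⟩
    exact Fus.mem_autInducedBy.2 ⟨t, ht.1, hφ t⟩
  · rintro α hα
    obtain ⟨g, hg, hge⟩ := Fus.mem_autInducedBy.1 (Subgroup.mem_subgroupOf.1 hα)
    have hgN := Fus.mem_normalizer_of_aut hge
    have hgT : g ∈ T :=
      (card_inf_normalizer_le hM he hle hT hFb hFc hD).1 ⟨hg, hgN⟩
    exact ⟨⟨g, hgT⟩, ⟨hg, hgN⟩,
      Subtype.ext (Fus.aut_ext fun x hx => (hφ _ x hx).trans (hge x hx).symm)⟩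

/-- The subgroup `N_P(Q) C_G(Q)` has a local block with maximal pair on `N_P(Q)`, when `C_P(Q)` is
a defect group of the subpair. -/
theorem exists_local_maximal (hM : IsPModular p M) (hmax : IsMaximalBrauerPair p M B P e)
    {Q : Subgroup G} {f : Set (IrrCharacter (Cn Q))} (hle : SubpairLE p M Q f P e)
    (hcent : IsDefectGroup p M f ((P ⊓ Cn Q).subgroupOf (Cn Q))) {N : Subgroup G}
    (hN : N = P ⊓ Subgroup.normalizer (Q : Set G)) :
    ∃ (F₀ : Set (IrrCharacter (N ⊔ Cn Q : Subgroup G))) (k : Set (IrrCharacter (Cn N)))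
      (hC : Cn N ≤ N ⊔ Cn Q),
      IsPBlock M F₀ ∧ bid M F₀ = resA (N ⊔ Cn Q) (idA M Q f) ∧ SubpairLE p M N k P e ∧
        IsMaximalBrauerPair p M F₀ (N.subgroupOf (N ⊔ Cn Q)) (subSet hC le_sup_left k) := by
  classical
  have he := hmax.1.1
  have hf := subpairLE_isBrauerPair he hle
  have hQN : Q ≤ N := hN ▸ le_inf (subpairLE_le hle) Subgroup.le_normalizer
  have hNN : N ≤ Subgroup.normalizer (Q : Set G) := hN ▸ inf_le_right
  have hNP : N ≤ P := hN ▸ inf_le_left
  have hXN : N ⊔ Cn Q ≤ Subgroup.normalizer (Q : Set G) := sup_le hNN (Cn_le_normalizer Q)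
  have hfixX : Fix (N ⊔ Cn Q) (idA M Q f) :=
    fix_sup ((fix_below hM he hle).mono hN.le)
      (fix_Cn_inA Q (isClassCoeff_bid hM hf.2))
  obtain ⟨F₀, hF₀, hF₀c⟩ :=
    exists_local_block hM hf (hQN.trans le_sup_left) le_sup_right hXN hfixX
  have hF₀b := bid_eq_resA_of_sbc (M := M) hF₀c
  obtain ⟨k, hk, hkle⟩ := exists_subpair hM P he hNP
  have hn := normalSubpair_of_le hM hk (subpair_between hM hk hQN hle hkle) hNN
  have hC : Cn N ≤ N ⊔ Cn Q := (Cn_antitone hQN).trans le_sup_right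
  refine ⟨F₀, k, hC, hF₀, hF₀b, hkle, ?_⟩
  obtain ⟨D, hD⟩ := exists_isDefectGroup hM hF₀
  refine maximal_of_card hM (isBrauerPairOf_local hM hF₀ hF₀b hn hC le_sup_left) hD ?_
  have hQD := le_defectGroup_stabilizer hM hF₀ hf.1 (hQN.trans le_sup_left) hXN hD
  obtain ⟨x, hx, hxD⟩ := local_exists_conj hM hF₀ hF₀b hXN hfixX hmax
    ((pairOf_congr hM hle).1 hmax.1) hD (hC_stabilizer le_sup_right hQD)
  have hb : Nat.card ↥(D.map (N ⊔ Cn Q).subtype ⊓ Cn Q) ≤ Nat.card ↥(P ⊓ Cn Q) := by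
    obtain ⟨D', hD', hc⟩ := isDefectGroup_conjBlock hcent x
    have h1 := card_inf_Cn_le hM he hx hD'
    rw [hc, Nat.card_congr (Subgroup.subgroupOfEquivOfLe inf_le_right).toEquiv] at h1
    refine le_trans ?_ h1
    rw [← card_map_conj _ x]
    refine Subgroup.card_le_of_le (le_inf ((Subgroup.map_mono inf_le_left).trans hxD) ?_)
    rintro _ ⟨c, hc, rfl⟩
    exact (mem_centralizer_map_conj Q x _).2 (by simpa [mul_assoc] using hc.2)
  haveI : ((Cn Q).subgroupOf (N ⊔ Cn Q)).Normal :=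
    Subgroup.normal_subgroupOf_of_le_normalizer (hXN.trans (normalizer_le_normalizer_Cn Q))
  have hD2 := Solv.card_sup_mul_card_inf D ((Cn Q).subgroupOf (N ⊔ Cn Q))
  have hN2 := Solv.card_sup_mul_card_inf (N.subgroupOf (N ⊔ Cn Q))
    ((Cn Q).subgroupOf (N ⊔ Cn Q))
  rw [← Subgroup.subgroupOf_sup le_sup_left le_sup_right, Subgroup.subgroupOf_self,
    Subgroup.card_top] at hN2
  have hNC : Nat.card ↥(N.subgroupOf (N ⊔ Cn Q) ⊓ (Cn Q).subgroupOf (N ⊔ Cn Q)) =
      Nat.card ↥(P ⊓ Cn Q) := by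
    rw [← Subgroup.card_subtype (N ⊔ Cn Q), Subgroup.map_inf _ _ _ (Subgroup.subtype_injective _),
      Subgroup.map_subgroupOf_eq_of_le le_sup_left, Subgroup.map_subgroupOf_eq_of_le le_sup_right,
      hN, inf_assoc, inf_eq_right.2 (Cn_le_normalizer Q)]
  have hDC : Nat.card ↥(D ⊓ (Cn Q).subgroupOf (N ⊔ Cn Q)) ≤ Nat.card ↥(P ⊓ Cn Q) := by
    rw [← Subgroup.card_subtype (N ⊔ Cn Q), Subgroup.map_inf _ _ _ (Subgroup.subtype_injective _),
      Subgroup.map_subgroupOf_eq_of_le le_sup_right]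
    exact hb
  rw [hNC] at hN2
  refine le_of_mul_le_mul_right ?_ (Nat.card_pos (α := ↥((Cn Q).subgroupOf (N ⊔ Cn Q))))
  rw [← hD2, ← hN2]
  exact Nat.mul_le_mul (Subgroup.card_le_card_group _) hDC

/-- A subgroup is receptive when the centralizer in `P` is a defect group of its subpair. -/
theorem receptive_of_defectGroup (hM : IsPModular p M) (hF : IsBlockFusionSystemOn p M B P e F)
    {Q : Subgroup G} {f : Set (IrrCharacter (Cn Q))} (hle : SubpairLE p M Q f P e)
    (hcent : IsDefectGroup p M f ((P ⊓ Cn Q).subgroupOf (Cn Q))) : F.IsReceptive Q := by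
  classical
  have hmax := hF.1
  have he := hmax.1.1
  obtain ⟨N, hN⟩ : ∃ N, N = P ⊓ Subgroup.normalizer (Q : Set G) := ⟨_, rfl⟩
  obtain ⟨F₀, kN, hCN, hF₀, hF₀b, hkN, hmaxX⟩ := exists_local_maximal hM hmax hle hcent hN
  refine Fus.isReceptive_of (subpairLE_le hle) fun R L φ hφ himg hRL hL hLφ => ?_
  have hLP : L ≤ P := hL.trans inf_le_left
  obtain ⟨kR, hkR, hkRle⟩ := exists_subpair hM P he (hRL.trans hLP)
  obtain ⟨kL, hkL, hkLle⟩ := exists_subpair hM P he hLP
  obtain ⟨g, hg, hgle⟩ := (isMap_block_iff hM hF hkRle).1 hφ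
  have hgR : R.map (MulAut.conj g).toMonoidHom = Q := by
    rw [← Fus.img_conjF, ← himg]
    exact Fus.img_congr fun x hx => (hg x hx).symm
  subst hgR
  obtain rfl := subpair_unique hM P hle hgle
  have hn₀ := normalSubpair_of_le hM hkL (subpair_between hM hkL hRL hkRle hkLle)
    (hL.trans inf_le_right)
  have hn := normalSubpair_conjBlock hM g hn₀
  have hsub : L.map (MulAut.conj g).toMonoidHom ≤
      N ⊔ Cn (R.map (MulAut.conj g).toMonoidHom) := by
    rintro _ ⟨l, hl, rfl⟩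
    obtain ⟨s, hs, hse⟩ := hLφ l hl
    have hrel : ∀ x ∈ R, s * (g * x * g⁻¹) * s⁻¹ = g * (l * x * l⁻¹) * g⁻¹ := fun x hx => by
      rw [← hg x hx, ← hg _ (Fus.conj_mem_of_normalizer (hL hl).2 hx), hse x hx]
    have hsN : s ∈ N := by
      rw [hN]
      refine ⟨hs, Fus.mem_normalizer_of_conj ?_ ?_⟩
      · rintro _ ⟨x, hx, rfl⟩
        exact ⟨l * x * l⁻¹, Fus.conj_mem_of_normalizer (hL hl).2 hx, (hrel x hx).symm⟩
      · rintro _ ⟨x, hx, rfl⟩
        have h' := Fus.conj_mem_of_normalizer' (hL hl).2 hx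
        refine ⟨l⁻¹ * x * l, h', ?_⟩
        have h2 := hrel _ h'
        simp only [MulEquiv.coe_toMonoidHom, MulAut.conj_apply]
        rw [show g * x * g⁻¹ = g * (l * (l⁻¹ * x * l) * l⁻¹) * g⁻¹ by group, ← h2]
        group
    have hc : s⁻¹ * (g * l * g⁻¹) ∈ Cn (R.map (MulAut.conj g).toMonoidHom) := by
      rintro _ ⟨x, hx, rfl⟩
      simp only [MulEquiv.coe_toMonoidHom, MulAut.conj_apply]
      calc g * x * g⁻¹ * (s⁻¹ * (g * l * g⁻¹))
          = s⁻¹ * (s * (g * x * g⁻¹) * s⁻¹) * (g * l * g⁻¹) := by group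
        _ = s⁻¹ * (g * l * g⁻¹) * (g * x * g⁻¹) := by rw [hrel x hx]; group
    have := Subgroup.mul_mem_sup hsN hc
    rwa [mul_inv_cancel_left] at this
  have hCA : Cn (L.map (MulAut.conj g).toMonoidHom) ≤
      N ⊔ Cn (R.map (MulAut.conj g).toMonoidHom) :=
    (Cn_antitone (Subgroup.map_mono hRL)).trans le_sup_right
  obtain ⟨x, hx⟩ := conj_le_maximal hM hmaxX (isBrauerPairOf_local hM hF₀ hF₀b hn hCA hsub)
  -- back to `G`
  have hxA : (L.map (MulAut.conj g).toMonoidHom).map (MulAut.conj (x : G)).toMonoidHom ≤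
      N ⊔ Cn (R.map (MulAut.conj g).toMonoidHom) := by
    rintro _ ⟨a, ha, rfl⟩
    exact mul_mem (mul_mem x.2 (hsub ha)) (inv_mem x.2)
  have hxC : Cn ((L.map (MulAut.conj g).toMonoidHom).map (MulAut.conj (x : G)).toMonoidHom) ≤
      N ⊔ Cn (R.map (MulAut.conj g).toMonoidHom) := by
    intro c hc
    have h1 := hCA ((mem_centralizer_map_conj _ _ c).1 hc)
    simpa [mul_assoc] using mul_mem (mul_mem x.2 h1) (inv_mem x.2)
  have heA := isBrauerPair_conjBlock g hkL
  have heAx := isBrauerPair_conjBlock (x : G) heA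
  have hcj : CjPair M x ((L.map (MulAut.conj g).toMonoidHom).subgroupOf _)
      (subSet hCA hsub (conjBlock L g kL))
      (((L.map (MulAut.conj g).toMonoidHom).map (MulAut.conj (x : G)).toMonoidHom).subgroupOf _)
      (subSet hxC hxA (conjBlock (L.map (MulAut.conj g).toMonoidHom) (x : G)
        (conjBlock L g kL))) := by
    refine ⟨?_, ?_⟩
    · ext y
      rw [mem_map_conj, Subgroup.mem_subgroupOf, Subgroup.mem_subgroupOf,
        mem_map_conj (D := L.map (MulAut.conj g).toMonoidHom)]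
      rfl
    · rw [← resA_idA, ← resA_idA, (cjPair_conjBlock (x : G) _ _).2]
      refine MonoidAlgebra.coeff_injective (Finsupp.ext fun s => ?_)
      rw [coeff_cjA, coeff_resA, coeff_resA, coeff_cjA]
      rfl
  have h1 := subpairLE_cjPair hM
    (isBrauerPair_conjBlock x (isBrauerPair_subSet hCA hsub heA))
    (isBrauerPair_subSet hxC hxA heAx) hmaxX.1.1
    (by
      have := (cjPair_conjBlock (M := M) x ((L.map (MulAut.conj g).toMonoidHom).subgroupOf _)
        (subSet hCA hsub (conjBlock L g kL))).symm.trans hcj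
      rwa [mul_inv_cancel] at this) (cjPair_one _ _) hx
  have h2 := (subpairLE_lift hM hxC hxA hCN le_sup_left heAx h1).trans hkN
  obtain ⟨n, hn', c, hc, hnc⟩ : (x : G) ∈ (N : Set G) *
      (Cn (R.map (MulAut.conj g).toMonoidHom) : Set G) :=
    (Subgroup.coe_mul_of_left_le_normalizer_right N _ ((hN.le.trans inf_le_right).trans
      (normalizer_le_normalizer_Cn _))) ▸ (SetLike.mem_coe.2 x.2)
  have hnP : n⁻¹ ∈ P := inv_mem (hN.le hn').1
  have h3 := below_conj_mem hM he h2 hnP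
  have hcg : SubpairLE p M (L.map (MulAut.conj (c * g)).toMonoidHom) (conjBlock L (c * g) kL) P e :=
    subpairLE_cjPair hM (isBrauerPair_conjBlock n⁻¹ heAx) (isBrauerPair_conjBlock (c * g) hkL) he
      (by
        have := (((cjPair_conjBlock (M := M) g L kL).trans
          (cjPair_conjBlock (x : G) _ _)).trans (cjPair_conjBlock n⁻¹ _ _)).symm.trans
          (cjPair_conjBlock (c * g) L kL)
        rw [show c * g * (n⁻¹ * ((x : G) * g))⁻¹ = 1 by
          rw [← show n * c = (x : G) from hnc]; group] at this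
        exact this) (cjPair_one P e) h3
  refine ⟨Fus.conjF (c * g), (isMap_block_iff hM hF hkLle).2 ⟨c * g, fun y _ => rfl, hcg⟩,
    fun y hy => ?_⟩
  rw [hg y hy, Fus.conjF_apply]
  have := hc _ ⟨y, hy, rfl⟩
  simp only [MulEquiv.coe_toMonoidHom, MulAut.conj_apply] at this
  calc c * g * y * (c * g)⁻¹ = c * (g * y * g⁻¹) * c⁻¹ := by group
    _ = g * y * g⁻¹ := by rw [← this, mul_inv_cancel_right]

theorem receptive_of_fullyCentralized (hM : IsPModular p M)
    (hF : IsBlockFusionSystemOn p M B P e F) {Q : Subgroup G} (hQ : F.IsFullyCentralized Q) :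
    F.IsReceptive Q := by
  obtain ⟨f, -, hle⟩ := exists_subpair hM P hF.1.1.1 hQ.1
  exact receptive_of_defectGroup hM hF hle ((fullyCentralized_iff hM hF hle).1 hQ)

theorem fullyCentralized_of_fullyNormalized (hM : IsPModular p M)
    (hF : IsBlockFusionSystemOn p M B P e F) {Q : Subgroup G} (hQ : F.IsFullyNormalized Q) :
    F.IsFullyCentralized Q := by
  classical
  have he := hF.1.1.1
  obtain ⟨f, hf, hle⟩ := exists_subpair hM P he hQ.1
  rw [fullyCentralized_iff hM hF hle]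
  obtain ⟨T, hT'⟩ : ∃ T : Subgroup G, ∀ y, y ∈ T ↔
      y ∈ Subgroup.normalizer (Q : Set G) ∧ cjA y (idA M Q f) = idA M Q f :=
    ⟨Subgroup.normalizer (Q : Set G) ⊓ fixer (idA M Q f), fun y => Iff.rfl⟩
  have hT : ∀ y, y ∈ T ↔
      y ∈ Subgroup.normalizer (Q : Set G) ∧ StabilizesBlock (Cn Q) f y := by
    intro y
    rw [hT', stabilizesBlock_iff hM hf.2]
    exact and_congr_right fun hy => (and_iff_right (normalizer_le_normalizer_Cn Q hy)).symm
  obtain ⟨⟨hQT, hCT, hfix⟩, Fb, hFb, hFc⟩ := stabilizer_block hM hf T hT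
  have hTN : T ≤ Subgroup.normalizer (Q : Set G) := fun y hy => ((hT y).1 hy).1
  have hD := (fullyNormalized_iff hM hF hle hT hFb hFc).1 hQ
  have hPT := (card_inf_normalizer_le hM he hle hT hFb hFc hD).1
  have hQN : Q ≤ P ⊓ Subgroup.normalizer (Q : Set G) := le_inf hQ.1 Subgroup.le_normalizer
  obtain ⟨k, hk, hkle⟩ :=
    exists_subpair hM P he (Q := P ⊓ Subgroup.normalizer (Q : Set G)) inf_le_left
  have hn := normalSubpair_of_le hM hk (subpair_between hM hk hQN hle hkle) inf_le_right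
  have hCk := (Cn_antitone hQN).trans hCT
  have hmaxT := maximal_of_card hM
    (isBrauerPairOf_local hM hFb (bid_eq_resA_of_sbc hFc) hn hCk hPT) hD le_rfl
  -- a defect group of `f` moved inside the stabilizer
  obtain ⟨D, hD'⟩ := exists_isDefectGroup hM hf.2
  obtain ⟨R, hRC, rfl⟩ : ∃ R : Subgroup G, R ≤ Cn Q ∧ R.subgroupOf (Cn Q) = D :=
    ⟨D.map (Cn Q).subtype, Subgroup.map_subtype_le _, by
      rw [← Subgroup.comap_subtype,
        Subgroup.comap_map_eq_self_of_injective (Cn Q).subtype_injective]⟩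
  rw [isDefectGroup_inf_Cn_iff hM he hle hD', Nat.card_congr (Subgroup.subgroupOfEquivOfLe hRC).toEquiv]
  obtain ⟨h', hh'⟩ := exists_maximal_of_defectGroup hM hf.2 hD'
  have hSC : ∀ g, g ∈ Cn (Q ⊔ R) ↔ g ∈ Cn Q ∧ g ∈ Cn R := mem_Cn_sup_iff Q R
  obtain ⟨η, hη⟩ := isPBlock_nonempty hh'.1.1.2
  have hv := ((isBrauerPairOf_iff hM).1 hh'.1).2.2 η hη
  rw [← mvChar_symm' (cnEquiv' hRC hSC) η, bid_eq_resA_self Q f, val_resA'] at hv
  have hSp : IsBrauerPair p M (Q ⊔ R) (mvSet (cnEquiv' hRC hSC).symm h') :=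
    ⟨isPGroup_sup hf.1 ((IsDefectGroup.isPGroup hD').of_equiv (Subgroup.subgroupOfEquivOfLe hRC))
      (hRC.trans (Cn_le_normalizer Q)), isPBlock_mvSet _ hh'.1.1.2⟩
  have hnS : IsNormalSubpair p M Q f (Q ⊔ R) (mvSet (cnEquiv' hRC hSC).symm h') :=
    isNormalSubpair_of_mem hM hf hSp le_sup_left
      (sup_le_normalizer (hRC.trans (Cn_le_normalizer Q)))
      (fix_sup (((isNormalSubpair_iff hM).1 (normalSubpair_self hM hf)).2.2.2.2.1)
        ((fix_Cn_inA Q (isClassCoeff_bid hM hf.2)).mono hRC))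
      ((mem_mvSet _).2 hη) hv
  have hST : Q ⊔ R ≤ T := sup_le hQT (hRC.trans hCT)
  obtain ⟨x, hx⟩ := conj_le_maximal hM hmaxT (isBrauerPairOf_local hM hFb (bid_eq_resA_of_sbc hFc)
    hnS ((Cn_antitone le_sup_left).trans hCT) hST)
  rw [← card_map_conj R (x : G)]
  refine Subgroup.card_le_of_le (le_inf ?_ ?_)
  · rintro _ ⟨r, hr, rfl⟩
    exact (subpairLE_le hx ⟨⟨r, hST (Subgroup.mem_sup_right hr)⟩, Subgroup.mem_sup_right hr, rfl⟩).1
  · rintro _ ⟨r, hr, rfl⟩
    rintro q hq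
    have hq' : (x : G)⁻¹ * q * x ∈ Q :=
      Fus.conj_mem_of_normalizer' (hTN x.2) hq
    have := hRC hr _ hq'
    simp only [MulEquiv.coe_toMonoidHom, MulAut.conj_apply]
    calc q * ((x : G) * r * (x : G)⁻¹) = x * (((x : G)⁻¹ * q * x) * r) * (x : G)⁻¹ := by group
      _ = x * r * (x : G)⁻¹ * q := by rw [this]; group

/-- The fusion system of a block on a maximal pair is saturated. -/
theorem isSaturated_block (hM : IsPModular p M) (hF : IsBlockFusionSystemOn p M B P e F) :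
    F.IsSaturated p := fun Q hQ => by
  obtain ⟨R, hc, hR⟩ := Fus.exists_fullyNormalized (F := F) hQ
  exact ⟨R, hc, fullyAutomized_of_fullyNormalized hM hF hR,
    receptive_of_fullyCentralized hM hF (fullyCentralized_of_fullyNormalized hM hF hR)⟩

end CfsgLib.Blk.Pair
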