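import Cfsg.Agent.Blk.Pair.Maximal

/-!
Brauer pairs seen in a subgroup containing the centralizer.
-/

set_option autoImplicit false
set_option linter.style.haveILetI false
set_option linter.unusedSectionVars false

namespace CfsgLib.Blk.Pair

open Cfsg CfsgLib.Char CfsgLib.Blk MonoidAlgebra Finset
open scoped ComplexConjugate

universe u

variable {G : Type u} [Group G] [Finite G] {M : Ideal AlgInt} [M.IsPrime] {p : ℕ}

theorem mem_Cn_subgroupOf {T Q : Subgroup G} (hQ : Q ≤ T) (t : T) :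
    t ∈ Cn (Q.subgroupOf T) ↔ (t : G) ∈ Cn Q := by
  constructor
  · intro h q hq
    exact congrArg Subtype.val (h ⟨q, hQ hq⟩ hq)
  · intro h q hq
    exact Subtype.ext (h _ hq)

/-- The centralizer in a subgroup containing it. -/
def cnEquiv {T Q : Subgroup G} (hC : Cn Q ≤ T) (hQ : Q ≤ T) : Cn Q ≃* Cn (Q.subgroupOf T) where
  toFun k := ⟨⟨k, hC k.2⟩, (mem_Cn_subgroupOf hQ _).2 k.2⟩
  invFun k := ⟨((k : T) : G), (mem_Cn_subgroupOf hQ _).1 k.2⟩
  left_inv _ := rfl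
  right_inv _ := rfl
  map_mul' _ _ := rfl

theorem coe_cnEquiv {T Q : Subgroup G} (hC : Cn Q ≤ T) (hQ : Q ≤ T) (k : Cn Q) :
    (((cnEquiv hC hQ k : Cn (Q.subgroupOf T)) : T) : G) = k := rfl

/-- A set of characters of the centralizer, seen in the subgroup. -/
noncomputable abbrev subSet {T Q : Subgroup G} (hC : Cn Q ≤ T) (hQ : Q ≤ T)
    (f : Set (IrrCharacter (Cn Q))) : Set (IrrCharacter (Cn (Q.subgroupOf T))) :=
  mvSet (cnEquiv hC hQ) f

theorem isBrauerPair_subSet {T Q : Subgroup G} (hC : Cn Q ≤ T) (hQ : Q ≤ T)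
    {f : Set (IrrCharacter (Cn Q))} (h : IsBrauerPair p M Q f) :
    IsBrauerPair p M (Q.subgroupOf T) (subSet hC hQ f) :=
  ⟨h.1.of_equiv (Subgroup.subgroupOfEquivOfLe hQ).symm, isPBlock_mvSet _ h.2⟩

theorem resA_idA {T Q : Subgroup G} (hC : Cn Q ≤ T) (hQ : Q ≤ T)
    (f : Set (IrrCharacter (Cn Q))) :
    resA T (idA M Q f) = idA M (Q.subgroupOf T) (subSet hC hQ f) := by
  refine MonoidAlgebra.coeff_injective (Finsupp.ext fun t => ?_)
  rw [coeff_resA]
  symm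
  refine coeff_inA_eq _ _ (fun t : T => (idA M Q f).coeff (t : G)) (fun t ht => ?_) (fun k => ?_) t
  · exact coeff_inA_of_notMem _ _ fun h => ht ((mem_Cn_subgroupOf hQ t).2 h)
  · obtain ⟨l, rfl⟩ := (cnEquiv hC hQ).surjective k
    rw [coeff_bid_mvSet, coe_cnEquiv]
    exact coeff_inA _ _ l

theorem subgroupBlockCoeff_subSet {T Q : Subgroup G} (hC : Cn Q ≤ T) (hQ : Q ≤ T)
    (f : Set (IrrCharacter (Cn Q))) (t : T) :
    subgroupBlockCoeff (Cn (Q.subgroupOf T)) (subSet hC hQ f) t =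
      subgroupBlockCoeff (Cn Q) f (t : G) := by
  by_cases ht : (t : G) ∈ Cn Q
  · have h1 := subgroupBlockCoeff_of_mem f ⟨(t : G), ht⟩
    have h2 := subgroupBlockCoeff_of_mem (subSet hC hQ f) (cnEquiv hC hQ ⟨(t : G), ht⟩)
    rw [blockCoeff_mvSet, ← h1] at h2
    exact h2
  · rw [subgroupBlockCoeff_of_notMem _ ht,
      subgroupBlockCoeff_of_notMem _ fun h => ht ((mem_Cn_subgroupOf hQ t).1 h)]

/-- Values at Brauer images computed in the subgroup. -/
theorem val_resA {T Q : Subgroup G} (hC : Cn Q ≤ T) (hQ : Q ≤ T) (ξ : IrrCharacter (Cn Q))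
    (a : KA M G) :
    val (Q.subgroupOf T) (mvChar (cnEquiv hC hQ) ξ : Cn (Q.subgroupOf T) → ℂ) (resA T a) =
      val Q (ξ : Cn Q → ℂ) a := by
  refine lam_mvChar _ ξ _ _ fun k => ?_
  rw [coeff_resA, coeff_resA, coeff_resA, coe_cnEquiv]

end CfsgLib.Blk.Pair
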