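import Cfsg.Agent.Blk.Pair.Base
import Cfsg.Prelude.Def_BrauerPairs

/-!
Transport of blocks, idempotents and reduced central characters along isomorphisms; conjugation
inside the group algebra.
-/

set_option autoImplicit false
set_option linter.style.haveILetI false
set_option linter.unusedSectionVars false

namespace CfsgLib.Blk.Pair

open Cfsg CfsgLib.Char CfsgLib.Blk MonoidAlgebra Finset
open scoped ComplexConjugate

universe u v

section iso

variable {K : Type u} {K' : Type v} [Group K] [Group K'] [Finite K] [Finite K']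
  {M : Ideal AlgInt} [M.IsPrime] {p : ℕ} (φ : K ≃* K')

/-- An irreducible character moved along an isomorphism. -/
noncomputable def mvChar (χ : IrrCharacter K) : IrrCharacter K' :=
  ⟨(χ : K → ℂ) ∘ φ.symm, by
    haveI := Fintype.ofFinite K
    haveI := Fintype.ofFinite K'
    exact irr_mulEquiv φ.symm χ.2⟩

theorem mvChar_apply (χ : IrrCharacter K) (k : K') :
    (mvChar φ χ : K' → ℂ) k = (χ : K → ℂ) (φ.symm k) := rfl

theorem mvChar_symm (χ : IrrCharacter K) : mvChar φ.symm (mvChar φ χ) = χ :=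
  Subtype.ext (funext fun k => congrArg (χ : K → ℂ) (φ.symm_apply_apply k))

theorem mvChar_symm' (χ : IrrCharacter K') : mvChar φ (mvChar φ.symm χ) = χ :=
  Subtype.ext (funext fun k => congrArg (χ : K' → ℂ) (φ.apply_symm_apply k))

theorem mvChar_injective : Function.Injective (mvChar φ) :=
  Function.LeftInverse.injective (mvChar_symm φ)

theorem index_centralizer_equiv (k : K) :
    (Subgroup.centralizer ({φ k} : Set K')).index = (Subgroup.centralizer ({k} : Set K)).index := by
  have h : (Subgroup.centralizer ({φ k} : Set K')).comap φ.toMonoidHom =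
      Subgroup.centralizer ({k} : Set K) := by
    ext x
    simp only [Subgroup.mem_comap, Subgroup.mem_centralizer_singleton_iff,
      MulEquiv.coe_toMonoidHom]
    rw [← map_mul, ← map_mul, φ.injective.eq_iff]
  rw [← h]
  exact (Subgroup.index_comap_of_surjective _ φ.surjective).symm

theorem centralChar_mvChar (χ : IrrCharacter K) (k : K) :
    centralChar (mvChar φ χ : K' → ℂ) (φ k) = centralChar (χ : K → ℂ) k := by
  simp only [centralChar, index_centralizer_equiv, mvChar_apply, φ.symm_apply_apply, map_one]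

theorem sameBlock_mvChar {χ ψ : IrrCharacter K} :
    SameBlock M (mvChar φ χ : K' → ℂ) (mvChar φ ψ : K' → ℂ) ↔
      SameBlock M (χ : K → ℂ) (ψ : K → ℂ) := by
  constructor
  · intro h k
    have := h (φ k)
    rwa [centralChar_mvChar, centralChar_mvChar] at this
  · intro h k
    obtain ⟨x, rfl⟩ := φ.surjective k
    rw [centralChar_mvChar, centralChar_mvChar]
    exact h x

/-- A set of characters moved along an isomorphism. -/
def mvSet (b : Set (IrrCharacter K)) : Set (IrrCharacter K') := mvChar φ '' b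

theorem mem_mvSet {b : Set (IrrCharacter K)} {χ : IrrCharacter K} :
    mvChar φ χ ∈ mvSet φ b ↔ χ ∈ b := (mvChar_injective φ).mem_set_image

theorem mem_mvSet' {b : Set (IrrCharacter K)} {ξ : IrrCharacter K'} :
    ξ ∈ mvSet φ b ↔ mvChar φ.symm ξ ∈ b := by
  conv_lhs => rw [← mvChar_symm' φ ξ]
  exact mem_mvSet φ

theorem mvSet_symm (b : Set (IrrCharacter K)) : mvSet φ.symm (mvSet φ b) = b := by
  ext χ
  rw [mem_mvSet', mem_mvSet', MulEquiv.symm_symm, mvChar_symm]

theorem mvSet_injective : Function.Injective (mvSet φ) :=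
  Function.LeftInverse.injective (mvSet_symm φ)

theorem mvSet_blockOf (χ : IrrCharacter K) :
    mvSet φ (blockOf M (χ : K → ℂ)) = blockOf M (mvChar φ χ : K' → ℂ) := by
  ext ξ
  conv_rhs => rw [← mvChar_symm' φ ξ, mem_blockOf, sameBlock_mvChar]
  rw [mem_mvSet']
  rfl

theorem isPBlock_mvSet {b : Set (IrrCharacter K)} (hb : IsPBlock M b) :
    IsPBlock M (mvSet φ b) := by
  obtain ⟨χ, rfl⟩ := hb
  exact ⟨mvChar φ χ, mvSet_blockOf φ χ⟩

theorem blockCoeff_mvSet (b : Set (IrrCharacter K)) (k : K) :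
    blockCoeff (mvSet φ b) (φ k) = blockCoeff b k := by
  rw [blockCoeff, blockCoeff, mvSet, finsum_mem_image (mvChar_injective φ).injOn,
    Nat.card_congr φ.toEquiv]
  simp only [mvChar_apply, φ.symm_apply_apply, map_one]

theorem coeff_bid_mvSet (b : Set (IrrCharacter K)) (k : K) :
    (bid M (mvSet φ b)).coeff (φ k) = (bid M b).coeff k := by
  rw [coeff_bid, coeff_bid, blockCoeff_mvSet]

theorem lam_mvChar (χ : IrrCharacter K) (a : KA M K') (a' : KA M K)
    (h : ∀ k, a'.coeff k = a.coeff (φ k)) :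
    lam (mvChar φ χ : K' → ℂ) a = lam (χ : K → ℂ) a' := by
  haveI := Fintype.ofFinite K
  haveI := Fintype.ofFinite K'
  rw [lam, lam, omegaBar, omegaBar, omega_eq, omega_eq]
  congr 1
  rw [mvChar_apply, map_one]
  congr 1
  refine (Fintype.sum_equiv φ.toEquiv _ _ fun k => ?_).symm
  simp only [MulEquiv.toEquiv_eq_coe, MulEquiv.coe_toEquiv, mvChar_apply, φ.symm_apply_apply]
  congr 2
  exact congrArg (Function.surjInv IsLocalRing.residue_surjective) (h k)

theorem mvSet_principal : mvSet φ (principalBlock M K) = principalBlock M K' := by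
  have h := mvSet_blockOf (M := M) φ ⟨fun _ : K => (1 : ℂ), isIrr_one⟩
  exact h

end iso

variable {G : Type u} [Group G] [Finite G] {M : Ideal AlgInt} [M.IsPrime] {p : ℕ}

/-! ### Embedding and conjugation -/

/-- The group algebra of a subgroup inside that of the group. -/
noncomputable def inA (K : Subgroup G) : KA M K →+* KA M G :=
  MonoidAlgebra.mapDomainRingHom (Res M) K.subtype

theorem coeff_inA (K : Subgroup G) (a : KA M K) (k : K) : (inA K a).coeff (k : G) = a.coeff k := by
  change (MonoidAlgebra.mapDomain ((↑) : K → G) a).coeff (k : G) = _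
  rw [MonoidAlgebra.coeff_mapDomain]
  exact Finsupp.mapDomain_apply Subtype.val_injective _ _

theorem coeff_inA_of_notMem (K : Subgroup G) (a : KA M K) {g : G} (hg : g ∉ K) :
    (inA K a).coeff g = 0 := by
  change (MonoidAlgebra.mapDomain ((↑) : K → G) a).coeff g = _
  rw [MonoidAlgebra.coeff_mapDomain]
  exact Finsupp.mapDomain_of_notMem_range _ _ (by rintro ⟨x, rfl⟩; exact hg x.2)

theorem resA_inA (K : Subgroup G) (a : KA M K) : resA K (inA K a) = a :=
  MonoidAlgebra.coeff_injective (Finsupp.ext fun k => by rw [coeff_resA, coeff_inA])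

theorem inA_injective (K : Subgroup G) : Function.Injective (inA (M := M) K) :=
  Function.LeftInverse.injective (resA_inA K)

theorem inA_smul (K : Subgroup G) (r : Res M) (a : KA M K) : inA K (r • a) = r • inA K a := by
  refine MonoidAlgebra.coeff_injective (Finsupp.ext fun g => ?_)
  by_cases hg : g ∈ K
  · have h1 := coeff_inA K (r • a) ⟨g, hg⟩
    have h2 := coeff_inA K a ⟨g, hg⟩
    simp only [MonoidAlgebra.coeff_smul, Finsupp.smul_apply] at h1 h2 ⊢
    rw [h1, h2]
  · simp [coeff_inA_of_notMem K _ hg]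

theorem coeff_inA_eq (K : Subgroup G) (a : KA M K) (β : G → Res M) (h0 : ∀ g, g ∉ K → β g = 0)
    (h1 : ∀ k : K, β k = a.coeff k) (g : G) : (inA K a).coeff g = β g := by
  by_cases hg : g ∈ K
  · exact (coeff_inA K a ⟨g, hg⟩).trans (h1 ⟨g, hg⟩).symm
  · rw [coeff_inA_of_notMem K a hg, h0 g hg]

/-- Conjugation by `y` on the group algebra. -/
noncomputable def cjA (y : G) : KA M G →+* KA M G :=
  MonoidAlgebra.mapDomainRingHom (Res M) (MulAut.conj y).toMonoidHom

@[simp] theorem coeff_cjA (y : G) (a : KA M G) (g : G) :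
    (cjA y a).coeff g = a.coeff (y⁻¹ * g * y) := by
  change (MonoidAlgebra.mapDomain (fun x => MulAut.conj y x) a).coeff g = _
  rw [MonoidAlgebra.coeff_mapDomain]
  conv_lhs => rw [show g = MulAut.conj y (y⁻¹ * g * y) by simp [mul_assoc]]
  exact Finsupp.mapDomain_apply (MulAut.conj y).injective _ _

theorem cjA_mul_apply (x y : G) (a : KA M G) : cjA x (cjA y a) = cjA (x * y) a := by
  refine MonoidAlgebra.coeff_injective (Finsupp.ext fun g => ?_)
  simp only [coeff_cjA, mul_inv_rev, mul_assoc]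

theorem cjA_one (a : KA M G) : cjA 1 a = a := by
  refine MonoidAlgebra.coeff_injective (Finsupp.ext fun g => ?_)
  simp

theorem cjA_smul (y : G) (r : Res M) (a : KA M G) : cjA y (r • a) = r • cjA y a := by
  refine MonoidAlgebra.coeff_injective (Finsupp.ext fun g => ?_)
  simp

theorem cjA_eq_of_isClassCoeff {a : KA M G} (ha : IsClassCoeff a) (y : G) : cjA y a = a := by
  refine MonoidAlgebra.coeff_injective (Finsupp.ext fun g => ?_)
  have h := ha g y⁻¹
  rw [inv_inv] at h
  rw [coeff_cjA, h]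

/-- Conjugation by `y` between subgroups. -/
def cjIso (y : G) {K K' : Subgroup G} (hK : ∀ g, g ∈ K' ↔ y⁻¹ * g * y ∈ K) : K ≃* K' where
  toFun k := ⟨y * k * y⁻¹, (hK _).2 (by simp [mul_assoc])⟩
  invFun k := ⟨y⁻¹ * k * y, (hK _).1 k.2⟩
  left_inv k := Subtype.ext (by simp [mul_assoc])
  right_inv k := Subtype.ext (by simp [mul_assoc])
  map_mul' k l := Subtype.ext (by simp [mul_assoc])

theorem coe_cjIso (y : G) {K K' : Subgroup G} (hK : ∀ g, g ∈ K' ↔ y⁻¹ * g * y ∈ K) (k : K) :
    ((cjIso y hK k : K') : G) = y * k * y⁻¹ := rfl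

theorem coe_cjIso_symm (y : G) {K K' : Subgroup G} (hK : ∀ g, g ∈ K' ↔ y⁻¹ * g * y ∈ K)
    (k : K') : (((cjIso y hK).symm k : K) : G) = y⁻¹ * k * y := rfl

theorem inA_bid_mvSet (y : G) {K K' : Subgroup G} (hK : ∀ g, g ∈ K' ↔ y⁻¹ * g * y ∈ K)
    (b : Set (IrrCharacter K)) :
    inA K' (bid M (mvSet (cjIso y hK) b)) = cjA y (inA K (bid M b)) := by
  refine MonoidAlgebra.coeff_injective (Finsupp.ext fun g => ?_)
  rw [coeff_cjA]
  refine coeff_inA_eq K' _ (fun g => (inA K (bid M b)).coeff (y⁻¹ * g * y)) (fun g hg => ?_)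
    (fun k => ?_) g
  · exact coeff_inA_of_notMem K _ fun h => hg ((hK g).2 h)
  · obtain ⟨l, rfl⟩ := (cjIso y hK).surjective k
    rw [coeff_bid_mvSet, coe_cjIso]
    simp only [mul_assoc, inv_mul_cancel_left, inv_mul_cancel, mul_one]
    exact coeff_inA K _ l

theorem mem_normalizer_subgroup_iff {K : Subgroup G} {y : G} :
    y ∈ Subgroup.normalizer (K : Set G) ↔ ∀ g, g ∈ K ↔ y⁻¹ * g * y ∈ K := by
  rw [Subgroup.mem_normalizer_iff]
  constructor
  · intro h g
    have := h (y⁻¹ * g * y)
    rw [show y * (y⁻¹ * g * y) * y⁻¹ = g by group] at this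
    exact this.symm
  · intro h g
    have := h (y * g * y⁻¹)
    rw [show y⁻¹ * (y * g * y⁻¹) * y = g by group] at this
    exact this.symm

/-- Stability of a block of a subgroup, read in the group algebra. -/
theorem stabilizesBlock_iff (hM : IsPModular p M) {K : Subgroup G} {f : Set (IrrCharacter K)}
    (hf : IsPBlock M f) (y : G) :
    StabilizesBlock K f y ↔
      y ∈ Subgroup.normalizer (K : Set G) ∧ cjA y (inA K (bid M f)) = inA K (bid M f) := by
  refine and_congr_right fun hy => ?_
  have hK := mem_normalizer_subgroup_iff.1 hy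
  rw [← inA_bid_mvSet y hK f, (inA_injective K).eq_iff]
  have hconj : ∀ (χ χ' : IrrCharacter K), IsConjCharOf K y (χ : K → ℂ) (χ' : K → ℂ) ↔
      χ' = mvChar (cjIso y hK) χ := by
    intro χ χ'
    constructor
    · intro h
      refine Subtype.ext (funext fun k => ?_)
      rw [mvChar_apply]
      refine h ((cjIso y hK).symm k) k ?_
      rw [coe_cjIso_symm]
      group
    · rintro rfl k k' hkk
      rw [mvChar_apply]
      refine congrArg _ (Subtype.ext ?_)
      rw [coe_cjIso_symm, hkk]
      group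
  constructor
  · intro h
    congr 1
    have hf' := isPBlock_mvSet (cjIso y hK) hf
    obtain ⟨χ, hχ⟩ := isPBlock_nonempty hf
    obtain ⟨χ', hχ', hc⟩ := h χ hχ
    rw [hconj] at hc
    subst hc
    exact eq_of_mem_of_mem hf' hf ((mem_mvSet _).2 hχ) hχ'
  · intro h χ hχ
    have h' := bid_inj hM (isPBlock_mvSet (cjIso y hK) hf) hf h
    exact ⟨mvChar (cjIso y hK) χ, h' ▸ (mem_mvSet _).2 hχ, (hconj _ _).2 rfl⟩

/-- Conjugate subgroups have conjugate centralizers. -/
theorem mem_centralizer_map_conj (Q : Subgroup G) (y g : G) :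
    g ∈ Subgroup.centralizer ((Q.map (MulAut.conj y).toMonoidHom : Subgroup G) : Set G) ↔
      y⁻¹ * g * y ∈ Subgroup.centralizer (Q : Set G) := by
  simp only [Subgroup.mem_centralizer_iff, SetLike.mem_coe]
  constructor
  · intro h q hq
    have h1 := h (y * q * y⁻¹) ⟨q, hq, rfl⟩
    calc q * (y⁻¹ * g * y) = y⁻¹ * ((y * q * y⁻¹) * g) * y := by group
      _ = y⁻¹ * g * y * q := by rw [h1]; group
  · rintro h _ ⟨q, hq, rfl⟩
    have h1 := h q hq
    simp only [MulEquiv.coe_toMonoidHom, MulAut.conj_apply]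
    calc y * q * y⁻¹ * g = y * (q * (y⁻¹ * g * y)) * y⁻¹ := by group
      _ = g * (y * q * y⁻¹) := by rw [h1]; group

theorem conjBlock_eq_mvSet (Q : Subgroup G) (x : G)
    (f : Set (IrrCharacter (Subgroup.centralizer (Q : Set G)))) :
    conjBlock Q x f = mvSet (cjIso x (mem_centralizer_map_conj Q x)) f := by
  ext ξ'
  constructor
  · rintro ⟨ξ, hξ, h⟩
    refine ⟨ξ, hξ, Subtype.ext (funext fun c' => ?_)⟩
    rw [mvChar_apply]
    refine (h _ c' ?_).symm
    rw [coe_cjIso_symm]
    group
  · rintro ⟨ξ, hξ, rfl⟩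
    refine ⟨ξ, hξ, fun c c' hc => ?_⟩
    rw [mvChar_apply]
    refine congrArg _ (Subtype.ext ?_)
    rw [coe_cjIso_symm, hc]
    group

end CfsgLib.Blk.Pair
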